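import Cfsg.Agent.FGS73.Turull.Vanish
import Mathlib.RingTheory.RootsOfUnity.AlgebraicallyClosed
import Mathlib.LinearAlgebra.Eigenspace.Zero
import Mathlib.LinearAlgebra.Charpoly.Basic

/-!
An element whose order vanishes in the field, commuting with a free operator of prime order and
fixing its fixed vectors, is impossible on an irreducible subspace.
-/

set_option autoImplicit false
set_option linter.unusedVariables false
set_option linter.style.haveILetI false

namespace Cfsg.Agent.FGS73.Turull

open Subgroup Module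
open scoped commutatorElement
open Cfsg.Agent.LinAct (rho_mul rho_one rho_inv_apply)

variable {K : Type*} [Field K] [IsAlgClosed K]

/-- The eigenspace decomposition of an operator of finite order. -/
theorem eigen_proj {V : Type*} [AddCommGroup V] [Module K V] [FiniteDimensional K V]
    (S : Module.End K V) {r : ℕ} (hr : (r : K) ≠ 0) (hS : S ^ r = 1) :
    ∃ (μ : Finset K) (P : K → Module.End K V), μ.card = r ∧ (1 : K) ∈ μ ∧
      (∀ c ∈ μ, ∀ v, S (P c v) = c • P c v) ∧
      (∀ c ∈ μ, ∀ v, S v = c • v → P c v = v) ∧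
      (∀ c ∈ μ, ∀ d ∈ μ, c ≠ d → ∀ v, P c (P d v) = 0) ∧
      (∀ c ∈ μ, ∀ X, S * X = X * S → P c * X = X * P c) ∧
      (∀ c ∈ μ, LinearMap.trace K V (P c) = (finrank K (LinearMap.range (P c)) : K)) ∧
      (∀ v, ∑ c ∈ μ, P c v = v) ∧
      ∑ c ∈ μ, finrank K (LinearMap.range (P c)) = finrank K V ∧
      ∑ c ∈ μ, finrank K (LinearMap.range (P c)) ^ 2 ≤ finrank K (commutant S) := by
  classical
  haveI : NeZero (r : K) := ⟨hr⟩
  have hr0 : 0 < r := Nat.pos_of_ne_zero fun h => hr (by simp [h])
  obtain ⟨ζ, hζ⟩ := HasEnoughRootsOfUnity.exists_primitiveRoot K r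
  set μ := Polynomial.nthRootsFinset r (1 : K) with hμ
  have hμmem : ∀ c, c ∈ μ ↔ c ^ r = 1 := fun c => Polynomial.mem_nthRootsFinset hr0 1
  have hμcard : μ.card = r := hζ.card_nthRootsFinset
  have hc0 : ∀ c ∈ μ, c ≠ 0 := fun c hc h => by
    have := (hμmem c).1 hc
    rw [h, zero_pow hr0.ne'] at this
    exact zero_ne_one this
  let P : K → Module.End K V := fun c => (r : K)⁻¹ • ∑ i ∈ Finset.range r, (c⁻¹) ^ i • S ^ i
  have hSP : ∀ c ∈ μ, ∀ v, S (P c v) = c • P c v := by
    intro c hc v
    simp only [P, LinearMap.smul_apply, map_smul, LinearMap.sum_apply, map_sum, Finset.smul_sum,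
      smul_smul]
    let F : ℕ → V := fun i => (c * ((r : K)⁻¹ * c⁻¹ ^ i)) • (S ^ i) v
    have hper : F r = F 0 := by
      simp [F, hS, inv_pow, (hμmem c).1 hc]
    refine Eq.trans (Finset.sum_congr rfl fun i _ => ?_)
      ((show ∑ i ∈ Finset.range r, F (i + 1) = ∑ i ∈ Finset.range r, F i by
        have h1 := Finset.sum_range_succ' F r
        rw [Finset.sum_range_succ F r, hper] at h1
        exact (add_right_cancel h1).symm))
    show ((r : K)⁻¹ * c⁻¹ ^ i) • S ((S ^ i) v) = F (i + 1)
    rw [← Module.End.mul_apply, ← pow_succ']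
    show _ = (c * ((r : K)⁻¹ * c⁻¹ ^ (i + 1))) • (S ^ (i + 1)) v
    congr 1
    have := hc0 c hc
    rw [pow_succ]
    field_simp
  have hgeom : ∀ c ∈ μ, ∀ d ∈ μ, c ≠ d → ∑ i ∈ Finset.range r, (c⁻¹) ^ i * d ^ i = 0 := by
    intro c hc d hd hne
    simp only [← mul_pow]
    have hx : c⁻¹ * d ≠ 1 := fun h => hne (by
      have := congrArg (c * ·) h
      simp only [← mul_assoc, mul_inv_cancel₀ (hc0 c hc), one_mul, mul_one] at this
      exact this.symm)
    rw [geom_sum_eq hx, mul_pow, inv_pow, (hμmem c).1 hc, (hμmem d).1 hd]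
    simp
  have hPeig : ∀ c ∈ μ, ∀ d ∈ μ, ∀ v, S v = d • v → P c v = if c = d then v else 0 := by
    intro c hc d hd v hv
    have hpow : ∀ i, (S ^ i) v = d ^ i • v := by
      intro i
      induction i with
      | zero => simp
      | succ i ih => rw [pow_succ', Module.End.mul_apply, ih, map_smul, hv, smul_smul, ← pow_succ]
    simp only [P, LinearMap.smul_apply, LinearMap.sum_apply, hpow, smul_smul, ← Finset.sum_smul]
    split_ifs with h
    · subst h
      rw [Finset.sum_congr rfl fun i _ => by
        rw [← mul_pow, inv_mul_cancel₀ (hc0 c hc), one_pow]]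
      simp [inv_mul_cancel₀ hr]
    · rw [hgeom c hc d hd h, mul_zero, zero_smul]
  have hsum : ∀ v, ∑ c ∈ μ, P c v = v := by
    intro v
    simp only [P, LinearMap.smul_apply, LinearMap.sum_apply, ← Finset.smul_sum]
    rw [Finset.sum_comm, Finset.sum_eq_single_of_mem 0 (Finset.mem_range.2 hr0) ?_]
    · simp [hμcard, ← Nat.cast_smul_eq_nsmul K, inv_smul_smul₀ hr]
    intro i hi hi0
    rw [← Finset.sum_smul]
    convert zero_smul K _
    -- a nontrivial power sum over the roots of unity vanishes
    have hζi : ζ⁻¹ ^ i ≠ 1 := fun h =>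
      hζ.inv.pow_ne_one_of_pos_of_lt hi0 (Finset.mem_range.1 hi) h
    have hperm : ∑ c ∈ μ, c⁻¹ ^ i = ∑ c ∈ μ, (ζ * c)⁻¹ ^ i := by
      refine Finset.sum_nbij' (fun c => ζ⁻¹ * c) (fun c => ζ * c) ?_ ?_ ?_ ?_ ?_
      · intro c hc
        rw [hμmem] at hc ⊢
        rw [mul_pow, inv_pow, hζ.pow_eq_one, inv_one, one_mul, hc]
      · intro c hc
        rw [hμmem] at hc ⊢
        rw [mul_pow, hζ.pow_eq_one, one_mul, hc]
      · intro c _
        simp [← mul_assoc, hζ.ne_zero hr0.ne']
      · intro c _
        simp [← mul_assoc, hζ.ne_zero hr0.ne']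
      · intro c _
        rw [← mul_assoc, mul_inv_cancel₀ (hζ.ne_zero hr0.ne'), one_mul]
    simp only [mul_inv, mul_pow, ← Finset.mul_sum] at hperm
    by_contra h
    exact hζi (mul_right_cancel₀ h (by rw [one_mul]; exact hperm.symm))
  have hcommX : ∀ c ∈ μ, ∀ X, S * X = X * S → P c * X = X * P c := fun c _ X hX =>
    (Commute.smul_left (Commute.sum_left _ _ _ fun i _ =>
      ((show Commute S X from hX).pow_left i).smul_left _) _).eq
  have hfix : ∀ c ∈ μ, ∀ v, S v = c • v → P c v = v := fun c hc v hv => by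
    rw [hPeig c hc c hc v hv, if_pos rfl]
  have hortho : ∀ c ∈ μ, ∀ d ∈ μ, c ≠ d → ∀ v, P c (P d v) = 0 := fun c hc d hd hne v => by
    rw [hPeig c hc d hd _ (hSP d hd v), if_neg hne]
  have htr : ∀ c ∈ μ, LinearMap.trace K V (P c) = (finrank K (LinearMap.range (P c)) : K) :=
    fun c hc => LinearMap.IsProj.trace ⟨fun v => LinearMap.mem_range_self _ v, by
      rintro _ ⟨v, rfl⟩
      exact hfix c hc _ (hSP c hc v)⟩
  -- the decomposition
  let Rg : μ → Submodule K V := fun c => LinearMap.range (P c)
  let e : V ≃ₗ[K] Π c : μ, Rg c :=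
    { toFun := fun v c => (P (c : K)).rangeRestrict v
      map_add' := fun v w => funext fun c => map_add _ v w
      map_smul' := fun a v => funext fun c => map_smul _ a v
      invFun := fun f => ∑ c : μ, (f c : V)
      left_inv := fun v => (Finset.sum_coe_sort μ fun c => P c v).trans (hsum v)
      right_inv := fun f => funext fun c => Subtype.ext (by
        show P (c : K) (∑ d : μ, (f d : V)) = (f c : V)
        rw [map_sum, Finset.sum_eq_single c ?_ (fun h => absurd (Finset.mem_univ c) h)]
        · obtain ⟨v, hv⟩ := (f c).2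
          rw [← hv]
          exact hfix c c.2 _ (hSP c c.2 v)
        · intro d _ hdc
          obtain ⟨v, hv⟩ := (f d).2
          rw [← hv]
          exact hortho c c.2 d d.2 (fun h => hdc (Subtype.ext h.symm)) v) }
  have hdim : ∑ c ∈ μ, finrank K (LinearMap.range (P c)) = finrank K V := by
    rw [e.finrank_eq, finrank_pi_fintype K, ← Finset.sum_coe_sort μ]
  have hblock : ∑ c ∈ μ, finrank K (LinearMap.range (P c)) ^ 2 ≤ finrank K (commutant S) := by
    let Ψ : (Π c : μ, Module.End K (Rg c)) →ₗ[K] Module.End K V :=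
      ∑ c : μ, (LinearMap.llcomp K V (Rg c) V (Rg c).subtype) ∘ₗ
        ((LinearMap.lcomp K (Rg c) (P (c : K)).rangeRestrict) ∘ₗ LinearMap.proj c)
    have hΨ : ∀ f v, Ψ f v = ∑ c : μ, ((f c ((P (c : K)).rangeRestrict v) : Rg c) : V) :=
      fun f v => by simp [Ψ]
    have hmem : ∀ f, Ψ f ∈ commutant S := by
      intro f
      refine LinearMap.ext fun v => ?_
      simp only [Module.End.mul_apply, hΨ, map_sum]
      refine Finset.sum_congr rfl fun c _ => ?_
      have h2 : (P (c : K)).rangeRestrict (S v) = (c : K) • (P (c : K)).rangeRestrict v := by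
        refine Subtype.ext ?_
        show P (c : K) (S v) = (c : K) • P (c : K) v
        rw [← hSP c c.2 v, ← Module.End.mul_apply, ← Module.End.mul_apply, hcommX c c.2 S rfl]
      obtain ⟨w, hw⟩ := (f c ((P (c : K)).rangeRestrict v)).2
      rw [h2, map_smul, Submodule.coe_smul, ← hw]
      exact hSP c c.2 w
    have hinj : Function.Injective (Ψ.codRestrict (commutant S) hmem) := by
      rw [← LinearMap.ker_eq_bot, LinearMap.ker_codRestrict, LinearMap.ker_eq_bot']
      intro f hf
      funext c
      refine LinearMap.ext fun w => ?_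
      have h1 := LinearMap.congr_fun hf (w : V)
      have hw : ∀ d : μ, (P (d : K)).rangeRestrict (w : V) = if h : c = d then h ▸ w else 0 := by
        intro d
        refine Subtype.ext ?_
        obtain ⟨v, hv⟩ := w.2
        show P (d : K) (w : V) = _
        rw [← hv]
        by_cases h : c = d
        · subst h
          rw [dif_pos rfl]
          exact (hfix c c.2 _ (hSP c c.2 v)).trans hv
        · rw [dif_neg h]
          exact hortho d d.2 c c.2 (fun x => h (Subtype.ext x.symm)) v
      rw [hΨ, Finset.sum_eq_single c (fun d _ hd => by rw [hw, dif_neg (Ne.symm hd)]; simp)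
        (fun h => absurd (Finset.mem_univ c) h), hw, dif_pos rfl, LinearMap.zero_apply] at h1
      exact Subtype.ext h1
    refine le_trans (le_of_eq ?_) (LinearMap.finrank_le_finrank_of_injective hinj)
    rw [finrank_pi_fintype K, ← Finset.sum_coe_sort μ]
    exact Finset.sum_congr rfl fun c _ => by
      rw [sq]; exact (Module.finrank_linearMap K K (Rg c) (Rg c)).symm
  exact ⟨μ, P, hμcard, (hμmem 1).2 (one_pow r), hSP, hfix, hortho, hcommX, htr, hsum, hdim,
    hblock⟩

variable {H : Type*} [Group H] [Finite H] {U : Type*} [AddCommGroup U] [Module K U]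
  [FiniteDimensional K U] {ρ : H →* Module.End K U} {E R : Subgroup H} {lam : H → K}
  {M : Submodule K U}

omit [Finite H] in
/-- The trace of a product of operators through the group. -/
theorem Frame.trace_mul (F : Frame ρ E R lam M) [Fintype E] (A B : Module.End K M) :
    (Fintype.card E : K) * LinearMap.trace K M (A * B) = (finrank K M : K) *
      ∑ e : E, LinearMap.trace K M (A * F.act e) * LinearMap.trace K M (F.act e⁻¹ * B) := by
  classical
  haveI : Nontrivial M := Submodule.nontrivial_iff_ne_bot.2 F.ne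
  let b := Module.finBasis K M
  have htr : ∀ T : Module.End K M, LinearMap.trace K M T = ∑ i, b.repr (T (b i)) i := fun T => by
    rw [LinearMap.trace_eq_matrix_trace K b, Matrix.trace]
    exact Finset.sum_congr rfl fun i _ => by rw [Matrix.diag_apply, LinearMap.toMatrix_apply]
  have havg : ∀ i j, ∃ c : K, (finrank K M : K) * c = (if i = j then (Fintype.card E : K) else 0) ∧
      ∀ w : M, ∑ e : E, b.repr (F.act e⁻¹ w) j • F.act e (b i) = c • w := by
    intro i j
    let X : Module.End K M := (b.coord j).smulRight (b i)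
    obtain ⟨c, hc⟩ := scalar_of_commutes F.act_simple _ fun f => commutes_of_sum_conj F.act X f
    refine ⟨c, ?_, fun w => ?_⟩
    · have h1 := congrArg (LinearMap.trace K M) hc
      rw [map_sum, map_smul, LinearMap.trace_one, smul_eq_mul] at h1
      have h2 : ∀ e : E, LinearMap.trace K M (F.act e * X * F.act e⁻¹) =
          if i = j then (1 : K) else 0 := fun e => by
        rw [LinearMap.trace_mul_comm, ← mul_assoc, ← map_mul, inv_mul_cancel, map_one, one_mul]
        refine (LinearMap.trace_smulRight _ _).trans ?_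
        simp [Finsupp.single_apply]
      rw [Finset.sum_congr rfl fun e _ => h2 e, Finset.sum_const, Finset.card_univ,
        nsmul_eq_mul] at h1
      rw [mul_comm, ← h1]
      split_ifs <;> simp
    · have h1 := congrArg (fun f : Module.End K M => f w) hc
      simp only [LinearMap.sum_apply, LinearMap.smul_apply, Module.End.one_apply] at h1
      refine Eq.trans (Finset.sum_congr rfl fun e _ => ?_) h1
      simp [X, Module.End.mul_apply]
  choose c hc hsum using havg
  have h1 : ∑ e : E, LinearMap.trace K M (A * F.act e) * LinearMap.trace K M (F.act e⁻¹ * B) =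
      ∑ i, ∑ j, b.repr (A (c i j • B (b j))) i := by
    simp only [htr, Finset.sum_mul_sum]
    rw [Finset.sum_comm]
    refine Finset.sum_congr rfl fun i _ => ?_
    rw [Finset.sum_comm]
    refine Finset.sum_congr rfl fun j _ => ?_
    rw [← hsum i j, map_sum, map_sum, Finset.sum_apply']
    refine Finset.sum_congr rfl fun e _ => ?_
    simp [Module.End.mul_apply, map_smul, mul_comm]
  rw [h1, htr, Finset.mul_sum, Finset.mul_sum]
  refine Finset.sum_congr rfl fun i _ => ?_
  rw [Finset.mul_sum]
  simp only [map_smul, Finsupp.smul_apply, smul_eq_mul, ← mul_assoc, hc]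
  simp [Module.End.mul_apply]

set_option maxHeartbeats 2000000 in
/-- The impossible configuration. -/
theorem Frame.char_false (F : Frame ρ E R lam M) (hne : ¬ E ≤ R) {σ l : H} {r o p : ℕ}
    (hr : r.Prime) (hσr : σ ^ r = 1) (hr0 : (r : K) ≠ 0) (hor : o.Coprime r) (hcomm : σ * l = l * σ)
    (hp : p.Prime) (hp0 : (p : K) = 0) (hcase : (o = p ∧ p ≠ 2) ∨ (o = 4 ∧ p = 2))
    (hσE : σ ∈ normalizer (E : Set H)) (hlE : l ∈ normalizer (E : Set H))
    (hσR : σ ∈ normalizer (R : Set H)) (hlR : l ∈ normalizer (R : Set H))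
    (hσM : ∀ w ∈ M, ρ σ w ∈ M) (hlM : ∀ w ∈ M, ρ l w ∈ M)
    (hlo : ∀ w ∈ M, ρ (l ^ o) w = w) (hlE' : ∀ x ∈ E, l ^ o ∈ modFix R x)
    {t : ℕ} (hlp : l ^ p ^ t = 1)
    (hfree : ∀ x ∈ E, ∀ i, 0 < i → i < r * o → (σ * l) ^ i ∈ modFix R x → x ∈ R)
    (hfix : ∀ w ∈ M, ρ σ w = w → ρ l w = w) : False := by
  classical
  cases nonempty_fintype E
  haveI : Nontrivial M := Submodule.nontrivial_iff_ne_bot.2 F.ne
  haveI := Fact.mk hp
  haveI := Fact.mk hr
  haveI : CharP K p := by
    obtain ⟨q, hq⟩ := CharP.exists K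
    have h1 : q ∣ p := (CharP.cast_eq_zero_iff K q p).1 hp0
    rcases (Nat.dvd_prime hp).1 h1 with h | h
    · exact absurd h (CharP.char_ne_one K q)
    · exact h ▸ hq
  have hc : Commute σ l := hcomm
  have ho4 : 3 ≤ o := by
    have := hp.two_le
    rcases hcase with ⟨h, h'⟩ | ⟨h, -⟩ <;> omega
  have hpo : p ∣ o := by
    rcases hcase with ⟨h, -⟩ | ⟨h, h'⟩
    · exact h ▸ dvd_rfl
    · rw [h, h']; norm_num
  have hσfree : ∀ x ∈ E, σ ∈ modFix R x → x ∈ R := by
    intro x hx hm
    refine hfree x hx o (by omega) ((lt_mul_iff_one_lt_left (by omega : 0 < o)).2 hr.one_lt) ?_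
    rw [hc.mul_pow]
    exact mul_mem (pow_mem hm o) (hlE' x hx)
  -- elements acting as the identity are central
  have hid : ∀ y ∈ E, (∀ w ∈ M, ρ y w = w) → y ∈ R := by
    intro y hy h1
    by_contra hyR
    obtain ⟨u, hu, hne'⟩ := F.nd y hy hyR
    refine hne' (F.bracket.eq_of fun w hw => ?_)
    rw [one_smul, ← F.scal _ (F.comm u hu y hy) w hw, commutatorElement_def, rho_mul, rho_mul,
      rho_mul]
    have hi : ρ y⁻¹ w = w := by conv_lhs => rw [← h1 w hw]; rw [rho_inv_apply]
    rw [hi, h1 _ (F.inv _ (inv_mem hu) w hw), ← rho_mul, mul_inv_cancel, rho_one]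
  have hnoscal : ∀ g : H, g ∈ normalizer (E : Set H) → g ∈ normalizer (R : Set H) →
      (∀ w ∈ M, ρ g w ∈ M) → (∀ x ∈ E, g ∈ modFix R x → x ∈ R) →
      (∃ a : K, ∀ w ∈ M, ρ g w = a • w) → False := by
    rintro g hgE hgR hgM hgfree ⟨a, ha⟩
    refine hne fun x hx => hgfree x hx ⟨hgR, ?_⟩
    have hgx := Coprime.conj_mem_of_mem_normalizer hgE hx
    refine hid _ (mul_mem (inv_mem hx) hgx) fun w hw => ?_
    have hgw := inv_apply_mem hgM w hw
    rw [rho_mul, rho_mul, rho_mul, ha _ (F.inv x hx _ hgw), ← map_smul (ρ x), ← ha _ hgw,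
      ← rho_mul ρ g, mul_inv_cancel, rho_one, rho_inv_apply]
  let S : Module.End K M := (ρ σ).restrict hσM
  let L : Module.End K M := (ρ l).restrict hlM
  have hSpow : ∀ (k : ℕ) (w : M), ((S ^ k) w : U) = ρ (σ ^ k) (w : U) := by
    intro k w
    induction k with
    | zero => simp
    | succ k ih => rw [pow_succ', pow_succ', Module.End.mul_apply, rho_mul, ← ih]; rfl
  have hLpow : ∀ (k : ℕ) (w : M), ((L ^ k) w : U) = ρ (l ^ k) (w : U) := by
    intro k w
    induction k with
    | zero => simp
    | succ k ih => rw [pow_succ', pow_succ', Module.End.mul_apply, rho_mul, ← ih]; rfl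
  have hSr : S ^ r = 1 := LinearMap.ext fun w => Subtype.ext (by rw [hSpow, hσr, rho_one]; rfl)
  have hSL : S * L = L * S := LinearMap.ext fun w => Subtype.ext (by
    show ρ σ (ρ l (w : U)) = ρ l (ρ σ (w : U))
    rw [← rho_mul, ← rho_mul, hcomm])
  obtain ⟨μ, P, hμcard, h1μ, hSP, hPfix, hPortho, hPcomm, hPtr, hPsum, hPdim, hPblock⟩ :=
    eigen_proj S hr0 hSr
  set a : K → ℕ := fun c => finrank K (LinearMap.range (P c)) with ha
  set d := finrank K M with hd
  -- the count for `σ`
  have hcount : r * ∑ c ∈ μ, a c ^ 2 ≤ r + d ^ 2 - 1 ∧ 1 ≤ d ^ 2 := by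
    obtain ⟨E', Z', ψ, η, hbase, hidx, hE', f, hf, hρ'⟩ := exists_hhBase ρ M F.ne E R F.le lam
      F.inv F.scal F.comm F.nd σ (fun x hx => Coprime.conj_mem_of_mem_normalizer hσE hx)
      (fun x hx => Coprime.conj_mem_of_mem_normalizer hσR hx) hσM hr.pos F.card
      (fun w _ => by rw [hσr, rho_one])
      (fun x hx i hi hir hm => hσfree x hx
        (pow_mem_iff_of_prime' hr hσr hi hir ⟨pow_mem hσR i, hm⟩)) (c₀ := (1 : K)) (one_pow r)
    haveI : Finite E' := Finite.of_surjective f hf
    obtain ⟨h1, h2, h3⟩ := hbase.simple_count (fun L hL => F.act_simple L fun e w hw => by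
      have := hL (f e) w hw
      convert this using 1
      exact Subtype.ext (hρ' e w).symm) hE' hr.pos
    rw [inv_one, one_smul, ← h1, ← hd] at h3
    have hd1 : 1 ≤ d ^ 2 := Nat.one_le_pow _ _ Module.finrank_pos
    refine ⟨(Nat.mul_le_mul_left r (hPblock.trans h3)).trans ?_, hd1⟩
    rw [mul_add, mul_one]
    have := Nat.mul_div_le (d ^ 2 - 1) r
    omega
  -- multiplicities differ by at most one
  have hclose : ∀ c ∈ μ, ∀ c' ∈ μ, a c ≤ a c' + 1 := by
    intro c hcm c' hcm'
    by_contra hgt
    push Not at hgt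
    have hcne : c ≠ c' := fun h => by subst h; omega
    have e1 : ∑ x ∈ μ, ((r : ℤ) * a x - d) ^ 2 =
        (r : ℤ) * ((r : ℤ) * ∑ x ∈ μ, (a x : ℤ) ^ 2 - (d : ℤ) ^ 2) := by
      simp only [sub_sq, Finset.sum_add_distrib, Finset.sum_sub_distrib, Finset.sum_const, hμcard,
        nsmul_eq_mul, mul_pow, ← Finset.mul_sum, ← Finset.sum_mul]
      have : ∑ x ∈ μ, (a x : ℤ) = (d : ℤ) := by exact_mod_cast hPdim
      rw [this]
      ring
    have e2 : ((r : ℤ) * a c - d) ^ 2 + ((r : ℤ) * a c' - d) ^ 2 ≤
        ∑ x ∈ μ, ((r : ℤ) * a x - d) ^ 2 := by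
      rw [← Finset.sum_pair (f := fun x => ((r : ℤ) * a x - d) ^ 2) hcne]
      exact Finset.sum_le_sum_of_subset_of_nonneg (by
        intro x hx
        rcases Finset.mem_insert.1 hx with h | h
        · exact h ▸ hcm
        · exact Finset.mem_singleton.1 h ▸ hcm') fun x _ _ => sq_nonneg _
    have e3 : (r : ℤ) * ∑ x ∈ μ, (a x : ℤ) ^ 2 - (d : ℤ) ^ 2 ≤ (r : ℤ) - 1 := by
      obtain ⟨h1, h2⟩ := hcount
      have : ((r * ∑ x ∈ μ, a x ^ 2 : ℕ) : ℤ) ≤ ((r + d ^ 2 - 1 : ℕ) : ℤ) := by exact_mod_cast h1
      rw [Nat.cast_sub (by omega)] at this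
      push_cast at this
      linarith
    have e4 : (2 : ℤ) ≤ (a c : ℤ) - a c' := by omega
    have hrpos : (1 : ℤ) ≤ r := by exact_mod_cast hr.one_le
    have e5 : (r : ℤ) * r * 4 ≤ ((r : ℤ) * a c - r * a c') ^ 2 := by
      rw [← mul_sub, mul_pow, sq (r : ℤ)]
      refine mul_le_mul_of_nonneg_left ?_ (by positivity)
      nlinarith
    have e6 : ((r : ℤ) * a c - r * a c') ^ 2 ≤
        2 * (((r : ℤ) * a c - d) ^ 2 + ((r : ℤ) * a c' - d) ^ 2) := by
      nlinarith [sq_nonneg ((r : ℤ) * a c - d + ((r : ℤ) * a c' - d))]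
    have e7 := mul_le_mul_of_nonneg_left e3 (by positivity : (0 : ℤ) ≤ r)
    nlinarith
  -- the trace form on the commutant is totally isotropic on traceless operators
  have hiso : ∀ A B : Module.End K M, S * A = A * S → L * A = A * L → S * B = B * S →
      L * B = B * L → LinearMap.trace K M A = 0 → LinearMap.trace K M (A * B) = 0 := by
    intro A B hAS hAL hBS hBL hA0
    have hsum : ∑ e : E, LinearMap.trace K M (A * F.act e) *
        LinearMap.trace K M (F.act e⁻¹ * B) = 0 := by
      obtain ⟨k, hk⟩ := hpo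
      set τ := (σ * l) ^ (r * k) with hτ
      set T : Module.End K M := (S * L) ^ (r * k) with hT
      have hgE : τ ∈ normalizer (E : Set H) := pow_mem (mul_mem hσE hlE) _
      have hTapp : ∀ w : M, ((T w : M) : U) = ρ τ (w : U) := by
        intro w
        rw [hT, (show Commute S L from hSL).mul_pow, hτ, hc.mul_pow, rho_mul,
          Module.End.mul_apply, hSpow, hLpow]
      let π : Equiv.Perm E := (E.normalizerMonoidHom ⟨τ, hgE⟩).toEquiv
      have hπ : ∀ e : E, ((π e : E) : H) = τ * e * τ⁻¹ := fun e => by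
        simp [π]
      have hTe : ∀ e : E, T * F.act e = F.act (π e) * T := fun e => LinearMap.ext fun w =>
        Subtype.ext (by
          rw [Module.End.mul_apply, Module.End.mul_apply, hTapp, F.act_apply, F.act_apply, hTapp,
            ← rho_mul, ← rho_mul, hπ, inv_mul_cancel_right])
      have hCT : ∀ X, S * X = X * S → L * X = X * L → T * X = X * T := fun X h1 h2 =>
        (((show Commute S X from h1).mul_left (show Commute L X from h2)).pow_left _).eq
      obtain ⟨T', hT1, hT2⟩ : ∃ T', T * T' = 1 ∧ T' * T = 1 := by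
        have h0 : (S * L) ^ (r * o) = 1 := LinearMap.ext fun w => Subtype.ext (by
          rw [(show Commute S L from hSL).mul_pow, Module.End.mul_apply, hSpow, hLpow, pow_mul,
            hσr, one_pow, rho_one, mul_comm r o, pow_mul]
          show ρ ((l ^ o) ^ r) (w : U) = (w : U)
          have : ∀ j : ℕ, ρ ((l ^ o) ^ j) (w : U) = (w : U) := fun j => by
            induction j with
            | zero => simp
            | succ j ih => rw [pow_succ', rho_mul, ih, hlo _ w.2]
          exact this r)
        refine ⟨(S * L) ^ (r * k * (p - 1)), ?_, ?_⟩ <;>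
        · rw [hT, ← pow_add]
          have : r * k + r * k * (p - 1) = r * o := by
            obtain ⟨p', rfl⟩ : ∃ p', p = p' + 1 := ⟨p - 1, by have := hp.pos; omega⟩
            rw [hk, Nat.add_sub_cancel]; ring
          first
          | rw [this, h0]
          | rw [add_comm, this, h0]
      set f : E → K := fun e => LinearMap.trace K M (A * F.act e) *
        LinearMap.trace K M (F.act e⁻¹ * B) with hf
      have hinvf : ∀ e : E, f (π e) = f e := by
        intro e
        have e1 : F.act (π e) = T * F.act e * T' := by rw [hTe, mul_assoc, hT1, mul_one]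
        have e2 : F.act (π e)⁻¹ = T * F.act e⁻¹ * T' := by
          have e3 : (π e)⁻¹ = π e⁻¹ := Subtype.ext (by
            rw [Subgroup.coe_inv, hπ, hπ, Subgroup.coe_inv]; group)
          rw [e3, hTe, mul_assoc, hT1, mul_one]
        simp only [hf]
        rw [e1, e2]
        congr 1
        · rw [← mul_assoc, ← mul_assoc, ← hCT A hAS hAL, LinearMap.trace_mul_comm, ← mul_assoc,
            ← mul_assoc, hT2, one_mul]
        · rw [LinearMap.trace_mul_comm, ← mul_assoc, ← mul_assoc, ← hCT B hBS hBL,
            LinearMap.trace_mul_comm, ← mul_assoc, ← mul_assoc, hT2, one_mul,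
            LinearMap.trace_mul_comm]
      have hzero : ∀ e : E, f e ≠ 0 → π e ≠ e := by
        intro e hfe hπe
        apply hfe
        have heR : (e : H) ∈ R := by
          refine hfree e e.2 (r * k) ?_ ?_ ⟨pow_mem (mul_mem hσR hlR) _, ?_⟩
          · have : k ≠ 0 := fun h => by rw [h, mul_zero] at hk; omega
            exact Nat.mul_pos hr.pos (by omega)
          · refine Nat.mul_lt_mul_of_pos_left ?_ hr.pos
            have := hp.two_le
            have : k ≠ 0 := fun h => by rw [h, mul_zero] at hk; omega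
            nlinarith
          · have := congrArg Subtype.val hπe
            rw [hπ, hτ] at this
            rw [this, inv_mul_cancel]
            exact one_mem R
        have : F.act e = lam (e : H) • (1 : Module.End K M) :=
          LinearMap.ext fun w => Subtype.ext (F.scal _ heR _ w.2)
        simp only [hf, this, mul_smul_comm, mul_one, map_smul, hA0, smul_zero, zero_mul]
      have hπp : π ^ p ^ t = 1 := Equiv.ext fun e => Subtype.ext (by
        have key : ∀ j : ℕ, (((π ^ j) e : E) : H) = τ ^ j * e * (τ ^ j)⁻¹ := by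
          intro j
          induction j with
          | zero => simp
          | succ j ih => rw [pow_succ', Equiv.Perm.mul_apply, hπ, ih, pow_succ']; group
        rw [key, Equiv.Perm.one_apply]
        have h1 : τ ^ p ^ t = 1 := by
          rw [hτ, ← pow_mul, hc.mul_pow, mul_assoc, pow_mul, hσr, one_pow, one_mul, ← mul_assoc,
            mul_comm, pow_mul, hlp, one_pow]
        rw [h1]
        simp)
      have hfib : ∀ v : K, v ≠ 0 → ((Finset.univ.filter fun e => f e = v).card : K) = 0 := by
        intro v hv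
        rw [CharP.cast_eq_zero_iff K p]
        let X := {e : E // f e = v}
        let πX : Equiv.Perm X := π.subtypePerm fun e => by
          constructor <;> intro h
          · rwa [← hinvf] 
          · rwa [hinvf]
        have hπXp : πX ^ p ^ t = 1 := by
          rw [Equiv.Perm.subtypePerm_pow]
          ext ⟨e, he⟩
          simp [hπp]
        have hpg : IsPGroup p (zpowers πX) := by
          refine fun g => ⟨t, ?_⟩
          obtain ⟨i, hi⟩ := g.2
          refine Subtype.ext ?_
          rw [SubgroupClass.coe_pow, ← hi, ← zpow_natCast, ← zpow_mul, mul_comm, zpow_mul,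
            zpow_natCast, hπXp, one_zpow]
          rfl
        have h1 := hpg.card_modEq_card_fixedPoints X
        have h2 : Nat.card (MulAction.fixedPoints (zpowers πX) X) = 0 := by
          rw [Nat.card_eq_zero]
          refine Or.inl ⟨fun x => ?_⟩
          have hx : πX (x : X) = x := x.2 ⟨πX, mem_zpowers πX⟩
          exact hzero _ (by rw [x.1.2]; exact hv) (congrArg Subtype.val hx)
        rw [h2] at h1
        rw [← Fintype.card_subtype, ← Nat.card_eq_fintype_card]
        exact Nat.modEq_zero_iff_dvd.1 h1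
      show ∑ e : E, f e = 0
      rw [← Finset.sum_fiberwise_of_maps_to (g := f) (t := Finset.univ.image f)
        fun e _ => Finset.mem_image_of_mem f (Finset.mem_univ e)]
      refine Finset.sum_eq_zero fun v _ => ?_
      by_cases hv : v = 0
      · exact Finset.sum_eq_zero fun e he => (Finset.mem_filter.1 he).2.trans hv
      · rw [Finset.sum_congr rfl fun e he => (Finset.mem_filter.1 he).2, Finset.sum_const,
          ← Nat.cast_smul_eq_nsmul K, hfib v hv, zero_smul]
    have h1 := F.trace_mul A B
    rw [hsum, mul_zero, mul_eq_zero] at h1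
    exact h1.resolve_left (by rw [← Nat.card_eq_fintype_card]; exact F.card)
  have hd0 : (d : K) ≠ 0 := by
    intro h0
    obtain ⟨φ, hφ⟩ : ∃ w : M, w ≠ 0 := exists_ne 0
    have h1 := F.trace_mul ((Module.finBasis K M).coord ⟨0, Module.finrank_pos⟩ |>.smulRight
      (Module.finBasis K M ⟨0, Module.finrank_pos⟩)) 1
    rw [mul_one, LinearMap.trace_smulRight] at h1
    simp only [Module.Basis.coord_apply, Module.Basis.repr_self, Finsupp.single_eq_same,
      mul_one, ← hd, h0, zero_mul] at h1
    rw [← Nat.card_eq_fintype_card] at h1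
    exact F.card h1
  have hPS : ∀ c ∈ μ, S * P c = P c * S := fun c hc => (hPcomm c hc S rfl).symm
  have hPL : ∀ c ∈ μ, L * P c = P c * L := fun c hc => (hPcomm c hc L hSL).symm
  -- fixed vectors form at most a line
  have hL1 : L * P 1 = P 1 := LinearMap.ext fun w => Subtype.ext
    (hfix _ (P 1 w).2 (by
      have := congrArg Subtype.val (hSP 1 h1μ w)
      rwa [one_smul] at this))
  have ha1 : a 1 ≤ 1 := by
    by_contra hgt
    push Not at hgt
    let b := Module.finBasis K (LinearMap.range (P 1))
    let i : Fin (finrank K (LinearMap.range (P 1))) := ⟨0, by simp only [ha] at hgt; omega⟩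
    let j : Fin (finrank K (LinearMap.range (P 1))) := ⟨1, by simp only [ha] at hgt; omega⟩
    have hij : i ≠ j := by simp [i, j, Fin.ext_iff]
    let op : Fin (finrank K (LinearMap.range (P 1))) → Fin (finrank K (LinearMap.range (P 1))) →
        Module.End K M := fun i j => ((b.coord j).comp (P 1).rangeRestrict).smulRight (b i : M)
    have hop : ∀ i j, S * op i j = op i j * S ∧ L * op i j = op i j * L := by
      intro i j
      have hb : S (b i : M) = (b i : M) ∧ L (b i : M) = (b i : M) := by
        obtain ⟨v, hv⟩ := (b i).2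
        rw [← hv]
        exact ⟨by rw [hSP 1 h1μ, one_smul], LinearMap.congr_fun hL1 v⟩
      have hSr' : ∀ w, (P 1).rangeRestrict (S w) = (P 1).rangeRestrict w := fun w => Subtype.ext (by
        show P 1 (S w) = P 1 w
        have := LinearMap.congr_fun (hPS 1 h1μ) w
        rw [Module.End.mul_apply, Module.End.mul_apply, hSP 1 h1μ, one_smul] at this
        exact this.symm)
      have hLr' : ∀ w, (P 1).rangeRestrict (L w) = (P 1).rangeRestrict w := fun w => Subtype.ext (by
        show P 1 (L w) = P 1 w
        have := LinearMap.congr_fun (hPL 1 h1μ) w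
        rw [hL1] at this
        exact this.symm)
      constructor <;> refine LinearMap.ext fun w => ?_ <;>
        simp [op, hb.1, hb.2, hSr', hLr']
    have hbb : ∀ i, (P 1).rangeRestrict (b i : M) = b i := fun i => Subtype.ext (by
      show P 1 (b i : M) = _
      obtain ⟨v, hv⟩ := (b i).2
      rw [← hv]
      exact hPfix 1 h1μ _ (hSP 1 h1μ v))
    have htr0 : LinearMap.trace K M (op i j) = 0 := by
      refine (LinearMap.trace_smulRight _ _).trans ?_
      simp [hbb, Finsupp.single_apply, hij]
    have h1 := hiso (op i j) (op j i) (hop i j).1 (hop i j).2 (hop j i).1 (hop j i).2 htr0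
    have h2 : op i j * op j i = op i i := LinearMap.ext fun w => by
      simp [op, hbb]
    rw [h2] at h1
    have h3 := (LinearMap.trace_smulRight ((b.coord i).comp (P 1).rangeRestrict) (b i : M)).symm.trans h1
    simp [hbb] at h3
  have hall : ∀ c ∈ μ, a c ≤ 2 := fun c hc => (hclose c hc 1 h1μ).trans (by omega)
  rcases hcase with ⟨hop, hp2⟩ | ⟨ho, hp2⟩
  · -- odd characteristic: `σ` is a scalar
    have hne' : ∀ c ∈ μ, ∀ c' ∈ μ, c ≠ c' → a c = 0 ∨ a c' = 0 := by
      intro c hcm c' hcm' hcc
      let A := P c - ((a c : K) / d) • (1 : Module.End K M)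
      let B := P c' - ((a c' : K) / d) • (1 : Module.End K M)
      have hA0 : LinearMap.trace K M A = 0 := by
        simp only [A, map_sub, map_smul, LinearMap.trace_one, smul_eq_mul, hPtr c hcm, ← hd]
        rw [div_mul_cancel₀ _ hd0, sub_self]
      have h1 := hiso A B
        (by simp only [A, mul_sub, sub_mul, mul_smul_comm, smul_mul_assoc, mul_one, one_mul, hPS c hcm])
        (by simp only [A, mul_sub, sub_mul, mul_smul_comm, smul_mul_assoc, mul_one, one_mul, hPL c hcm])
        (by simp only [B, mul_sub, sub_mul, mul_smul_comm, smul_mul_assoc, mul_one, one_mul, hPS c' hcm'])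
        (by simp only [B, mul_sub, sub_mul, mul_smul_comm, smul_mul_assoc, mul_one, one_mul, hPL c' hcm'])
        hA0
      have hPP : P c * P c' = 0 := LinearMap.ext fun v => hPortho c hcm c' hcm' hcc v
      simp only [A, B, mul_sub, sub_mul, mul_smul_comm, smul_mul_assoc, mul_one, one_mul, hPP,
        map_sub, map_smul, map_zero, LinearMap.trace_one, hPtr c hcm, hPtr c' hcm', smul_eq_mul,
        ← hd, smul_zero] at h1
      have h2 : ((a c * a c' : ℕ) : K) = 0 := by
        rw [Nat.cast_mul]
        field_simp at h1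
        linear_combination -h1
      rw [CharP.cast_eq_zero_iff K p] at h2
      have := hp.two_le
      have hle1 := hall c hcm
      have hle2 := hall c' hcm'
      rcases (Nat.Prime.dvd_mul hp).1 h2 with h | h
      · exact Or.inl (Nat.eq_zero_of_dvd_of_lt h (by omega))
      · exact Or.inr (Nat.eq_zero_of_dvd_of_lt h (by omega))
    obtain ⟨c₀, hc₀, hac⟩ : ∃ c ∈ μ, a c ≠ 0 := by
      by_contra h
      push Not at h
      have h0 : ∑ c ∈ μ, a c = 0 := Finset.sum_eq_zero h
      have : 0 < d := Module.finrank_pos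
      simp only [ha] at h0
      rw [hPdim] at h0
      omega
    refine hnoscal σ hσE hσR hσM hσfree ⟨c₀, fun w hw => ?_⟩
    have h1 := hPsum ⟨w, hw⟩
    rw [Finset.sum_eq_single_of_mem c₀ hc₀ fun c hc hcc => by
      have : LinearMap.range (P c) = ⊥ :=
        Submodule.finrank_eq_zero.1 ((hne' c hc c₀ hc₀ hcc).resolve_right hac)
      exact (Submodule.eq_bot_iff _).1 this _ (LinearMap.mem_range_self _ _)] at h1
    have h2 := congrArg Subtype.val (hSP c₀ hc₀ ⟨w, hw⟩)
    rw [h1] at h2
    exact h2
  · -- characteristic two: `l ^ 2` acts as the identity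
    subst hp2
    have hsq : ∀ c ∈ μ, ∀ v : M, (L - 1) ((L - 1) (P c v)) = 0 := by
      intro c hcm v
      set D : Module.End K M := L - 1 with hD
      have hD4 : D ^ 4 = 0 := by
        have h4 : L ^ 4 = 1 := LinearMap.ext fun w => Subtype.ext (by
          rw [hLpow, ← ho, hlo _ w.2]; rfl)
        have hring : ∀ x : Module.End K M, (x - 1) ^ 2 = x ^ 2 + 1 - (2 : ℕ) • x := fun x => by
          rw [sq, sq, sub_mul, mul_sub, mul_sub, one_mul, mul_one, mul_one, two_nsmul]
          abel
        have h2 : ∀ x : Module.End K M, (x - 1) ^ 2 = x ^ 2 - 1 := fun x => by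
          rw [hring, ← Nat.cast_smul_eq_nsmul K, hp0, zero_smul, sub_zero, sub_eq_add_neg]
          congr 1
          rw [eq_neg_iff_add_eq_zero, ← two_nsmul, ← Nat.cast_smul_eq_nsmul K, hp0, zero_smul]
        rw [hD, show (4 : ℕ) = 2 * 2 from rfl, pow_mul, h2, h2, ← pow_mul, h4, sub_self]
      have hres : ∀ w ∈ LinearMap.range (P c), D w ∈ LinearMap.range (P c) := by
        rintro _ ⟨w, rfl⟩
        refine ⟨D w, ?_⟩
        have := LinearMap.congr_fun (hPL c hcm) w
        simp only [Module.End.mul_apply] at this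
        simp [hD, this]
      set D' := D.restrict hres with hD'
      have hD'pow : ∀ (k : ℕ) (w : LinearMap.range (P c)), ((D' ^ k) w : M) = (D ^ k) (w : M) := by
        intro k w
        induction k with
        | zero => simp
        | succ k ih => rw [pow_succ', pow_succ', Module.End.mul_apply, Module.End.mul_apply, ← ih]; rfl
      have hnil : IsNilpotent D' := ⟨4, LinearMap.ext fun w => Subtype.ext (by
        rw [hD'pow, hD4]; rfl)⟩
      have h1 : D' ^ a c = 0 := by
        have := LinearMap.aeval_self_charpoly D'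
        rwa [IsNilpotent.charpoly_eq_X_pow_finrank hnil, map_pow, Polynomial.aeval_X] at this
      have h2 : D' ^ 2 = 0 := by
        rw [show 2 = (2 - a c) + a c by have := hall c hcm; omega, pow_add, h1, mul_zero]
      have := hD'pow 2 ⟨_, LinearMap.mem_range_self (P c) v⟩
      rw [h2, sq] at this
      exact this.symm
    have hL2 : ∀ w ∈ M, ρ (l ^ 2) w = w := by
      intro w hw
      have h1 : (L - 1) ((L - 1) (⟨w, hw⟩ : M)) = 0 := by
        conv_lhs => rw [← hPsum ⟨w, hw⟩, map_sum, map_sum]
        exact Finset.sum_eq_zero fun c hc => hsq c hc _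
      simp only [LinearMap.sub_apply, Module.End.one_apply, map_sub] at h1
      have h2 := congrArg Subtype.val h1
      simp only [Submodule.coe_sub, ZeroMemClass.coe_zero] at h2
      have h3 : ρ (l ^ 2) w - w = 0 := by
        rw [sq, rho_mul]
        have h4 : (2 : ℕ) • (ρ l w - w) = 0 := by rw [← Nat.cast_smul_eq_nsmul K, hp0, zero_smul]
        rw [show ρ l (ρ l w) - w = ρ l (ρ l w) - ρ l w - (ρ l w - w) + (2 : ℕ) • (ρ l w - w) by abel,
          h4, add_zero]
        exact h2
      exact sub_eq_zero.1 h3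
    have hr2 : r ≠ 2 := fun h => hr0 (by rw [h]; exact_mod_cast hp0)
    refine hnoscal (l ^ 2) (pow_mem hlE 2) (pow_mem hlR 2)
      (fun w hw => (hL2 w hw).symm ▸ hw) (fun x hx hm => ?_) ⟨1, fun w hw => by
        rw [hL2 w hw, one_smul]⟩
    refine hfree x hx (2 * r) (by have := hr.pos; omega) (by rw [ho]; have := hr.pos; omega) ?_
    rw [hc.mul_pow, mul_comm 2 r, pow_mul, hσr, one_pow, one_mul, mul_comm r 2, pow_mul]
    exact pow_mem hm r

end Cfsg.Agent.FGS73.Turull
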