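import Cfsg.Agent.FGS73.Turull.Frame

/-!
Vectors which are killed: lines fixed by group elements, and vanishing of operators with killed
values.
-/

set_option autoImplicit false
set_option linter.unusedVariables false
set_option linter.style.haveILetI false

namespace Cfsg.Agent.FGS73.Turull

open Subgroup
open scoped commutatorElement
open Cfsg.Agent.LinAct (rho_mul rho_one rho_inv_apply)

variable {H : Type*} [Group H] [Finite H] {K : Type*} [Field K] [IsAlgClosed K] {U : Type*}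
  [AddCommGroup U] [Module K U] [FiniteDimensional K U]
  {ρ : H →* Module.End K U} {E R : Subgroup H} {lam : H → K} {M : Submodule K U} {q : ℕ} {σ : H}
  {N : Submodule K U}

omit [IsAlgClosed K] [FiniteDimensional K U] in
theorem inv_apply_mem {g : H} {W : Submodule K U} (hg : ∀ w ∈ W, ρ g w ∈ W) :
    ∀ w ∈ W, ρ g⁻¹ w ∈ W := by
  have hle : zpowers g ≤ LinAct.stab ρ W := zpowers_le.2 hg
  exact fun w hw => hle (inv_mem (mem_zpowers g)) w hw

omit [IsAlgClosed K] [FiniteDimensional K U] in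
theorem Frame.lam_conj (F : Frame ρ E R lam M) {g : H} (hgR : g ∈ normalizer (R : Set H))
    (hgM : ∀ w ∈ M, ρ g w ∈ M) {z : H} (hz : z ∈ R) : lam (g * z * g⁻¹) = lam z := by
  refine F.bracket.eq_of fun v hv => ?_
  rw [← F.scal _ (Coprime.conj_mem_of_mem_normalizer hgR hz) v hv, rho_mul, rho_mul,
    F.scal z hz _ (inv_apply_mem hgM v hv), map_smul, ← rho_mul, mul_inv_cancel, rho_one]

omit [IsAlgClosed K] [FiniteDimensional K U] in
theorem Frame.beta_conj (F : Frame ρ E R lam M) {g : H} (hgE : g ∈ normalizer (E : Set H))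
    (hgR : g ∈ normalizer (R : Set H)) (hgM : ∀ w ∈ M, ρ g w ∈ M) {a b : H} (ha : a ∈ E)
    (hb : b ∈ E) : lam ⁅g * a * g⁻¹, g * b * g⁻¹⁆ = lam ⁅a, b⁆ := by
  rw [← F.lam_conj hgR hgM (F.comm a ha b hb)]
  congr 1
  simp [commutatorElement_def, mul_assoc]

variable (F : Frame ρ E R lam M) (hE : IsPGroup q E) (hq : q.Prime) (hK : Kill ρ σ N)
  (hne : ¬ E ≤ R) (hσE : σ ∈ normalizer (E : Set H)) (hσR : σ ∈ normalizer (R : Set H))
  (hσM : ∀ w ∈ M, ρ σ w ∈ M) (hσo : (orderOf σ).Coprime q)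
  (hfree : ∀ x ∈ E, σ ∈ modFix R x → x ∈ R)

include F hE hq hK hne hσE hσR hσM hσo hfree in
/-- A killed vector lies on a line fixed by an element outside the centre. -/
theorem Frame.line {n : U} (hn : n ∈ M) (hnN : n ∈ N) (hn0 : n ≠ 0) :
    ∃ l ∈ E, l ∉ R ∧ ∃ c : K, ρ l n = c • n := by
  classical
  cases nonempty_fintype E
  obtain ⟨φ, hφn, hφ⟩ := hK.sep n hn0
  have hφσ : ∀ v, φ (ρ σ v) = φ v := by
    intro v
    rcases hφ 1 with h | h
    · simpa using h v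
    · exact absurd (by simpa using h n hnN) hφn
  let F1 : Subgroup H :=
    { carrier := {e | e ∈ E ∧ ∃ c : K, ∀ w ∈ M, φ (ρ e w) = c * φ w}
      one_mem' := ⟨one_mem _, 1, fun w _ => by simp⟩
      mul_mem' := fun {a b} ⟨ha, c, hc⟩ ⟨hb, d, hd⟩ => ⟨mul_mem ha hb, c * d, fun w hw => by
        rw [rho_mul, hc _ (F.inv b hb w hw), hd w hw, mul_assoc]⟩
      inv_mem' := fun {a} ⟨ha, c, hc⟩ => ⟨inv_mem ha, c⁻¹, fun w hw => by
        have hc0 : c ≠ 0 := fun h0 => hφn (by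
          have h1 := hc _ (F.inv _ (inv_mem ha) n hn)
          rw [← rho_mul, mul_inv_cancel, rho_one, h0, zero_mul] at h1
          exact h1)
        have h1 := hc _ (F.inv _ (inv_mem ha) w hw)
        rw [← rho_mul, mul_inv_cancel, rho_one] at h1
        rw [h1, inv_mul_cancel_left₀ hc0]⟩ }
  have hRF : R ≤ F1 := fun z hz => ⟨F.le hz, lam z, fun w hw => by
    rw [F.scal z hz w hw, map_smul, smul_eq_mul]⟩
  have hF1E : F1 ≤ E := fun e he => he.1
  have hF1 : ¬ E ≤ F1 := by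
    intro hle
    have hbot : M ⊓ LinearMap.ker φ = ⊥ := by
      refine (F.simple _ inf_le_left fun e he w hw => ⟨F.inv e he w hw.1, ?_⟩).resolve_right
        fun h => hφn (LinearMap.mem_ker.1 (h.ge hn).2)
      obtain ⟨c, hc⟩ := (hle he).2
      show φ (ρ e w) = 0
      rw [hc w hw.1, LinearMap.mem_ker.1 hw.2, mul_zero]
    have hline : ∀ e ∈ E, ∃ c : K, ρ e n = c • n := by
      intro e he
      refine ⟨φ (ρ e n) / φ n, ?_⟩
      have : ρ e n - (φ (ρ e n) / φ n) • n ∈ M ⊓ LinearMap.ker φ :=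
        ⟨M.sub_mem (F.inv e he n hn) (M.smul_mem _ hn), LinearMap.mem_ker.2 (by
          rw [map_sub, map_smul, smul_eq_mul, div_mul_cancel₀ _ hφn, sub_self])⟩
      rw [hbot, Submodule.mem_bot, sub_eq_zero] at this
      exact this
    obtain ⟨x, hx, hxR⟩ := SetLike.not_le_iff_exists.1 hne
    obtain ⟨u, hu, hne'⟩ := F.nd x hx hxR
    apply hne'
    obtain ⟨a, ha⟩ := hline u hu
    obtain ⟨b, hb⟩ := hline x hx
    have h1 := F.swap_apply hu hx hn
    rw [ha, hb, map_smul, map_smul, ha, hb, smul_smul, smul_smul, smul_smul, ← sub_eq_zero,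
      ← sub_smul, smul_eq_zero, or_iff_left hn0, sub_eq_zero] at h1
    have ha0 : a ≠ 0 := fun h0 => hn0 (by
      have h2 := congrArg (ρ u⁻¹) ha
      rwa [rho_inv_apply, h0, zero_smul, map_zero] at h2)
    have hb0 : b ≠ 0 := fun h0 => hn0 (by
      have h2 := congrArg (ρ x⁻¹) hb
      rwa [rho_inv_apply, h0, zero_smul, map_zero] at h2)
    have h2 : lam ⁅u, x⁆ * (a * b) = 1 * (a * b) := by
      rw [one_mul]
      linear_combination -h1
    exact mul_right_cancel₀ (mul_ne_zero ha0 hb0) h2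
  have hσF1 : σ ∈ normalizer (F1 : Set H) := by
    have key : ∀ g : H, g ∈ normalizer (E : Set H) → (∀ v, φ (ρ g v) = φ v) →
        (∀ w ∈ M, ρ g⁻¹ w ∈ M) → ∀ e ∈ F1, g * e * g⁻¹ ∈ F1 := by
      rintro g hg hφg hgM e ⟨he, c, hc⟩
      refine ⟨Coprime.conj_mem_of_mem_normalizer hg he, c, fun w hw => ?_⟩
      rw [rho_mul, rho_mul, hφg, hc _ (hgM w hw)]
      congr 1
      rw [← hφg (ρ g⁻¹ w), ← rho_mul, mul_inv_cancel, rho_one]
    refine Coprime.mem_normalizer_of_le_iff (key σ hσE hφσ (inv_apply_mem hσM)) fun e he => ?_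
    have h1 := key σ⁻¹ (inv_mem hσE) (fun v => by
        rw [← hφσ, ← rho_mul, mul_inv_cancel, rho_one]) (by simpa using hσM) e he
    simpa using h1
  have hout : ∀ e ∈ E, e ∉ F1 → φ (ρ e n) = 0 := by
    intro e he heF
    rcases hφ e with h | h
    swap
    · exact h n hnN
    exfalso
    apply heF
    have hd : σ⁻¹ * e * σ * e⁻¹ ∈ F1 := by
      refine ⟨mul_mem (Coprime.conj_mem_of_mem_normalizer' hσE he) (inv_mem he), 1, fun w hw => ?_⟩
      rw [rho_mul, rho_mul, one_mul, ← hφσ (ρ (σ⁻¹ * e) (ρ σ (ρ e⁻¹ w))), ← rho_mul ρ σ,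
        mul_inv_cancel_left, h, ← rho_mul, mul_inv_cancel, rho_one]
    have hEF : E ≤ normalizer (F1 : Set H) := Coprime.le_normalizer_of_conj_mem fun a ha x hx => by
      have := F1.mul_mem (hRF (F.comm a ha x (hF1E hx))) hx
      convert this using 1
      simp [commutatorElement_def, mul_assoc]
    have hd' := Coprime.conj_mem_of_mem_normalizer' (hEF he) hd
    have hm : σ⁻¹ ∈ modFix F1 e := ⟨inv_mem hσF1, by
      convert hd' using 1
      group⟩
    obtain ⟨y, hy, hfix⟩ := lift_fixed hE hq (g := σ) hσo hF1E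
      (inv_inv σ ▸ (modFix F1 e).inv_mem hm)
    have h2 : e * y ∈ R := hfree _ (mul_mem he (hF1E hy)) ⟨hσR, by
      rw [hfix, mul_inv_cancel_right, inv_mul_cancel]; exact one_mem R⟩
    have := F1.mul_mem (hRF h2) (F1.inv_mem hy)
    rwa [mul_inv_cancel_right] at this
  obtain ⟨l, hl, hlR, horth⟩ := F.exists_orth hRF hF1E hF1
  obtain ⟨c, hc, hc0⟩ := F.schur φ ⟨n, hn⟩
  obtain ⟨d, hd, -⟩ := F.schur φ ⟨ρ l n, F.inv l hl n hn⟩
  refine ⟨l, hl, hlR, d / c, ?_⟩
  have hterm : ∀ e : E, φ (ρ (e : H)⁻¹ n) • ρ (e : H) (ρ l n) =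
      ρ l (φ (ρ (e : H)⁻¹ n) • ρ (e : H) n) := by
    intro e
    by_cases he : (e : H) ∈ F1
    · rw [map_smul, F.swap_apply hl e.2 hn, horth _ he, one_smul]
    · rw [hout _ (inv_mem e.2) (fun h => he (by simpa using F1.inv_mem h)), zero_smul, zero_smul,
        map_zero]
  have h1 := hd n hn
  simp only at h1
  rw [Finset.sum_congr rfl fun e _ => hterm e, ← map_sum, hc n hn, map_smul] at h1
  rw [eq_comm, div_eq_inv_mul, ← smul_smul, ← h1, smul_smul, inv_mul_cancel₀ (hc0 hφn), one_smul]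

include F hE hq hK hne hσE hσR hσM hσo hfree in
/-- A combination of commuting operators with killed values on an irreducible subspace vanishes
when one of them is separated from the others. -/
theorem Frame.dead {ι : Type*} (J : Finset ι) (τ : ι → H) (a : ι → K)
    (hcomm : ∀ i ∈ J, ∀ j ∈ J, τ i * τ j = τ j * τ i)
    (hτE : ∀ j ∈ J, τ j ∈ normalizer (E : Set H)) (hτR : ∀ j ∈ J, τ j ∈ normalizer (R : Set H))
    (hτM : ∀ j ∈ J, ∀ w ∈ M, ρ (τ j) w ∈ M) {j₀ : ι} (hj₀ : j₀ ∈ J) (ha₀ : a j₀ ≠ 0)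
    (hsep : ∀ j ∈ J, j ≠ j₀ → (orderOf ((τ j₀)⁻¹ * τ j)).Coprime q ∧
      ∀ x ∈ E, (τ j₀)⁻¹ * τ j ∈ modFix R x → x ∈ R)
    (hN : ∀ w ∈ M, ∑ j ∈ J, a j • ρ (τ j) w ∈ N) :
    ∀ w ∈ M, ∑ j ∈ J, a j • ρ (τ j) w = 0 := by
  classical
  cases nonempty_fintype E
  by_contra hne0
  push Not at hne0
  obtain ⟨x₀, hx₀, hne0⟩ := hne0
  set T : Module.End K U := ∑ j ∈ J, a j • ρ (τ j) with hT
  have hTapp : ∀ w, T w = ∑ j ∈ J, a j • ρ (τ j) w := fun w => by
    simp [hT, LinearMap.sum_apply]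
  set Zs := M.map T with hZs
  have hZsM : Zs ≤ M := by
    rintro _ ⟨w, hw, rfl⟩
    rw [hTapp]
    exact M.sum_mem fun j hj => M.smul_mem _ (hτM j hj w hw)
  have hZsN : Zs ≤ N := by
    rintro _ ⟨w, hw, rfl⟩
    rw [hTapp]
    exact hN w hw
  have hn₀ : T x₀ ∈ Zs := Submodule.mem_map_of_mem hx₀
  rw [← hTapp] at hne0
  have hτZ : ∀ j ∈ J, ∀ z ∈ Zs, ρ (τ j) z ∈ Zs := by
    rintro j hj _ ⟨w, hw, rfl⟩
    refine ⟨ρ (τ j) w, hτM j hj w hw, ?_⟩
    rw [hTapp, hTapp, map_sum]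
    refine Finset.sum_congr rfl fun i hi => ?_
    rw [map_smul, ← rho_mul, ← rho_mul, hcomm i hi j hj]
  -- one element acts by a scalar on all values
  set m := Nat.card E with hm
  have hm0 : 0 < m := Nat.card_pos
  let I := {l : E // (l : H) ∉ R} × ↥(Polynomial.nthRootsFinset m (1 : K))
  let P : I → Submodule K Zs := fun i =>
    (Module.End.eigenspace (ρ (i.1.1 : H)) (i.2 : K)).comap Zs.subtype
  have hcov : ⋃ i, (P i : Set Zs) = Set.univ := by
    refine Set.eq_univ_of_forall fun z => Set.mem_iUnion.2 ?_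
    by_cases hz : (z : U) = 0
    · obtain ⟨x, hx, hxR⟩ := SetLike.not_le_iff_exists.1 hne
      exact ⟨(⟨⟨x, hx⟩, hxR⟩, ⟨1, (Polynomial.mem_nthRootsFinset hm0 1).2 (one_pow m)⟩), by
        simp [P, hz]⟩
    obtain ⟨l, hl, hlR, c, hc⟩ :=
      F.line hE hq hK hne hσE hσR hσM hσo hfree (hZsM z.2) (hZsN z.2) hz
    have hcm : c ^ m = 1 := by
      have hpow : ∀ i : ℕ, ρ (l ^ i) (z : U) = c ^ i • (z : U) := by
        intro i
        induction i with
        | zero => simp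
        | succ i ih => rw [pow_succ', rho_mul, ih, map_smul, hc, smul_smul, ← pow_succ]
      have h1 := hpow m
      rw [show l ^ m = 1 from congrArg Subtype.val (pow_card_eq_one' (x := (⟨l, hl⟩ : E))),
        rho_one] at h1
      exact smul_left_injective K hz (h1.symm.trans (one_smul K _).symm)
    exact ⟨(⟨⟨l, hl⟩, hlR⟩, ⟨c, (Polynomial.mem_nthRootsFinset hm0 1).2 hcm⟩), by
      simp [P, Module.End.mem_eigenspace_iff, hc]⟩
  obtain ⟨⟨⟨l, hlR⟩, c⟩, hP⟩ := Subspace.exists_eq_top_of_iUnion_eq_univ hcov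
  let L : Subgroup H :=
    { carrier := {e | e ∈ E ∧ ∃ d : K, ∀ z ∈ Zs, ρ e z = d • z}
      one_mem' := ⟨one_mem _, 1, fun z _ => by simp⟩
      mul_mem' := fun {x y} ⟨hx, d, hd⟩ ⟨hy, d', hd'⟩ => ⟨mul_mem hx hy, d * d', fun z hz => by
        rw [rho_mul, hd' z hz, map_smul, hd z hz, smul_smul, mul_comm]⟩
      inv_mem' := fun {x} ⟨hx, d, hd⟩ => ⟨inv_mem hx, d⁻¹, fun z hz => by
        have h1 := congrArg (ρ x⁻¹) (hd z hz)
        rw [rho_inv_apply, map_smul] at h1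
        have hd0 : d ≠ 0 := fun h0 => hne0 (by
          have h2 := congrArg (ρ x⁻¹) (hd _ hn₀)
          rwa [rho_inv_apply, h0, zero_smul, map_zero] at h2)
        conv_rhs => rw [h1, smul_smul, inv_mul_cancel₀ hd0, one_smul]⟩ }
  have hlL : (l : H) ∈ L := ⟨l.2, c, fun z hz => by
    have : (⟨z, hz⟩ : Zs) ∈ P (⟨l, hlR⟩, c) := hP ▸ Submodule.mem_top
    exact Module.End.mem_eigenspace_iff.1 this⟩
  have hLE : L ≤ E := fun e he => he.1
  choose κ hκ using fun e : L => e.2.2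
  let P' : Subgroup H :=
    { carrier := {e | e ∈ E ∧ ∀ b ∈ L, lam ⁅b, e⁆ = 1}
      one_mem' := ⟨one_mem _, fun b hb => F.bracket.one_right (hLE hb)⟩
      mul_mem' := fun {x y} hx hy => ⟨mul_mem hx.1 hy.1, fun b hb => by
        have := F.bracket.mul_right (hLE hb) hx.1 hy.1
        exact this.trans (by rw [hx.2 b hb, hy.2 b hb, one_mul])⟩
      inv_mem' := fun {x} hx => ⟨inv_mem hx.1, fun b hb => by
        have := F.bracket.inv_right (hLE hb) hx.1
        exact this.trans (by rw [hx.2 b hb, inv_one])⟩ }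
  have hP'E : P' ≤ E := fun e he => he.1
  have hRP : R ≤ P' := fun z hz => ⟨F.le hz, fun b hb => F.beta_R (hLE hb) hz⟩
  obtain ⟨e, heE, he⟩ : ∃ e ∈ E, e ∉ P' := by
    obtain ⟨u, hu, hne'⟩ := F.nd l l.2 hlR
    refine ⟨u, hu, fun h => hne' ?_⟩
    have h1 := F.bracket.swap_eq l.2 hu
    change lam ⁅u, (l : H)⁆ = (lam ⁅(l : H), u⁆)⁻¹ at h1
    rw [h1, h.2 _ hlL, inv_one]
  -- the invariance of the orthogonal subgroup
  have hnormP : ∀ j ∈ J, τ j ∈ normalizer (P' : Set H) := by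
    intro j hj
    have key : ∀ g : H, g ∈ normalizer (E : Set H) → g ∈ normalizer (R : Set H) →
        (∀ w ∈ M, ρ g w ∈ M) → (∀ z ∈ Zs, ρ g z ∈ Zs) → ∀ x ∈ P', g * x * g⁻¹ ∈ P' := by
      intro g hgE hgR hgM hgZ x hx
      refine ⟨Coprime.conj_mem_of_mem_normalizer hgE hx.1, fun b hb => ?_⟩
      have hb' : g⁻¹ * b * g ∈ L := by
        obtain ⟨hbE, d, hd⟩ := hb
        refine ⟨Coprime.conj_mem_of_mem_normalizer' hgE hbE, d, fun z hz => ?_⟩
        rw [rho_mul, rho_mul, hd _ (hgZ z hz), map_smul, rho_inv_apply]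
      rw [← hx.2 _ hb', ← F.beta_conj hgE hgR hgM (hLE hb') hx.1,
        show g * (g⁻¹ * b * g) * g⁻¹ = b by group]
    exact Coprime.mem_normalizer_of_le_iff (key _ (hτE j hj) (hτR j hj) (hτM j hj) (hτZ j hj))
      fun x hx => by
        simpa using key _ (inv_mem (hτE j hj)) (inv_mem (hτR j hj)) (inv_apply_mem (hτM j hj))
          (inv_apply_mem (hτZ j hj)) x hx
  -- distinct characters
  set f : ι → H := fun j => τ j * e * (τ j)⁻¹ with hf
  have hfE : ∀ j ∈ J, f j ∈ E := fun j hj => Coprime.conj_mem_of_mem_normalizer (hτE j hj) heE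
  have hdist : ∀ j ∈ J, j ≠ j₀ → (f j₀)⁻¹ * f j ∉ P' := by
    intro j hj hjne hmem
    obtain ⟨hco, hfr⟩ := hsep j hj hjne
    apply he
    have hm' : (τ j₀)⁻¹ * τ j ∈ modFix P' e :=
      ⟨mul_mem (inv_mem (hnormP j₀ hj₀)) (hnormP j hj), by
        have := Coprime.conj_mem_of_mem_normalizer' (hnormP j₀ hj₀) hmem
        convert this using 1
        simp only [hf]
        group⟩
    obtain ⟨y, hy, hfix⟩ := lift_fixed hE hq hco hP'E hm'
    have h2 : e * y ∈ R := hfr _ (mul_mem heE (hP'E hy))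
      ⟨mul_mem (inv_mem (hτR j₀ hj₀)) (hτR j hj), by
        rw [hfix, mul_inv_cancel_right, inv_mul_cancel]; exact one_mem R⟩
    have := P'.mul_mem (hRP h2) (P'.inv_mem hy)
    rwa [mul_inv_cancel_right] at this
  have hf₀ : f j₀ ∉ P' := fun h => he (by
    have := Coprime.conj_mem_of_mem_normalizer' (hnormP j₀ hj₀) h
    simpa [hf, mul_assoc] using this)
  cases nonempty_fintype L
  have hLK : (Nat.card L : K) ≠ 0 := by
    intro h0
    apply F.card
    obtain ⟨k, hk⟩ := card_dvd_of_le hLE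
    rw [hk, Nat.cast_mul, h0, zero_mul]
  have hsum : ∀ g ∈ E, g ∉ P' → ∑ b : L, lam ⁅(b : H), g⁆ = 0 := by
    intro g hg hgP
    obtain ⟨b₀, hb₀, hne'⟩ : ∃ b ∈ L, lam ⁅b, g⁆ ≠ 1 := by
      by_contra h
      push Not at h
      exact hgP ⟨hg, h⟩
    have h1 : lam ⁅b₀, g⁆ * ∑ b : L, lam ⁅(b : H), g⁆ = ∑ b : L, lam ⁅(b : H), g⁆ := by
      rw [Finset.mul_sum]
      refine (Finset.sum_congr rfl fun b _ => ?_).trans
        (Equiv.sum_comp (Equiv.mulLeft (⟨b₀, hb₀⟩ : L)) fun b : L => lam ⁅(b : H), g⁆)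
      exact (F.bracket.mul_left hg (hLE hb₀) (hLE b.2)).symm
    by_contra h0
    exact hne' ((mul_eq_right₀ h0).1 h1)
  set n := T x₀
  have hnM := hZsM hn₀
  set w := T (ρ e n) with hw
  have hwZ : w ∈ Zs := Submodule.mem_map_of_mem (F.inv e heE _ hnM)
  have hcalc : ∀ b : L, (lam ⁅(b : H), f j₀⁆)⁻¹ • w =
      ∑ j ∈ J, (a j * lam ⁅(b : H), (f j₀)⁻¹ * f j⁆) • ρ (f j) (ρ (τ j) n) := by
    intro b
    have hκ0 : κ b ≠ 0 := fun h0 => hne0 (by
      have h2 := congrArg (ρ (b : H)⁻¹) (hκ b _ hn₀)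
      rwa [rho_inv_apply, h0, zero_smul, map_zero] at h2)
    have h1 : (κ b)⁻¹ • ρ (b : H) w = w := by
      rw [hκ b _ hwZ, smul_smul, inv_mul_cancel₀ hκ0, one_smul]
    conv_lhs => rw [← h1, hw, hTapp, map_sum, Finset.smul_sum, Finset.smul_sum]
    refine Finset.sum_congr rfl fun j hj => ?_
    have h2 : ρ (τ j) (ρ e n) = ρ (f j) (ρ (τ j) n) := by
      rw [← rho_mul, ← rho_mul, hf, inv_mul_cancel_right]
    rw [map_smul, h2, F.swap_apply (hLE b.2) (hfE j hj) (hτM j hj n hnM),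
      hκ b _ (hτZ j hj n hn₀), map_smul, smul_smul, smul_smul, smul_smul, smul_smul]
    congr 1
    have h3 := F.bracket.mul_right (hLE b.2) (inv_mem (hfE j₀ hj₀)) (hfE j hj)
    change lam ⁅(b : H), (f j₀)⁻¹ * f j⁆ = lam ⁅(b : H), (f j₀)⁻¹⁆ * lam ⁅(b : H), f j⁆ at h3
    have h4 := F.bracket.inv_right (hLE b.2) (hfE j₀ hj₀)
    change lam ⁅(b : H), (f j₀)⁻¹⁆ = (lam ⁅(b : H), f j₀⁆)⁻¹ at h4
    rw [h3, h4]
    field_simp
  have h0 : ∑ b : L, (lam ⁅(b : H), f j₀⁆)⁻¹ • w = 0 := by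
    rw [← Finset.sum_smul]
    refine (congrArg (· • w) ?_).trans (zero_smul K w)
    refine (Finset.sum_congr rfl fun b _ => (F.bracket.inv_right (hLE b.2) (hfE j₀ hj₀)).symm).trans
      (hsum _ (inv_mem (hfE j₀ hj₀)) fun h => hf₀ (by simpa using P'.inv_mem h))
  rw [Finset.sum_congr rfl fun b _ => hcalc b, Finset.sum_comm,
    Finset.sum_congr rfl fun j _ => (Finset.sum_smul (R := K)).symm,
    Finset.sum_eq_single_of_mem j₀ hj₀ fun j hj hjne => by
      rw [← Finset.mul_sum, hsum _ (mul_mem (inv_mem (hfE j₀ hj₀)) (hfE j hj)) (hdist j hj hjne),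
        mul_zero, zero_smul]] at h0
  have h5 : ∀ b : L, lam ⁅(b : H), (f j₀)⁻¹ * f j₀⁆ = 1 := fun b => by
    rw [inv_mul_cancel]; exact F.bracket.one_right (hLE b.2)
  simp only [h5, mul_one, Finset.sum_const, Finset.card_univ, ← Nat.card_eq_fintype_card,
    nsmul_eq_mul] at h0
  rcases smul_eq_zero.1 h0 with h | h
  · exact mul_ne_zero hLK ha₀ h
  · apply hne0
    have h6 := congrArg (ρ (f j₀)⁻¹) h
    rw [rho_inv_apply, map_zero] at h6
    have h7 := congrArg (ρ (τ j₀)⁻¹) h6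
    rwa [rho_inv_apply, map_zero] at h7

end Cfsg.Agent.FGS73.Turull
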