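import Cfsg.Agent.FGS73.Turull.Weights
import Cfsg.Agent.FGS73.HHExact

/-!
The exact form of the Hall–Higman count, applied to a subgroup acting on an invariant subspace.
-/

set_option autoImplicit false

namespace Cfsg.Agent.FGS73.Turull

open Subgroup
open scoped commutatorElement
open Cfsg.Agent.LinAct (rho_mul rho_one rho_inv_apply)

variable {H : Type*} [Group H] {K : Type*} [Field K] {U : Type*} [AddCommGroup U] [Module K U]

theorem exists_hhBase [Finite H] [IsAlgClosed K] [FiniteDimensional K U] (ρ : H →* Module.End K U)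
    (W : Submodule K U) (hW0 : W ≠ ⊥) (E R : Subgroup H) (hRE : R ≤ E) (lam : H → K)
    (hEW : ∀ x ∈ E, ∀ w ∈ W, ρ x w ∈ W) (hscal : ∀ z ∈ R, ∀ w ∈ W, ρ z w = lam z • w)
    (hcomm : ∀ a ∈ E, ∀ b ∈ E, ⁅a, b⁆ ∈ R)
    (hnd : ∀ x ∈ E, x ∉ R → ∃ u ∈ E, lam ⁅u, x⁆ ≠ 1)
    (g : H) (hgE : ∀ x ∈ E, g * x * g⁻¹ ∈ E) (hgR : ∀ x ∈ R, g * x * g⁻¹ ∈ R)
    (hgW : ∀ w ∈ W, ρ g w ∈ W) {N : ℕ} (hN0 : 0 < N) (hE : (Nat.card E : K) ≠ 0)
    (hpow : ∀ w ∈ W, ρ (g ^ N) w = w)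
    (hfree : ∀ x ∈ E, ∀ i, 0 < i → i < N → x⁻¹ * (g ^ i * x * (g ^ i)⁻¹) ∈ R → x ∈ R)
    {c₀ : K} (hc₀ : c₀ ^ N = 1) :
    ∃ (E' : Subgroup (Module.End K W)ˣ) (Z' : Subgroup E') (ψ : E' → K) (η : E' →* E'),
      HHBase ((Units.coeHom _).comp E'.subtype) Z' ψ η (c₀⁻¹ • (ρ g).restrict hgW) N ∧
      Z'.index = R.relIndex E ∧ (Nat.card E' : K) ≠ 0 ∧
      ∃ f : E →* E', Function.Surjective f ∧ ∀ (x : E) (w : W),
        ((((f x : E') : (Module.End K W)ˣ) : Module.End K W) w : U) = ρ (x : H) (w : U) := by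
  classical
  have hc0ne : c₀ ≠ 0 := fun h => by simp [h, zero_pow hN0.ne'] at hc₀
  haveI : Nontrivial W := Submodule.nontrivial_iff_ne_bot.mpr hW0
  let ρE : E →* Module.End K W :=
    { toFun := fun x => (ρ (x : H)).restrict (hEW x x.2)
      map_one' := LinearMap.ext fun w => Subtype.ext (rho_one ρ _)
      map_mul' := fun a b => LinearMap.ext fun w => Subtype.ext (rho_mul ρ _ _ _) }
  have hρE : ∀ (x : E) (w : W), ((ρE x w : W) : U) = ρ (x : H) (w : U) := fun _ _ => rfl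
  let φ : E →* (Module.End K W)ˣ := ρE.toHomUnits
  have hφ : ∀ (x : E) (w : W), (((φ x : (Module.End K W)ˣ) : Module.End K W) w : U) =
      ρ (x : H) (w : U) := fun _ _ => rfl
  let S₀ : Module.End K W := (ρ g).restrict hgW
  have hS₀pow : ∀ (k : ℕ) (w : W), ((S₀ ^ k) w : U) = ρ (g ^ k) (w : U) := by
    intro k w
    induction k with
    | zero => simp
    | succ k ih => rw [pow_succ', pow_succ', Module.End.mul_apply, rho_mul, ← ih]; rfl
  have hS₀N : S₀ ^ N = 1 := LinearMap.ext fun w => Subtype.ext (by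
    rw [hS₀pow, hpow _ w.2]; rfl)
  let G : (Module.End K W)ˣ := Units.ofPowEqOne S₀ N hS₀N hN0.ne'
  have hG : ((G : (Module.End K W)ˣ) : Module.End K W) = S₀ := rfl
  have hGpow : ∀ (k : ℕ) (w : W), ((((G ^ k : (Module.End K W)ˣ) : Module.End K W)) w : U) =
      ρ (g ^ k) (w : U) := by
    intro k w
    rw [Units.val_pow_eq_pow_val, hG, hS₀pow]
  let cj : ℕ → E → E := fun k x => ⟨g ^ k * x * (g ^ k)⁻¹, by
    induction k with
    | zero => simp
    | succ k ih =>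
      have := hgE _ ih
      rw [pow_succ', mul_inv_rev]
      convert this using 1
      simp [mul_assoc]⟩
  have hconj : ∀ (k : ℕ) (x : E), G ^ k * φ x * (G ^ k)⁻¹ = φ (cj k x) := by
    intro k x
    rw [mul_inv_eq_iff_eq_mul]
    refine Units.ext (LinearMap.ext fun w => Subtype.ext ?_)
    simp only [Units.val_mul, Module.End.mul_apply]
    rw [hGpow, hφ, hφ, hGpow, ← rho_mul, ← rho_mul]
    simp [cj, mul_assoc]
  let E' : Subgroup (Module.End K W)ˣ := φ.range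
  have hconjE : ∀ u ∈ E', G * u * G⁻¹ ∈ E' := by
    rintro _ ⟨x, rfl⟩
    exact ⟨cj 1 x, by rw [← hconj 1 x, pow_one]⟩
  let η : E' →* E' :=
    { toFun := fun u => ⟨G * u * G⁻¹, hconjE u u.2⟩
      map_one' := Subtype.ext (by simp)
      map_mul' := fun a b => Subtype.ext (by simp [mul_assoc]) }
  have hηk : ∀ (k : ℕ) (u : E'), (((⇑η)^[k] u : E') : (Module.End K W)ˣ) =
      G ^ k * u * (G ^ k)⁻¹ := by
    intro k u
    induction k with
    | zero => simp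
    | succ k ih =>
      rw [Function.iterate_succ_apply']
      show G * ((⇑η)^[k] u : E') * G⁻¹ = _
      rw [ih, pow_succ', mul_inv_rev]
      simp [mul_assoc]
  let ρ' : E' →* Module.End K W := (Units.coeHom _).comp E'.subtype
  let f : E →* E' := φ.rangeRestrict
  have hf : Function.Surjective f := φ.rangeRestrict_surjective
  let Z' : Subgroup E' := (R.subgroupOf E).map f
  obtain ⟨w₁, hw₁, hw₁0⟩ := (Submodule.ne_bot_iff W).mp hW0
  have hlam : ∀ x ∈ R, ∀ y ∈ R, (∀ w ∈ W, ρ x w = ρ y w) → lam x = lam y := fun x hx y hy h =>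
    smul_left_injective K hw₁0 (((hscal x hx w₁ hw₁).symm.trans (h w₁ hw₁)).trans (hscal y hy w₁ hw₁))
  have hfeq : ∀ x y : E, f x = f y → ∀ w ∈ W, ρ (x : H) w = ρ (y : H) w := fun x y h w hw => by
    have := congrArg (fun u : E' => ((u : (Module.End K W)ˣ) : Module.End K W) ⟨w, hw⟩) h
    exact congrArg Subtype.val this
  have hker : f.ker ≤ R.subgroupOf E := by
    intro x hx
    rw [MonoidHom.mem_ker] at hx
    by_contra hxR
    obtain ⟨u, hu, hne⟩ := hnd x x.2 hxR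
    have hx1 : ∀ w ∈ W, ρ (x : H) w = w := fun w hw => by
      simpa using hfeq x 1 (by rw [hx, map_one]) w hw
    apply hne
    refine smul_left_injective K hw₁0 ?_
    show lam ⁅u, (x : H)⁆ • w₁ = (1 : K) • w₁
    rw [← hscal _ (hcomm u hu x x.2) w₁ hw₁, commutatorElement_def, rho_mul, rho_mul, rho_mul]
    have hi : ρ ((x : H))⁻¹ w₁ = w₁ := by
      conv_lhs => rw [← hx1 w₁ hw₁]
      rw [rho_inv_apply]
    rw [hi, hx1 _ (hEW _ (inv_mem hu) _ hw₁), ← rho_mul, mul_inv_cancel, rho_one, one_smul]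
  let ψ : E' → K := fun u => if h : ∃ z : E, (z : H) ∈ R ∧ f z = u then lam (h.choose : H) else 0
  have hψ : ∀ z : E, (z : H) ∈ R → ψ (f z) = lam (z : H) := by
    intro z hz
    have h : ∃ z' : E, (z' : H) ∈ R ∧ f z' = f z := ⟨z, hz, rfl⟩
    simp only [ψ, dif_pos h]
    exact hlam _ h.choose_spec.1 _ hz (hfeq _ _ h.choose_spec.2)
  have hmem : ∀ x : E, f x ∈ Z' → (x : H) ∈ R := by
    rintro x ⟨z, hz, hzx⟩
    have h1 : x * z⁻¹ ∈ R.subgroupOf E := hker (by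
      rw [MonoidHom.mem_ker, map_mul, map_inv, hzx, mul_inv_cancel])
    have := mul_mem h1 hz
    rwa [inv_mul_cancel_right] at this
  have hρ' : ∀ (x : E) (w : W), ((ρ' (f x) w : W) : U) = ρ (x : H) (w : U) := fun _ _ => rfl
  have hηf : ∀ (x : E) (k : ℕ), (⇑η)^[k] (f x) = f (cj k x) := fun x k => Subtype.ext (by
    rw [hηk]; exact hconj k x)
  have hηf1 : ∀ x : E, η (f x) = f (cj 1 x) := fun x => by simpa using hηf x 1
  have hcjR : ∀ z : E, (z : H) ∈ R → ((cj 1 z : E) : H) ∈ R := fun z hz => by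
    show g ^ 1 * (z : H) * (g ^ 1)⁻¹ ∈ R
    rw [pow_one]; exact hgR _ hz
  let S : Module.End K W := c₀⁻¹ • S₀
  have hdata : HHBase ρ' Z' ψ η S N :=
    { mem_center := fun z hz u => by
        obtain ⟨z, hz, rfl⟩ := hz
        refine LinearMap.ext fun w => Subtype.ext ?_
        obtain ⟨x, rfl⟩ := hf u
        rw [← map_mul, ← map_mul, hρ', hρ', Subgroup.coe_mul, Subgroup.coe_mul, rho_mul, rho_mul,
          hscal (z : H) hz _ (hEW _ x.2 _ w.2), hscal (z : H) hz _ w.2, map_smul]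
      commutator_mem := fun u v => by
        obtain ⟨x, rfl⟩ := hf u
        obtain ⟨y, rfl⟩ := hf v
        exact ⟨⁅x, y⁆, hcomm x x.2 y y.2, map_commutatorElement f x y⟩
      scalar := fun z hz => by
        obtain ⟨z, hz, rfl⟩ := hz
        refine LinearMap.ext fun w => Subtype.ext ?_
        rw [hρ', hψ z hz, hscal (z : H) hz _ w.2]
        rfl
      nondeg := fun v hv => by
        obtain ⟨x, rfl⟩ := hf v
        have hx : (x : H) ∉ R := fun h => hv ⟨x, h, rfl⟩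
        obtain ⟨u, hu, hne⟩ := hnd x x.2 hx
        refine ⟨f ⟨u, hu⟩, ?_⟩
        rw [← map_commutatorElement, hψ ⁅(⟨u, hu⟩ : E), x⁆ (hcomm u hu x x.2)]
        exact hne
      periodic := fun u => by
        refine Subtype.ext ?_
        have : G ^ N = 1 := Units.ext (by rw [Units.val_pow_eq_pow_val, hG, hS₀N]; rfl)
        rw [hηk, this]; simp
      inv := fun z hz => by
        obtain ⟨z, hz, rfl⟩ := hz
        exact ⟨cj 1 z, hcjR z hz, (hηf1 z).symm⟩
      scalar_inv := fun z hz => by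
        obtain ⟨z, hz, rfl⟩ := hz
        rw [hηf1, hψ _ (hcjR z hz), hψ z hz]
        refine smul_left_injective K hw₁0 ?_
        show lam ((cj 1 z : E) : H) • w₁ = lam (z : H) • w₁
        rw [← hscal _ (hcjR z hz) w₁ hw₁]
        have hgi : ρ g⁻¹ w₁ ∈ W := by
          rw [show g⁻¹ = g⁻¹ * 1 from (mul_one _).symm, rho_mul, rho_one]
          have h1 : ρ g⁻¹ w₁ = ρ (g ^ (N - 1)) w₁ := by
            conv_lhs => rw [← hpow w₁ hw₁]
            rw [← rho_mul, show g ^ N = g * g ^ (N - 1) by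
              rw [← pow_succ']; congr 1; omega, inv_mul_cancel_left]
          rw [h1, ← hS₀pow (N - 1) ⟨w₁, hw₁⟩]
          exact Subtype.prop _
        show ρ (g ^ 1 * (z : H) * (g ^ 1)⁻¹) w₁ = _
        rw [pow_one, rho_mul, rho_mul, hscal (z : H) hz _ hgi, map_smul, ← rho_mul, mul_inv_cancel, rho_one]
      free := fun v i hi hiN hv => by
        obtain ⟨x, rfl⟩ := hf v
        rw [hηf, ← map_inv, ← map_mul] at hv
        exact ⟨x, hfree x x.2 i hi hiN (hmem _ hv), rfl⟩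
      pow_eq := by
        rw [smul_pow, inv_pow, hc₀, hS₀N, inv_one, one_smul]
      compat := fun u w => by
        obtain ⟨x, rfl⟩ := hf u
        refine Subtype.ext ?_
        simp only [S, LinearMap.smul_apply, Submodule.coe_smul, hηf1, hρ']
        show c₀⁻¹ • ρ g (ρ (x : H) (w : U)) = ρ (g ^ 1 * (x : H) * (g ^ 1)⁻¹) (c₀⁻¹ • ρ g (w : U))
        rw [pow_one, map_smul, ← rho_mul, ← rho_mul, inv_mul_cancel_right] }
  have hidx : Z'.index = R.relIndex E := Subgroup.index_map_eq _ hf hker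
  haveI : Finite E' := Finite.of_surjective f hf
  have hE' : (Nat.card E' : K) ≠ 0 := by
    obtain ⟨b, hb⟩ := Subgroup.card_dvd_of_surjective f hf
    intro h0
    exact hE (by rw [hb, Nat.cast_mul, h0, zero_mul])
  exact ⟨E', Z', ψ, η, hdata, hidx, hE', f, hf, hρ'⟩

theorem hh_wrap [Finite H] [IsAlgClosed K] [FiniteDimensional K U] (ρ : H →* Module.End K U)
    (W : Submodule K U) (hW0 : W ≠ ⊥) (E R : Subgroup H) (hRE : R ≤ E) (lam : H → K)
    (hEW : ∀ x ∈ E, ∀ w ∈ W, ρ x w ∈ W) (hscal : ∀ z ∈ R, ∀ w ∈ W, ρ z w = lam z • w)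
    (hcomm : ∀ a ∈ E, ∀ b ∈ E, ⁅a, b⁆ ∈ R)
    (hnd : ∀ x ∈ E, x ∉ R → ∃ u ∈ E, lam ⁅u, x⁆ ≠ 1)
    (g : H) (hgE : ∀ x ∈ E, g * x * g⁻¹ ∈ E) (hgR : ∀ x ∈ R, g * x * g⁻¹ ∈ R)
    (hgW : ∀ w ∈ W, ρ g w ∈ W) {N : ℕ} (hN : (N : K) ≠ 0) (hE : (Nat.card E : K) ≠ 0)
    (hpow : ∀ w ∈ W, ρ (g ^ N) w = w)
    (hfree : ∀ x ∈ E, ∀ i, 0 < i → i < N → x⁻¹ * (g ^ i * x * (g ^ i)⁻¹) ∈ R → x ∈ R)
    {c₀ : K} (hc₀ : c₀ ^ N = 1) (hex : ∀ w ∈ W, ρ g w = c₀ • w → w = 0)
    (hne : R.relIndex E ≠ 1) :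
    R.relIndex E = (N - 1) ^ 2 ∧ 3 ≤ N ∧
      ∀ c : K, c ^ N = 1 → c ≠ c₀ → ∃ w ∈ W, w ≠ 0 ∧ ρ g w = c • w := by
  have hN0 : 0 < N := Nat.pos_of_ne_zero fun h => hN (by simp [h])
  have hc0ne : c₀ ≠ 0 := fun h => by simp [h, zero_pow hN0.ne'] at hc₀
  haveI : Nontrivial W := Submodule.nontrivial_iff_ne_bot.mpr hW0
  obtain ⟨E', Z', ψ, η, hbase, hidx, hE', -⟩ := exists_hhBase ρ W hW0 E R hRE lam hEW hscal hcomm hnd
    g hgE hgR hgW hN0 hE hpow hfree hc₀
  have hdata : HHData ((Units.coeHom _).comp E'.subtype) Z' ψ η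
      (c₀⁻¹ • (ρ g).restrict hgW) N :=
    { hbase with
      fixed := fun w hw => by
        refine Subtype.ext (hex _ w.2 ?_)
        have := congrArg Subtype.val hw
        simp only [LinearMap.smul_apply, Submodule.coe_smul] at this
        exact (inv_smul_eq_iff₀ hc0ne).1 this }
  haveI : Finite E' := Nat.finite_of_card_ne_zero fun h0 => hE' (by simp [h0])
  obtain ⟨h1, h2, -, h4⟩ := hdata.exact hE' hN (by rwa [hidx])
  refine ⟨hidx ▸ h1, h2, fun c hc hcne => ?_⟩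
  obtain ⟨w, hw0, hw⟩ := h4 (c₀⁻¹ * c) (by rw [mul_pow, inv_pow, hc, hc₀]; simp)
    (fun h => hcne (inv_mul_eq_one₀ hc0ne |>.1 h).symm)
  refine ⟨(w : U), w.2, fun h0 => hw0 (Subtype.ext h0), ?_⟩
  have := congrArg Subtype.val hw
  simp only [LinearMap.smul_apply, Submodule.coe_smul] at this
  rw [inv_smul_eq_iff₀ hc0ne, smul_smul, ← mul_assoc, mul_inv_cancel₀ hc0ne, one_mul] at this
  exact this

end Cfsg.Agent.FGS73.Turull
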