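import Cfsg.Agent.FGS73.Turull.OperatorsMain
import Mathlib.GroupTheory.PGroup

/-!
Consequences for operators, and the centraliser of `σ` in the exceptional configuration.
-/

set_option autoImplicit false

namespace Cfsg.Agent.FGS73.Turull

open Subgroup
open scoped commutatorElement
open Cfsg.Agent.LinAct (rho_mul rho_one rho_inv_apply)

variable {H : Type*} [Group H] [Finite H] {K : Type*} [Field K] [IsAlgClosed K] {U : Type*}
  [AddCommGroup U] [Module K U] [FiniteDimensional K U]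
  {ρ : H →* Module.End K U} {Q Z : Subgroup H} {q r : ℕ} {σ : H}

theorem eq_of_weights (h : CTwo ρ Q Z q) {a b : H} (ha : a ∈ Q) (hb : b ∈ Q)
    (hw : ∀ (χ : H → K) (v : U), v ≠ 0 → v ∈ LinAct.wspace ρ Z χ → ρ a v = ρ b v) :
    ρ a = ρ b := by
  have hd : b⁻¹ * a ∈ Q := mul_mem (inv_mem hb) ha
  have h1 : ρ (b⁻¹ * a) = 1 := LinearMap.ext fun w =>
    eq_one_of_weights ρ Z ⊤ (fun _ _ _ _ => Submodule.mem_top)
      (fun x hx y hy w _ => h.swap (h.le hx) hy w)
      (congrArg Subtype.val (pow_card_eq_one' (x := (⟨_, hd⟩ : Q))))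
      (pow_card_ne_zero h.ne_zero h.pgroup h.prime) (fun _ _ => Submodule.mem_top)
      (fun x hx w _ => (h.swap hd hx w).symm)
      (fun χ v _ hv0 hv => by rw [rho_mul, hw χ v hv0 hv, rho_inv_apply]) w Submodule.mem_top
  have := congrArg (fun f => ρ b * f) h1
  simpa [← map_mul] using this

/-- An operator acts trivially when all commutators do. -/
theorem Op.trivial_of_abelian {N : Submodule K U} (h : Setting ρ Q Z q σ r)
    (hnb : NoBadN ρ Q σ N) {l : H} {s t : ℕ} (hl : Op ρ Q Z q σ r N l s t)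
    (hab : ∀ x ∈ Q, ∀ y ∈ Q, ρ ⁅y, x⁆ = 1) {x : H} (hx : x ∈ Q) : ρ (l * x * l⁻¹) = ρ x := by
  refine eq_of_weights h.toCTwo (Coprime.conj_mem_of_mem_normalizer hl.norm_Q hx) hx
    fun χ v hv0 hv => hl.trivial_act h hnb hv hv0 (fun y hy => ?_) hx hv
  exact ⟨mul_mem (inv_mem hy) (Coprime.conj_mem_of_mem_normalizer hl.norm_Q hy), fun t' ht' =>
    weight_eq_one hv hv0 (h.comm t' ht' _
      (mul_mem (inv_mem hy) (Coprime.conj_mem_of_mem_normalizer hl.norm_Q hy)))
      (by rw [hab _ (mul_mem (inv_mem hy) (Coprime.conj_mem_of_mem_normalizer hl.norm_Q hy)) t' ht']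
          rfl)⟩

/-- The commutator with an element fixing the fixed weights is trivial modulo every radical. -/
theorem Op.commutator_trivial {N : Submodule K U} (h : Setting ρ Q Z q σ r)
    (hnb : NoBadN ρ Q σ N) (hfpf : ∀ x ∈ Q, σ * x = x * σ → x ∈ Z) {l c : H} {s t : ℕ}
    (hl : Op ρ Q Z q σ r N l s t) (hcQ : c ∈ normalizer (Q : Set H))
    (hcZ : c ∈ normalizer (Z : Set H)) (hcσ : σ * c = c * σ)
    (hc : ∀ (χ : H → K) (v : U), v ≠ 0 → v ∈ LinAct.wspace ρ Z χ → σ ∈ LinAct.wstab Z χ →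
      c ∈ LinAct.wstab Z χ)
    {χ : H → K} {v : U} (hv : v ∈ LinAct.wspace ρ Z χ) (hv0 : v ≠ 0) :
    Triv Q (h.radS hv hv0) ⁅l, c⁆ := by
  have hzQ : ⁅l, c⁆ ∈ normalizer (Q : Set H) :=
    mul_mem (mul_mem (mul_mem hl.norm_Q hcQ) (inv_mem hl.norm_Q)) (inv_mem hcQ)
  by_cases hσ : σ ∈ LinAct.wstab Z χ
  swap
  · have hfix : ∀ w ∈ LinAct.wspace ρ Z χ, ρ ⁅l, c⁆ w = w := by
      intro w hw
      have hw' := LinAct.map_mem_wspace ρ (inv_mem hcZ) hw
      have hσ' : σ ∉ LinAct.wstab Z (fun z => χ (c⁻¹⁻¹ * z * c⁻¹)) := by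
        intro hst
        refine hσ (mem_wstab h.sigma_Z fun z hz => ?_)
        have h1 := wstab_conj hst (Coprime.conj_mem_of_mem_normalizer' hcZ hz)
        simp only [inv_inv] at h1
        have hc1 : c * σ * c⁻¹ = σ := by rw [← hcσ, mul_inv_cancel_right]
        rw [show c * (c⁻¹ * z * c) * c⁻¹ = z by group,
          show c * (σ * (c⁻¹ * z * c) * σ⁻¹) * c⁻¹ = c * σ * c⁻¹ * z * (c * σ * c⁻¹)⁻¹ by group,
          hc1] at h1
        exact h1
      have hl1 : ρ l⁻¹ (ρ c⁻¹ w) = ρ c⁻¹ w := by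
        by_cases h0 : ρ c⁻¹ w = 0
        · rw [h0, map_zero]
        · exact inv_fix (hl.moved h hnb hw' h0 hσ' hw')
      rw [commutatorElement_def, rho_mul, rho_mul, rho_mul, hl1, ← rho_mul ρ c, mul_inv_cancel,
        rho_one]
      exact hl.moved h hnb hv hv0 hσ hw
    intro x hx
    refine h.mem_radS_of_trivial hv hv0 le_rfl ((Submodule.ne_bot_iff _).2 ⟨v, hv, hv0⟩)
      (fun y hy w hw => h.wspace_inv hy hw)
      (mul_mem (inv_mem hx) (Coprime.conj_mem_of_mem_normalizer hzQ hx)) fun w hw => ?_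
    rw [rho_mul, rho_mul, rho_mul, inv_fix (hfix w hw), hfix _ (h.wspace_inv hx hw), rho_inv_apply]
  set R := h.radS hv hv0
  have hlR : l ∈ normalizer (R : Set H) := hl.rad_normalizer h hnb hv hv0
  have hcR : c ∈ normalizer (R : Set H) := h.radS_normalizer hv hv0 hcQ (hc χ v hv0 hv hσ)
  have hQR : Q ≤ normalizer (R : Set H) := h.Q_normalizer_radS hv hv0
  have hconj : ∀ y ∈ Q, c⁻¹ * y * c ∈ Q := fun y hy =>
    Coprime.conj_mem_of_mem_normalizer' hcQ hy
  rw [show ⁅l, c⁆ = l * (c * l⁻¹ * c⁻¹) by simp [commutatorElement_def, mul_assoc]]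
  have hm : c * l⁻¹ * c⁻¹ ∈ normalizer (Q : Set H) :=
    mul_mem (mul_mem hcQ (inv_mem hl.norm_Q)) (inv_mem hcQ)
  rcases Op.act h hnb hfpf hv hv0 hσ t l hl with h1 | ⟨-, h1⟩
  · intro y hy
    have h2 : Triv Q R (c * l⁻¹ * c⁻¹) := fun y hy => by
      have := Coprime.conj_mem_of_mem_normalizer hcR (h1.inv hlR _ (hconj y hy))
      convert this using 1
      group
    have h3 := h1 _ (Coprime.conj_mem_of_mem_normalizer hm hy)
    have := mul_mem (h2 y hy) h3
    convert this using 1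
    group
  · refine h1.sq hQR hm fun y hy => ?_
    have := Coprime.conj_mem_of_mem_normalizer hcR (h1.inv hl.norm_Q hQR _ (hconj y hy))
    convert this using 1
    group

/-- In the exceptional configuration the elements commuting with `σ` and fixing the weight are
trivial on the moved part modulo the radical. -/
theorem Setting.exceptional_core {m : ℕ} (h : Setting ρ Q Z q σ r) (hq2 : q = 2)
    (hexp : ∀ x ∈ Q, x ^ q ∈ Z) {χ : H → K} {v : U} (hv : v ∈ LinAct.wspace ρ Z χ) (hv0 : v ≠ 0)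
    (hσ : σ ∈ LinAct.wstab Z χ) (hm : r = 2 ^ m + 1)
    (hidx : (h.radS hv hv0).relIndex ⁅Q, zpowers σ⁆ = (2 ^ m) ^ 2)
    {a : H} {n : ℕ} (han : a ^ n = 1)
    (hnr : n.Coprime r) (haQ : a ∈ normalizer (Q : Set H)) (haσ : σ * a = a * σ)
    (hst : a ∈ LinAct.wstab Z χ) {x : H} (hx : x ∈ ⁅Q, zpowers σ⁆) :
    x⁻¹ * (a * x * a⁻¹) ∈ h.radS hv hv0 := by
  classical
  subst hq2
  set R := h.radS hv hv0 with hR
  have hRQ : R ≤ Q := h.radS_le hv hv0
  have hZR : Z ≤ R := h.Z_le_radS hv hv0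
  have haR : a ∈ normalizer (R : Set H) := h.radS_normalizer hv hv0 haQ hst
  have hσR : σ ∈ normalizer (R : Set H) := h.sigma_rad_normalizer hv hv0 hσ
  have hQR : Q ≤ normalizer (R : Set H) := h.Q_normalizer_radS hv hv0
  set E := ⁅Q, zpowers σ⁆ with hE
  have hEQ : E ≤ Q := commutator_le_Q h.sigma_Q
  have haE : a ∈ normalizer (E : Set H) := by
    have key : ∀ b : H, b ∈ normalizer (Q : Set H) → σ * b = b * σ → ∀ y ∈ E, b * y * b⁻¹ ∈ E := by
      intro b hbQ hbσ y hy
      have hle : E ≤ E.comap (MulAut.conj b).toMonoidHom := commutator_le.2 fun u hu k hk => by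
        show b * ⁅u, k⁆ * b⁻¹ ∈ E
        have hk' : b * k * b⁻¹ = k := by
          obtain ⟨j, rfl⟩ := mem_powers_iff_mem_zpowers.2 hk
          rw [← ((show Commute σ b from hbσ).pow_left j).eq, mul_inv_cancel_right]
        rw [show b * ⁅u, k⁆ * b⁻¹ = ⁅b * u * b⁻¹, b * k * b⁻¹⁆ by
          simp [commutatorElement_def, mul_assoc], hk']
        exact commutator_mem_commutator (Coprime.conj_mem_of_mem_normalizer hbQ hu) hk
      exact hle hy
    exact Coprime.mem_normalizer_of_le_iff (key a haQ haσ) fun y hy => by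
      simpa using key a⁻¹ (inv_mem haQ) (show Commute σ a from haσ).inv_right.eq y hy
  have hσE : σ ∈ normalizer (E : Set H) :=
    Coprime.le_normalizer_commutator_right (zpowers σ) Q (mem_zpowers σ)
  haveI hRn : (R.subgroupOf E).Normal := ⟨fun y hy u => by
    simp only [Subgroup.mem_subgroupOf, Subgroup.coe_mul, Subgroup.coe_inv] at hy ⊢
    exact Coprime.conj_mem_of_mem_normalizer (hQR (hEQ u.2)) hy⟩
  let M := E ⧸ R.subgroupOf E
  have hmk : ∀ x y : E, (QuotientGroup.mk x : M) = QuotientGroup.mk y ↔ (x : H)⁻¹ * y ∈ R :=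
    fun x y => by rw [QuotientGroup.eq, Subgroup.mem_subgroupOf]; rfl
  have hcomm : ∀ u w : M, u * w = w * u := by
    intro u w
    obtain ⟨u, rfl⟩ := QuotientGroup.mk_surjective u
    obtain ⟨w, rfl⟩ := QuotientGroup.mk_surjective w
    rw [← QuotientGroup.mk_mul, ← QuotientGroup.mk_mul, hmk]
    have := hZR (h.comm (w : H)⁻¹ (inv_mem (hEQ w.2)) (u : H)⁻¹ (inv_mem (hEQ u.2)))
    convert this using 1
    simp [commutatorElement_def, mul_assoc]
  letI : CommGroup M := { (inferInstance : Group M) with mul_comm := hcomm }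
  have hsq : ∀ u : M, u * u = 1 := by
    intro u
    obtain ⟨u, rfl⟩ := QuotientGroup.mk_surjective u
    rw [← QuotientGroup.mk_mul, ← QuotientGroup.mk_one, eq_comm, hmk]
    have := hZR (hexp (u : H) (hEQ u.2))
    rw [sq] at this
    simpa using this
  -- the induced automorphisms
  have hauto : ∀ g ∈ normalizer (E : Set H) ⊓ normalizer (R : Set H), ∃ f : M →* M,
      ∀ (u : E) (u' : E), (u' : H) = g * u * g⁻¹ → f (QuotientGroup.mk u) = QuotientGroup.mk u' := by
    intro g hg
    let c : E →* E :=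
      { toFun := fun u => ⟨g * u * g⁻¹, Coprime.conj_mem_of_mem_normalizer hg.1 u.2⟩
        map_one' := Subtype.ext (by simp)
        map_mul' := fun u w => Subtype.ext (by simp [mul_assoc]) }
    refine ⟨QuotientGroup.map _ _ c fun u hu => ?_, fun u u' hu' => ?_⟩
    · rw [Subgroup.mem_comap, Subgroup.mem_subgroupOf]
      exact Coprime.conj_mem_of_mem_normalizer hg.2 hu
    · rw [QuotientGroup.map_mk]
      exact congrArg _ (Subtype.ext hu'.symm)
  obtain ⟨s, hs⟩ := hauto σ ⟨hσE, hσR⟩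
  obtain ⟨f, hf⟩ := hauto a ⟨haE, haR⟩
  have hiter : ∀ (g : H) (φ : M →* M), g ∈ normalizer (E : Set H) →
      (∀ (u : E) (u' : E), (u' : H) = g * u * g⁻¹ → φ (QuotientGroup.mk u) = QuotientGroup.mk u') →
      ∀ k : ℕ, g ^ k = 1 → ∀ u : M, (⇑φ)^[k] u = u := by
    intro g φ hgQ hφ k hk u
    obtain ⟨u, rfl⟩ := QuotientGroup.mk_surjective u
    have key : ∀ (i : ℕ) (u' : E), (u' : H) = g ^ i * u * (g ^ i)⁻¹ →
        (⇑φ)^[i] (QuotientGroup.mk u) = QuotientGroup.mk u' := by
      intro i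
      induction i with
      | zero => intro u' hu'; exact congrArg QuotientGroup.mk (Subtype.ext (by simpa using hu'.symm))
      | succ i ih =>
        intro u' hu'
        rw [Function.iterate_succ_apply', ih ⟨g ^ i * u * (g ^ i)⁻¹,
          Coprime.conj_mem_of_mem_normalizer (pow_mem hgQ i) u.2⟩ rfl]
        exact hφ _ _ (by rw [hu', pow_succ', mul_inv_rev]; simp [mul_assoc])
    exact key k u (by rw [hk]; simp)
  have hsr := hiter σ s hσE hs r h.sigma_pow
  have hfn := hiter a f haE hf n han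
  have hsf : ∀ u : M, s (f u) = f (s u) := by
    intro u
    obtain ⟨u, rfl⟩ := QuotientGroup.mk_surjective u
    rw [hf u ⟨_, Coprime.conj_mem_of_mem_normalizer haE u.2⟩ rfl,
      hs u ⟨_, Coprime.conj_mem_of_mem_normalizer hσE u.2⟩ rfl,
      hs _ ⟨_, Coprime.conj_mem_of_mem_normalizer hσE
        (Coprime.conj_mem_of_mem_normalizer haE u.2)⟩ rfl]
    refine (hf _ _ ?_).symm
    show σ * (a * u * a⁻¹) * σ⁻¹ = a * (σ * u * σ⁻¹) * a⁻¹
    calc σ * (a * u * a⁻¹) * σ⁻¹ = (σ * a) * u * (σ * a)⁻¹ := by group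
      _ = (a * σ) * u * (a * σ)⁻¹ := by rw [haσ]
      _ = _ := by group
  have hsfix : ∀ u : M, s u = u → u = 1 := by
    intro u hu
    obtain ⟨u, rfl⟩ := QuotientGroup.mk_surjective u
    rw [hs u ⟨_, Coprime.conj_mem_of_mem_normalizer hσE u.2⟩ rfl, eq_comm, hmk] at hu
    have := h.free_rad hv hv0 h.coprime h.sigma_Q hσ u.2 hu
    rw [← QuotientGroup.mk_one, eq_comm, hmk]
    simpa using this
  -- the pairing
  let B : M → M → K := fun u w => χ ⁅((Quotient.out u : E) : H), ((Quotient.out w : E) : H)⁆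
  have hB : ∀ u w : E, B (QuotientGroup.mk u) (QuotientGroup.mk w) = χ ⁅(u : H), (w : H)⁆ := by
    intro u w
    have hu : ((u : H))⁻¹ * ((Quotient.out (QuotientGroup.mk u : M) : E) : H) ∈ R :=
      (hmk _ _).1 (QuotientGroup.out_eq' _).symm
    have hw : ((w : H))⁻¹ * ((Quotient.out (QuotientGroup.mk w : M) : E) : H) ∈ R :=
      (hmk _ _).1 (QuotientGroup.out_eq' _).symm
    show χ ⁅_, _⁆ = _
    generalize (Quotient.out (QuotientGroup.mk u : M) : E) = u₁ at hu ⊢
    generalize (Quotient.out (QuotientGroup.mk w : M) : E) = w₁ at hw ⊢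
    rw [show (w₁ : H) = w * ((w : H)⁻¹ * w₁) by group, h.beta_right hv hv0 (hEQ u₁.2) (hEQ w.2)
        (hRQ hw), show χ ⁅(u₁ : H), _⁆ = 1 from hw.2 _ (hEQ u₁.2), mul_one,
      show (u₁ : H) = u * ((u : H)⁻¹ * u₁) by group, h.beta_left hv hv0 (hEQ w.2) (hEQ u.2) (hRQ hu),
      h.beta_swap hv hv0 (hEQ w.2) (hRQ hu) (hu.2 _ (hEQ w.2)), mul_one]
  have hBl : ∀ u u' w, B (u * u') w = B u w * B u' w := by
    intro u u' w
    obtain ⟨u, rfl⟩ := QuotientGroup.mk_surjective u
    obtain ⟨u', rfl⟩ := QuotientGroup.mk_surjective u'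
    obtain ⟨w, rfl⟩ := QuotientGroup.mk_surjective w
    rw [← QuotientGroup.mk_mul, hB, hB, hB, Subgroup.coe_mul, h.beta_left hv hv0 (hEQ w.2) (hEQ u.2) (hEQ u'.2)]
  have hBr : ∀ u w w', B u (w * w') = B u w * B u w' := by
    intro u w w'
    obtain ⟨u, rfl⟩ := QuotientGroup.mk_surjective u
    obtain ⟨w, rfl⟩ := QuotientGroup.mk_surjective w
    obtain ⟨w', rfl⟩ := QuotientGroup.mk_surjective w'
    rw [← QuotientGroup.mk_mul, hB, hB, hB, Subgroup.coe_mul, h.beta_right hv hv0 (hEQ u.2) (hEQ w.2) (hEQ w'.2)]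
  have hB1 : ∀ u, B u 1 = 1 ∧ B 1 u = 1 := by
    intro u
    obtain ⟨u, rfl⟩ := QuotientGroup.mk_surjective u
    constructor
    · rw [← QuotientGroup.mk_one, hB, OneMemClass.coe_one]
      exact (h.bracket' hv hv0).one_right (hEQ u.2)
    · rw [← QuotientGroup.mk_one, hB, OneMemClass.coe_one]
      exact h.beta_swap hv hv0 (hEQ u.2) (one_mem Q) ((h.bracket' hv hv0).one_right (hEQ u.2))
  have hBnd : ∀ w, (∀ u, B u w = 1) → w = 1 := by
    intro w hw
    obtain ⟨w, rfl⟩ := QuotientGroup.mk_surjective w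
    rw [← QuotientGroup.mk_one, eq_comm, hmk]
    simp only [OneMemClass.coe_one, inv_one, one_mul]
    refine ⟨hEQ w.2, fun t ht => ?_⟩
    obtain ⟨e, he, c, hc, hcσ, rfl⟩ := split h.pgroup h.prime h.coprime h.sigma_Q ht
    have h1 : χ ⁅e, (w : H)⁆ = 1 := by simpa [hB] using hw (QuotientGroup.mk ⟨e, he⟩)
    show χ ⁅e * c, (w : H)⁆ = 1
    rw [h.beta_left hv hv0 (hEQ w.2) (hEQ he) hc, h1, h.orth hv hv0 h.sigma_Q hσ hc hcσ w.2,
      one_mul]
  have hBinv : ∀ (g : H) (φ : M →* M), g ∈ normalizer (E : Set H) → g ∈ LinAct.wstab Z χ →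
      (∀ (u : E) (u' : E), (u' : H) = g * u * g⁻¹ → φ (QuotientGroup.mk u) = QuotientGroup.mk u') →
      ∀ u w, B (φ u) (φ w) = B u w := by
    intro g φ hgQ hgχ hφ u w
    obtain ⟨u, rfl⟩ := QuotientGroup.mk_surjective u
    obtain ⟨w, rfl⟩ := QuotientGroup.mk_surjective w
    rw [hφ u ⟨_, Coprime.conj_mem_of_mem_normalizer hgQ u.2⟩ rfl,
      hφ w ⟨_, Coprime.conj_mem_of_mem_normalizer hgQ w.2⟩ rfl, hB, hB]
    show χ ⁅g * (u : H) * g⁻¹, g * (w : H) * g⁻¹⁆ = _
    rw [show ⁅g * (u : H) * g⁻¹, g * (w : H) * g⁻¹⁆ = g * ⁅(u : H), (w : H)⁆ * g⁻¹ by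
      simp [commutatorElement_def, mul_assoc]]
    exact wstab_conj hgχ (h.comm _ (hEQ u.2) _ (hEQ w.2))
  have hBs := hBinv σ s hσE hσ hs
  have hBf := hBinv a f haE hst hf
  -- irreducibility of `σ`
  have hcardM : Nat.card M = (2 ^ m) ^ 2 := by
    rw [← hidx, ← Subgroup.index_eq_card]
    rfl
  have hirr : ∀ S : Subgroup M, (∀ u ∈ S, s u ∈ S) → S = ⊥ ∨ S = ⊤ := by
    intro S hS
    have := Fact.mk h.r_prime
    have hrS : Nat.card S ≡ 1 [MOD r] := by
      let sS : S → S := fun u => ⟨s u, hS u u.2⟩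
      have hsSi : ∀ (i : ℕ) (u : S), (((sS)^[i] u : S) : M) = (⇑s)^[i] (u : M) := by
        intro i u
        induction i with
        | zero => rfl
        | succ i ih => rw [Function.iterate_succ_apply', Function.iterate_succ_apply', ← ih]
      have hper : ∀ u : S, (sS)^[r] u = u := fun u => Subtype.ext (by rw [hsSi, hsr])
      let e : Equiv.Perm S :=
        { toFun := sS, invFun := (sS)^[r - 1]
          left_inv := fun u => by
            rw [← Function.iterate_succ_apply,
              show (r - 1).succ = r by have := h.r_prime.pos; omega, hper]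
          right_inv := fun u => by
            rw [← Function.iterate_succ_apply' sS,
              show (r - 1).succ = r by have := h.r_prime.pos; omega, hper] }
      have her : e ^ r = 1 := Equiv.ext fun u => by rw [Equiv.Perm.coe_pow]; exact hper u
      have hpg : IsPGroup r (zpowers e) := by
        refine fun g => ⟨1, ?_⟩
        obtain ⟨i, hi⟩ := g.2
        refine Subtype.ext ?_
        rw [pow_one, SubgroupClass.coe_pow, ← hi, ← zpow_natCast, ← zpow_mul, mul_comm, zpow_mul,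
          zpow_natCast, her, one_zpow]
        rfl
      suffices h1 : Nat.card (MulAction.fixedPoints (zpowers e) S) = 1 from
        h1 ▸ hpg.card_modEq_card_fixedPoints S
      rw [Nat.card_eq_one_iff_exists]
      refine ⟨⟨1, ?_⟩, fun u => Subtype.ext ?_⟩
      · rintro ⟨g, hg⟩
        have hle : zpowers e ≤ MulAction.stabilizer (Equiv.Perm S) (1 : S) :=
          zpowers_le.2 (Subtype.ext (map_one s))
        exact hle hg
      · have hu : e (u : S) = u := u.2 ⟨e, mem_zpowers e⟩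
        exact Subtype.ext (hsfix _ (congrArg Subtype.val hu))
    have hdvd : Nat.card S ∣ 2 ^ (m * 2) := by
      rw [pow_mul, ← hcardM]; exact card_subgroup_dvd_card S
    obtain ⟨a', ha', hS'⟩ := (Nat.dvd_prime_pow Nat.prime_two).1 hdvd
    have hcases : a' = 0 ∨ a' = m * 2 := by
      rw [hS'] at hrS
      have hm2 : 2 ^ m + 1 = r := hm.symm
      have h2m : 2 ≤ 2 ^ m := by
        rcases Nat.eq_zero_or_pos m with h0 | h0
        · subst h0; exact absurd hm2.symm (by simpa using h.q_ne_r.symm)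
        · exact Nat.le_self_pow h0.ne' 2
      by_contra hne
      push Not at hne
      have h1 : r ∣ 2 ^ a' - 1 := (Nat.modEq_iff_dvd' Nat.one_le_two_pow).1 hrS.symm
      have h1' : 2 ≤ 2 ^ a' := Nat.le_self_pow hne.1 2
      rcases le_or_gt a' m with hle | hgt
      · have := Nat.pow_le_pow_right (n := 2) (by norm_num) hle
        have := Nat.le_of_dvd (by omega) h1
        omega
      · have h2 : (2 : ℕ) ^ a' = 2 ^ (a' - m) * 2 ^ m := by
          rw [← pow_add]; congr 1; omega
        have h3 : r ∣ 2 ^ (a' - m) + 1 := by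
          have h4 : r ∣ 2 ^ (a' - m) * r - (2 ^ a' - 1) := Nat.dvd_sub (dvd_mul_left _ _) h1
          have h5 : 2 ^ (a' - m) * r - (2 ^ a' - 1) = 2 ^ (a' - m) + 1 := by
            rw [← hm2, mul_add, mul_one, ← h2]
            generalize 2 ^ (a' - m) = G
            generalize 2 ^ a' = A at h1' ⊢
            omega
          rwa [h5] at h4
        have h6 := Nat.pow_lt_pow_right (a := 2) (by norm_num) (show a' - m < m by omega)
        have h7 := Nat.le_of_dvd (by positivity) h3
        clear h2 h3 h1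
        generalize 2 ^ (a' - m) = G at h6 h7
        omega
    rcases hcases with h0 | h0
    · exact Or.inl (Subgroup.card_eq_one.1 (by rw [hS', h0, pow_zero]))
    · exact Or.inr ((Subgroup.card_eq_iff_eq_top S).1 (by rw [hS', h0, pow_mul, hcardM]))
  -- `f` is a product of powers of `s`
  have hPm : ∀ (g : ℕ → ℕ) (J : Finset ℕ) (u w : M),
      ∏ j ∈ J, (⇑s)^[g j] (u * w) = (∏ j ∈ J, (⇑s)^[g j] u) * ∏ j ∈ J, (⇑s)^[g j] w := by
    intro g J u w
    rw [← Finset.prod_mul_distrib]
    exact Finset.prod_congr rfl fun j _ => iterate_map_mul s (g j) u w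
  by_cases hM1 : ∀ u : M, u = 1
  · have := hM1 (QuotientGroup.mk (⟨_, mul_mem (inv_mem hx)
      (Coprime.conj_mem_of_mem_normalizer haE hx)⟩ : E))
    rw [← QuotientGroup.mk_one, eq_comm, hmk] at this
    simpa using this
  push Not at hM1
  obtain ⟨u₀, hu₀⟩ := hM1
  have hgen : ∀ u, ∃ g : ℕ → ℕ, ∃ J : Finset ℕ, u = ∏ j ∈ J, (⇑s)^[g j] u₀ := by
    have htop : Subgroup.closure (Set.range fun i => (⇑s)^[i] u₀) = ⊤ := by
      refine (hirr _ fun u hu => ?_).resolve_left fun h0 => hu₀ ?_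
      · have : Subgroup.closure (Set.range fun i => (⇑s)^[i] u₀) ≤
            (Subgroup.closure (Set.range fun i => (⇑s)^[i] u₀)).comap s := by
          rw [Subgroup.closure_le]
          rintro _ ⟨i, rfl⟩
          exact Subgroup.subset_closure ⟨i + 1, Function.iterate_succ_apply' s i u₀⟩
        exact this hu
      · simpa [h0] using (Subgroup.subset_closure ⟨0, rfl⟩ :
          u₀ ∈ Subgroup.closure (Set.range fun i => (⇑s)^[i] u₀))
    intro u
    have hu : u ∈ Subgroup.closure (Set.range fun i => (⇑s)^[i] u₀) := htop ▸ mem_top u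
    induction hu using Subgroup.closure_induction with
    | mem u hu =>
      obtain ⟨i, rfl⟩ := hu
      exact ⟨fun _ => i, {0}, by simp⟩
    | one => exact ⟨id, ∅, by simp⟩
    | mul u w _ _ hu hw =>
      obtain ⟨g, J, rfl⟩ := hu
      obtain ⟨g', J', rfl⟩ := hw
      refine ⟨fun j => if j % 2 = 0 then g (j / 2) else g' (j / 2),
        J.image (2 * ·) ∪ J'.image (2 * · + 1), ?_⟩
      rw [Finset.prod_union, Finset.prod_image (by intro i _ j _ hij; simpa using hij),
        Finset.prod_image (by intro i _ j _ hij; simpa using hij)]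
      · congr 1
        · exact Finset.prod_congr rfl fun j _ => by simp
        · exact Finset.prod_congr rfl fun j _ => by
            simp [Nat.add_mod, show (2 * j + 1) / 2 = j by omega]
      · rw [Finset.disjoint_left]
        intro i hi hi'
        obtain ⟨j, -, rfl⟩ := Finset.mem_image.1 hi
        obtain ⟨j', -, hj'⟩ := Finset.mem_image.1 hi'
        omega
    | inv u _ hu =>
      obtain ⟨g, J, rfl⟩ := hu
      exact ⟨g, J, inv_eq_of_mul_eq_one_left (hsq _)⟩
  have hcomm' : ∀ (i : ℕ) (u : M), (⇑s)^[i] (f u) = f ((⇑s)^[i] u) := by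
    intro i u
    induction i with
    | zero => rfl
    | succ i ih => rw [Function.iterate_succ_apply', Function.iterate_succ_apply', ih, hsf]
  obtain ⟨g, J, hgJ⟩ := hgen (f u₀)
  have hfP : ∀ u, f u = ∏ j ∈ J, (⇑s)^[g j] u := by
    intro u
    obtain ⟨g', J', rfl⟩ := hgen u
    rw [map_prod]
    have h1 : ∀ i, f ((⇑s)^[i] u₀) = ∏ j ∈ J, (⇑s)^[g j] ((⇑s)^[i] u₀) := by
      intro i
      rw [← hcomm', hgJ]
      clear hgJ
      induction J using Finset.induction with
      | empty => simp [iterate_map_one]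
      | insert j J' hj ih =>
        rw [Finset.prod_insert hj, Finset.prod_insert hj, iterate_map_mul, ← ih,
          ← Function.iterate_add_apply, ← Function.iterate_add_apply, Nat.add_comm]
    rw [Finset.prod_congr rfl fun i _ => h1 (g' i)]
    rw [Finset.prod_comm]
    refine Finset.prod_congr rfl fun j _ => ?_
    induction J' using Finset.induction with
    | empty => simp [iterate_map_one]
    | insert i J' hi ih => rw [Finset.prod_insert hi, Finset.prod_insert hi, iterate_map_mul, ih]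
  have hsqJ : ∀ (g : ℕ → ℕ) (J : Finset ℕ) (u : M),
      ∏ j ∈ J, (⇑s)^[g j] (∏ i ∈ J, (⇑s)^[g i] u) = ∏ j ∈ J, (⇑s)^[2 * g j] u := by
    intro g J u
    induction J using Finset.induction with
    | empty => simp
    | insert j J hj ih =>
      rw [Finset.prod_insert hj, Finset.prod_insert hj, Finset.prod_insert hj, hPm, iterate_map_mul,
        ← Function.iterate_add_apply, ← two_mul, ih]
      have hcr : (⇑s)^[g j] (∏ i ∈ J, (⇑s)^[g i] u) = ∏ i ∈ J, (⇑s)^[g i] ((⇑s)^[g j] u) := by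
        clear ih hj
        induction J using Finset.induction with
        | empty => simp [iterate_map_one]
        | insert i J hi ih =>
          rw [Finset.prod_insert hi, Finset.prod_insert hi, iterate_map_mul, ih,
            ← Function.iterate_add_apply, ← Function.iterate_add_apply, Nat.add_comm]
      rw [hcr, mul_assoc, ← mul_assoc (∏ i ∈ J, (⇑s)^[g i] ((⇑s)^[g j] u)), hsq, one_mul]
  have hf2 : ∀ (i : ℕ) (u : M), (⇑f)^[2 ^ i] u = ∏ j ∈ J, (⇑s)^[2 ^ i * g j] u := by
    intro i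
    induction i with
    | zero => intro u; simpa using hfP u
    | succ i ih =>
      intro u
      rw [pow_succ, mul_two, Function.iterate_add_apply, ih, ih,
        hsqJ (fun j => 2 ^ i * g j) J u]
      exact Finset.prod_congr rfl fun j _ => by
        rw [show 2 * (2 ^ i * g j) = (2 ^ i + 2 ^ i) * g j by ring]
  have hadj : ∀ (i : ℕ) (u w : M), B ((⇑s)^[i] u) w = B u ((⇑s)^[2 ^ m * i] w) := by
    intro i u w
    have hi : ∀ (j : ℕ) (u w : M), B ((⇑s)^[j] u) ((⇑s)^[j] w) = B u w := by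
      intro j u w
      induction j with
      | zero => rfl
      | succ j ih => rw [Function.iterate_succ_apply', Function.iterate_succ_apply', hBs, ih]
    have hw : w = (⇑s)^[i] ((⇑s)^[2 ^ m * i] w) := by
      rw [← Function.iterate_add_apply, show i + 2 ^ m * i = r * i by rw [hm]; ring]
      exact (Function.IsPeriodicPt.mul_const (hsr w) i).symm
    conv_lhs => rw [hw]
    rw [hi]
  have hfr : ∀ w : M, (⇑f)^[r] w = w := by
    intro w
    have h1 : ∀ u, B u ((⇑f)^[r] w) = B u w := by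
      intro u
      conv_rhs => rw [← hBf u w, hfP u]
      rw [hm, Function.iterate_succ_apply, hf2 m]
      clear hfP hgJ hf2
      induction J using Finset.induction generalizing u with
      | empty => simp [hB1]
      | insert j J' hj ih =>
        rw [Finset.prod_insert hj, Finset.prod_insert hj, hBr, hBl, hadj]
        congr 1
        exact (ih u).trans rfl
    have h2 : (⇑f)^[r] w * w⁻¹ = 1 := hBnd _ fun u => by
      have h3 := h1 u
      rw [hBr, h3, ← hBr, mul_inv_cancel, (hB1 u).1]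
    exact mul_inv_eq_one.1 h2
  have hfid : f (QuotientGroup.mk ⟨x, hx⟩) = QuotientGroup.mk ⟨x, hx⟩ :=
    (Nat.Coprime.gcd_eq_one hnr ▸
      Function.IsPeriodicPt.gcd (hfn _) (hfr (QuotientGroup.mk ⟨x, hx⟩)) :
      Function.IsPeriodicPt (⇑f) 1 _)
  rw [hf _ ⟨_, Coprime.conj_mem_of_mem_normalizer haE hx⟩ rfl, eq_comm, hmk] at hfid
  exact hfid

end Cfsg.Agent.FGS73.Turull
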