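import Cfsg.Agent.FGS73.Turull.Minimal

/-!
The first term of a minimal tower moved by `t`.
-/

set_option autoImplicit false

universe u

namespace Cfsg.Agent.FGS73.Turull

open Subgroup
open scoped commutatorElement

variable {Γ : Type u} [Group Γ]

theorem mem_centralizer_single {t x : Γ} : x ∈ centralizer ({t} : Set Γ) ↔ t * x = x * t := by
  simp [mem_centralizer_iff]

theorem commute_of_mem_zpowers {t x a : Γ} (hx : t * x = x * t) (ha : a ∈ zpowers t) :
    a * x = x * a := by
  obtain ⟨j, rfl⟩ := mem_zpowers_iff.1 ha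
  exact ((show Commute t x from hx).zpow_left j).eq

theorem mem_normalizer_zpowers {t g : Γ} (hg : t * g = g * t) :
    g ∈ normalizer (SetLike.coe (zpowers t)) :=
  Coprime.mem_normalizer_of_le_iff
    (fun a ha => by rwa [← commute_of_mem_zpowers hg ha, mul_inv_cancel_right])
    (fun a ha => by rwa [mul_assoc, commute_of_mem_zpowers hg ha, inv_mul_cancel_left])

/-- Centralising modulo `K` on generators. -/
theorem commutator_sup_le {X Y A K : Subgroup Γ} (hX : X ≤ normalizer (K : Set Γ))
    (hY : Y ≤ normalizer (K : Set Γ)) (h1 : ⁅X, A⁆ ≤ K) (h2 : ⁅Y, A⁆ ≤ K) : ⁅X ⊔ Y, A⁆ ≤ K := by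
  let S : Subgroup Γ :=
    { carrier := {y | y ∈ normalizer (K : Set Γ) ∧ ∀ a ∈ A, ⁅y, a⁆ ∈ K}
      one_mem' := ⟨one_mem _, fun a _ => by simp⟩
      mul_mem' := fun {y z} hy hz => ⟨mul_mem hy.1 hz.1, fun a ha => by
        have := mul_mem (Coprime.conj_mem_of_mem_normalizer hy.1 (hz.2 a ha)) (hy.2 a ha)
        convert this using 1
        simp [commutatorElement_def, mul_assoc]⟩
      inv_mem' := fun {y} hy => ⟨inv_mem hy.1, fun a ha => by
        have := Coprime.conj_mem_of_mem_normalizer' hy.1 (inv_mem (hy.2 a ha))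
        convert this using 1
        simp [commutatorElement_def, mul_assoc]⟩ }
  have hle : X ⊔ Y ≤ S := sup_le
    (fun y hy => ⟨hX hy, fun a ha => h1 (commutator_mem_commutator hy ha)⟩)
    (fun y hy => ⟨hY hy, fun a ha => h2 (commutator_mem_commutator hy ha)⟩)
  exact commutator_le.2 fun y hy a ha => (hle hy).2 a ha

namespace MinTower

variable [Finite Γ] {G0 : Subgroup Γ} {t : Γ} {r h : ℕ} {P : ℕ → Subgroup Γ} {p : ℕ → ℕ}
  (M : MinTower G0 t r h P p)

local notation "Kk" => towerKer P h
local notation "Rr" => towerRad P p h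

include M

theorem t_ker (i : ℕ) : zpowers t ≤ normalizer (SetLike.coe (Kk i)) :=
  zpowers_le.2 (mem_normalizer_towerKer (M.t_norm_all i))

theorem split_t {i : ℕ} (hi : i < h) {X : Subgroup Γ} (hX : X ≤ P i)
    (ht : t ∈ normalizer (X : Set Γ)) :
    X = ⁅X, zpowers t⁆ ⊔ (X ⊓ centralizer ({t} : Set Γ)) := by
  conv_lhs => rw [← Coprime.commutator_sup_centralizer (zpowers t) X (zpowers_le.2 ht)
    (M.coprime_t hi hX) (Or.inl (zpowers_solvable t))]
  congr 2
  ext x
  rw [mem_centralizer_single, mem_centralizer_iff]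
  exact ⟨fun h => h t (mem_zpowers t), fun h a ha => commute_of_mem_zpowers h ha⟩

/-- Lifting fixed elements. -/
theorem exists_commute_mul {i : ℕ} (hi : i < h) {N : Subgroup Γ} (hN : N ≤ P i)
    (ht : t ∈ normalizer (N : Set Γ)) {x : Γ} (hx : x⁻¹ * (t * x * t⁻¹) ∈ N) :
    ∃ n ∈ N, t * (x * n) = x * n * t := by
  obtain ⟨n, hn, hc⟩ := Coprime.exists_fixed_in_coset (zpowers t) N (zpowers_le.2 ht)
    (M.coprime_t hi hN) (Or.inl (zpowers_solvable t)) x fun a ha => by
      have hle : zpowers t ≤ modFix N x := zpowers_le.2 (mem_modFix.2 ⟨ht, hx⟩)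
      exact (mem_modFix.1 (hle ha)).2
  exact ⟨n, hn, mem_centralizer_iff.1 hc t (mem_zpowers t)⟩

/-- Terms centralised by `t` modulo the kernel are centralised. -/
theorem commute_of_centralized {k : ℕ}
    (hk : ∀ j < k, ∀ x ∈ P j, x⁻¹ * (t * x * t⁻¹) ∈ Kk j) :
    ∀ i < k, i < h → ∀ x ∈ P i, t * x = x * t := by
  intro i
  induction i using Nat.strong_induction_on with
  | _ i ih =>
    intro hik hi x hx
    set X := P i ⊓ centralizer ({t} : Set Γ) with hX
    suffices he : X = P i by
      rw [← he] at hx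
      exact mem_centralizer_single.1 hx.2
    have hXP : X ≤ P i := inf_le_left
    have hXn : ∀ j < i, P j ≤ normalizer (X : Set Γ) := fun j hj => by
      refine Coprime.le_normalizer_of_conj_mem fun g hg y hy => ?_
      have hgt : t * g = g * t := ih j hj (by omega) (by omega) g hg
      exact mem_inf.2 ⟨Coprime.conj_mem_of_mem_normalizer (M.norm i hi j hj.le hg) hy.1,
        mem_centralizer_single.2 (((show Commute t g from hgt).mul_right
          (mem_centralizer_single.1 hy.2)).mul_right (show Commute t g from hgt).inv_right).eq⟩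
    have htX : t ∈ normalizer (X : Set Γ) :=
      Coprime.mem_normalizer_of_le_iff
        (fun y hy => by
          rw [mem_centralizer_single.1 hy.2, mul_inv_cancel_right]; exact hy)
        (fun y hy => by
          rw [mul_assoc, ← mem_centralizer_single.1 hy.2, inv_mul_cancel_left]; exact hy)
    have hcover : P i ≤ X ⊔ Kk i := fun y hy => by
      obtain ⟨n, hn, hc⟩ := M.exists_commute_mul hi (towerKer_le P h i)
        (M.t_ker i (mem_zpowers t)) (hk i hik y hy)
      rw [show y = y * n * n⁻¹ by group]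
      exact mul_mem_sup ⟨mul_mem hy (towerKer_le P h i hn), mem_centralizer_single.2 hc⟩
        (inv_mem hn)
    have hXK : ¬ X ≤ Kk i := fun hle => M.not_le_ker hi (hcover.trans (sup_le hle le_rfl))
    by_contra hne
    cases i with
    | zero => exact hne (M.eq_of_invariant hi hXP hXn htX hXK (fun i' hi' => by omega))
    | succ j =>
      refine M.not_le_ker hi ((M.step j hi).trans ?_)
      have hsmall := M.small hi hXP (fun l hl => hXn l (by omega)) htX hne
      refine (commutator_mono hcover le_rfl).trans (commutator_sup_le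
        (hXP.trans (M.le_normalizer_ker le_rfl)) Subgroup.le_normalizer hsmall ?_)
      exact Coprime.commutator_le_of_le_normalizer (M.le_normalizer_ker (Nat.le_succ j))

/-- The first moved term is generated by commutators with `t`. -/
theorem first_moved {k : ℕ} (hk : ∀ j < k, ∀ x ∈ P j, x⁻¹ * (t * x * t⁻¹) ∈ Kk j) (hkh : k < h)
    (hmoved : ¬ ∀ x ∈ P k, x⁻¹ * (t * x * t⁻¹) ∈ Kk k) : P k ≤ ⁅P k, zpowers t⁆ := by
  set X := ⁅P k, zpowers t⁆ with hX
  suffices he : X = P k by rw [he]
  have htP : zpowers t ≤ normalizer (P k : Set Γ) := zpowers_le.2 (M.t_norm k hkh)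
  have hXP : X ≤ P k := Coprime.commutator_le_of_le_normalizer htP
  have hcomm := M.commute_of_centralized hk
  have hXn : ∀ j < k, P j ≤ normalizer (X : Set Γ) := fun j hj g hg =>
    mem_normalizer_commutator (M.norm k hkh j hj.le hg)
      (mem_normalizer_zpowers (hcomm j hj (by omega) g hg))
  have htX : t ∈ normalizer (X : Set Γ) :=
    Coprime.le_normalizer_commutator_right _ _ (mem_zpowers t)
  have hXK : ¬ X ≤ Kk k := fun hle => hmoved fun x hx => by
    have := hle (commutator_mem_commutator (inv_mem hx) (mem_zpowers t))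
    simpa [hX, commutatorElement_def, mul_assoc] using this
  by_contra hne
  cases k with
  | zero => exact hne (M.eq_of_invariant hkh hXP hXn htX hXK (fun i' hi' => by omega))
  | succ j =>
    set C := P (j + 1) ⊓ centralizer ({t} : Set Γ) with hC
    have hCn : ∀ l ≤ j, P l ≤ normalizer (C : Set Γ) := fun l hl => by
      refine Coprime.le_normalizer_of_conj_mem fun g hg y hy => ?_
      have hgt : t * g = g * t := hcomm l (by omega) (by omega) g hg
      exact mem_inf.2 ⟨Coprime.conj_mem_of_mem_normalizer (M.norm _ hkh l (by omega) hg) hy.1,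
        mem_centralizer_single.2 (((show Commute t g from hgt).mul_right
          (mem_centralizer_single.1 hy.2)).mul_right (show Commute t g from hgt).inv_right).eq⟩
    have htC : t ∈ normalizer (C : Set Γ) :=
      Coprime.mem_normalizer_of_le_iff
        (fun y hy => by
          rw [mem_centralizer_single.1 hy.2, mul_inv_cancel_right]; exact hy)
        (fun y hy => by
          rw [mul_assoc, ← mem_centralizer_single.1 hy.2, inv_mul_cancel_left]; exact hy)
    have hCne : C ≠ P (j + 1) := fun he => hmoved fun x hx => by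
      rw [← he] at hx
      rw [mem_centralizer_single.1 hx.2, mul_inv_cancel_right, inv_mul_cancel]
      exact one_mem _
    refine M.not_le_ker hkh ((M.step j hkh).trans ?_)
    conv_lhs => rw [M.split_t hkh le_rfl (M.t_norm _ hkh)]
    refine commutator_sup_le (hXP.trans (M.le_normalizer_ker le_rfl))
      ((inf_le_left : C ≤ _).trans (M.le_normalizer_ker le_rfl))
      (M.small hkh hXP (fun l hl => hXn l (by omega)) htX hne)
      (M.small hkh inf_le_left hCn htC hCne)

/-- Fixed points of `t` on a section generated by commutators with `t`. -/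
theorem mem_rad_of_commute {i : ℕ} (hi : i < h) (hgen : P i ≤ ⁅P i, zpowers t⁆ ⊔ Rr i) {x : Γ}
    (hx : x ∈ P i) (hfix : x⁻¹ * (t * x * t⁻¹) ∈ Rr i) : x ∈ Rr i := by
  have htR : zpowers t ≤ normalizer (SetLike.coe (Rr i)) :=
    zpowers_le.2 (mem_normalizer_towerRad hi (M.t_norm_all i))
  refine mem_of_fixed_mod (zpowers_le.2 (M.t_norm i hi)) htR (M.le_normalizer_rad le_rfl hi)
    (fun a ha b hb => mem_sup_right (comm_mem_phi ha hb)) hgen (M.coprime_t hi le_rfl) hx
    fun a ha => ?_
  have hle : zpowers t ≤ modFix (Rr i) x :=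
    zpowers_le.2 (mem_modFix.2 ⟨htR (mem_zpowers t), hfix⟩)
  exact (mem_modFix.1 (hle ha)).2

/-- Centralised initial segments are sequences in the centraliser. -/
theorem prefix_seq {k : ℕ} (hc : ∀ j < k, ∀ x ∈ P j, t * x = x * t) :
    ∀ i < k, i < h → Seq (G0 ⊓ centralizer ({t} : Set Γ)) (i + 1) (P i) := by
  have hle : ∀ i < k, i < h → P i ≤ G0 ⊓ centralizer ({t} : Set Γ) := fun i hik hi x hx =>
    mem_inf.2 ⟨M.le i hi hx, mem_centralizer_single.2 (hc i hik x hx)⟩
  intro i
  induction i with
  | zero => exact fun hik hi => Seq.base (hle 0 hik hi)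
  | succ i ih =>
    exact fun hik hi => Seq.step (ih (by omega) (by omega)) (hle _ hik hi) (M.step i hi)

end MinTower

end Cfsg.Agent.FGS73.Turull
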