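import Cfsg.Agent.FGS73.Turull.Weights

/-!
Operators on a group of class two: orthogonality of fixed elements and commutators for a weight
fixed by the operator, and lifting of fixed points modulo the radical of the weight.
-/

set_option autoImplicit false

namespace Cfsg.Agent.FGS73.Turull

open Subgroup
open scoped commutatorElement
open Cfsg.Agent.LinAct (rho_mul rho_one rho_inv_apply)

variable {H : Type*} [Group H] {K : Type*} [Field K] {U : Type*} [AddCommGroup U] [Module K U]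
  {ρ : H →* Module.End K U} {Q Z : Subgroup H} {q : ℕ}

theorem wstab_conj {A : Subgroup H} {χ : H → K} {g : H} (hg : g ∈ LinAct.wstab A χ) {z : H}
    (hz : z ∈ A) : χ (g * z * g⁻¹) = χ z := by
  have := (inv_mem hg).2 z hz
  rwa [inv_inv] at this

theorem mem_wstab {A : Subgroup H} {χ : H → K} {g : H} (hgA : g ∈ normalizer (A : Set H))
    (h : ∀ z ∈ A, χ (g * z * g⁻¹) = χ z) : g ∈ LinAct.wstab A χ :=
  ⟨hgA, fun z hz => by
    have := h _ (Coprime.conj_mem_of_mem_normalizer' hgA hz)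
    rw [show g * (g⁻¹ * z * g) * g⁻¹ = z by group] at this
    exact this.symm⟩

/-- The elements fixing the coset of `x` modulo `R`. -/
def modFix (R : Subgroup H) (x : H) : Subgroup H where
  carrier := {a | a ∈ normalizer (R : Set H) ∧ x⁻¹ * (a * x * a⁻¹) ∈ R}
  one_mem' := ⟨one_mem _, by simp⟩
  mul_mem' := fun {a b} ha hb => ⟨mul_mem ha.1 hb.1, by
    have := mul_mem ha.2 (Coprime.conj_mem_of_mem_normalizer ha.1 hb.2)
    convert this using 1
    group⟩
  inv_mem' := fun {a} ha => ⟨inv_mem ha.1, by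
    have := Coprime.conj_mem_of_mem_normalizer (inv_mem ha.1) (inv_mem ha.2)
    convert this using 1
    group⟩

theorem mem_modFix {R : Subgroup H} {x a : H} :
    a ∈ modFix R x ↔ a ∈ normalizer (R : Set H) ∧ x⁻¹ * (a * x * a⁻¹) ∈ R := Iff.rfl

theorem coprime_zpowers [Finite H] (hQ : IsPGroup q Q) (hq : q.Prime) {g : H}
    (hg : (orderOf g).Coprime q) {R : Subgroup H} (hR : R ≤ Q) :
    (Nat.card (zpowers g)).Coprime (Nat.card R) := by
  have := Fact.mk hq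
  obtain ⟨n, hn⟩ := IsPGroup.iff_card.1 hQ
  rw [Nat.card_zpowers]
  exact Nat.Coprime.coprime_dvd_right (card_dvd_of_le hR) (hn ▸ hg.pow_right n)

/-- Lifting of fixed points. -/
theorem lift_fixed [Finite H] (hQ : IsPGroup q Q) (hq : q.Prime) {g : H}
    (hg : (orderOf g).Coprime q) {R : Subgroup H} (hR : R ≤ Q) {x : H} (hx : g ∈ modFix R x) :
    ∃ n ∈ R, g * (x * n) = x * n * g := by
  obtain ⟨n, hn, hc⟩ := Coprime.exists_fixed_in_coset (zpowers g) R
    (zpowers_le.2 hx.1) (coprime_zpowers hQ hq hg hR) (Or.inl inferInstance) x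
    (fun a ha => ((zpowers_le (H := modFix R x)).2 hx ha).2)
  exact ⟨n, hn, mem_centralizer_iff.1 hc g (mem_zpowers g)⟩

theorem split [Finite H] (hQ : IsPGroup q Q) (hq : q.Prime) {g : H}
    (hg : (orderOf g).Coprime q) (hgQ : g ∈ normalizer (Q : Set H)) {t : H} (ht : t ∈ Q) :
    ∃ x ∈ ⁅Q, zpowers g⁆, ∃ c ∈ Q, g * c = c * g ∧ t = x * c := by
  obtain ⟨x, hx, c, hc, rfl⟩ := Coprime.exists_commutator_mul_centralizer (zpowers g) Q
    (zpowers_le.2 hgQ) (coprime_zpowers hQ hq hg le_rfl) (Or.inl inferInstance) t ht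
  exact ⟨x, hx, c, hc.1, mem_centralizer_iff.1 hc.2 g (mem_zpowers g), rfl⟩

theorem commutator_le_Q {g : H} (hgQ : g ∈ normalizer (Q : Set H)) : ⁅Q, zpowers g⁆ ≤ Q :=
  Coprime.commutator_le_of_le_normalizer (zpowers_le.2 hgQ)

variable {χ : H → K} {v : U} (h : CTwo ρ Q Z q) (hv : v ∈ LinAct.wspace ρ Z χ) (hv0 : v ≠ 0)

/-- The radical as a subgroup. -/
def CTwo.radS : Subgroup H := (h.bracket' hv hv0).rad

theorem CTwo.mem_radS {x : H} : x ∈ h.radS hv hv0 ↔ x ∈ Q ∧ ∀ t ∈ Q, χ ⁅t, x⁆ = 1 := Iff.rfl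

theorem CTwo.radS_le : h.radS hv hv0 ≤ Q := fun _ hx => hx.1

include h hv hv0 in
theorem CTwo.beta_right {a b c : H} (ha : a ∈ Q) (hb : b ∈ Q) (hc : c ∈ Q) :
    χ ⁅a, b * c⁆ = χ ⁅a, b⁆ * χ ⁅a, c⁆ := (h.bracket' hv hv0).mul_right ha hb hc

include h hv hv0 in
theorem CTwo.beta_left {a b c : H} (ha : a ∈ Q) (hb : b ∈ Q) (hc : c ∈ Q) :
    χ ⁅b * c, a⁆ = χ ⁅b, a⁆ * χ ⁅c, a⁆ := (h.bracket' hv hv0).mul_left ha hb hc

include h hv hv0 in
theorem CTwo.beta_swap {a b : H} (ha : a ∈ Q) (hb : b ∈ Q) (h1 : χ ⁅a, b⁆ = 1) : χ ⁅b, a⁆ = 1 := by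
  have := (h.bracket' hv hv0).swap ha hb
  rwa [show χ ⁅a, b⁆ = 1 from h1, mul_one] at this

theorem CTwo.Z_le_radS : Z ≤ h.radS hv hv0 := fun z hz => ⟨h.le hz, fun t ht =>
  weight_eq_one hv hv0 (h.comm t ht z (h.le hz)) (by rw [h.central t ht z hz]; rfl)⟩

include h hv hv0 in
/-- An element fixing the weight: fixed elements are orthogonal to commutators. -/
theorem CTwo.orth {g : H} (hgQ : g ∈ normalizer (Q : Set H)) (hgχ : g ∈ LinAct.wstab Z χ)
    {c : H} (hc : c ∈ Q) (hcg : g * c = c * g) {x : H} (hx : x ∈ ⁅Q, zpowers g⁆) :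
    χ ⁅c, x⁆ = 1 := by
  let S : Subgroup H :=
    { carrier := {x | x ∈ Q ∧ χ ⁅c, x⁆ = 1}
      one_mem' := ⟨one_mem _, (h.bracket' hv hv0).one_right hc⟩
      mul_mem' := fun {a b} ha hb => ⟨mul_mem ha.1 hb.1, by
        rw [h.beta_right hv hv0 hc ha.1 hb.1, ha.2, hb.2, one_mul]⟩
      inv_mem' := fun {a} ha => ⟨inv_mem ha.1, by
        have := (h.bracket' hv hv0).inv_right hc ha.1
        exact this.trans (by rw [ha.2, inv_one])⟩ }
  have hle : ⁅Q, zpowers g⁆ ≤ S := by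
    refine commutator_le.2 fun u hu k hk => ?_
    have hkQ := (zpowers_le (H := normalizer (Q : Set H))).2 hgQ hk
    have hkχ := (zpowers_le (H := LinAct.wstab Z χ)).2 hgχ hk
    have hkc : k * c = c * k := by
      have hh : zpowers g ≤ centralizer ({c} : Set H) := zpowers_le.2 (by
        rw [mem_centralizer_iff]; rintro _ rfl; exact hcg.symm)
      exact (mem_centralizer_iff.1 (hh hk) c rfl).symm
    have hw : k * u⁻¹ * k⁻¹ ∈ Q := Coprime.conj_mem_of_mem_normalizer hkQ (inv_mem hu)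
    have e : ⁅u, k⁆ = u * (k * u⁻¹ * k⁻¹) := by simp [commutatorElement_def, mul_assoc]
    refine ⟨e ▸ mul_mem hu hw, ?_⟩
    rw [e, h.beta_right hv hv0 hc hu hw]
    have e2 : ⁅c, k * u⁻¹ * k⁻¹⁆ = k * ⁅c, u⁻¹⁆ * k⁻¹ := by
      have hkc' : k * c * k⁻¹ = c := by rw [hkc, mul_inv_cancel_right]
      conv_lhs => rw [← hkc']
      simp [commutatorElement_def, mul_assoc]
    rw [e2, wstab_conj hkχ (h.comm c hc _ (inv_mem hu)), ← h.beta_right hv hv0 hc hu (inv_mem hu),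
      mul_inv_cancel]
    exact (h.bracket' hv hv0).one_right hc
  exact (hle hx).2

theorem CTwo.radS_normalizer {g : H} (hgQ : g ∈ normalizer (Q : Set H))
    (hgχ : g ∈ LinAct.wstab Z χ) : g ∈ normalizer (h.radS hv hv0 : Set H) := by
  have key : ∀ a : H, a ∈ normalizer (Q : Set H) → a ∈ LinAct.wstab Z χ →
      ∀ x ∈ h.radS hv hv0, a * x * a⁻¹ ∈ h.radS hv hv0 := fun a haQ haχ =>
    (h.bracket' hv hv0).rad_invariant (fun x hx => Coprime.conj_mem_of_mem_normalizer haQ hx)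
      (fun x hx => Coprime.conj_mem_of_mem_normalizer' haQ hx) (fun x hx y hy => by
        show χ ⁅a * x * a⁻¹, a * y * a⁻¹⁆ = χ ⁅x, y⁆
        rw [show ⁅a * x * a⁻¹, a * y * a⁻¹⁆ = a * ⁅x, y⁆ * a⁻¹ by
          simp [commutatorElement_def, mul_assoc]]
        exact wstab_conj haχ (h.comm x hx y hy))
  exact Coprime.mem_normalizer_of_le_iff (key g hgQ hgχ) fun x hx => by
    simpa using key g⁻¹ (inv_mem hgQ) (inv_mem hgχ) x hx

theorem CTwo.Q_normalizer_radS : Q ≤ normalizer (h.radS hv hv0 : Set H) :=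
  Coprime.le_normalizer_of_conj_mem fun a ha x hx =>
    ⟨mul_mem (mul_mem ha hx.1) (inv_mem ha), fun t ht => by
      show χ ⁅t, a * x * a⁻¹⁆ = 1
      rw [h.beta_right hv hv0 ht (mul_mem ha hx.1) (inv_mem ha), h.beta_right hv hv0 ht ha hx.1,
        ((h.mem_radS hv hv0).1 hx).2 t ht, mul_one, ← h.beta_right hv hv0 ht ha (inv_mem ha),
        mul_inv_cancel]
      exact (h.bracket' hv hv0).one_right ht⟩

/-- A fixed element of the commutator subgroup is in the radical. -/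
theorem CTwo.fixed_rad [Finite H] {g : H} (hg : (orderOf g).Coprime q)
    (hgQ : g ∈ normalizer (Q : Set H)) (hgχ : g ∈ LinAct.wstab Z χ) {x : H}
    (hx : x ∈ ⁅Q, zpowers g⁆) (hxg : g * x = x * g) : x ∈ h.radS hv hv0 := by
  have hxQ := commutator_le_Q hgQ hx
  refine ⟨hxQ, fun t ht => ?_⟩
  obtain ⟨a, ha, c, hc, hcg, rfl⟩ := split h.pgroup h.prime hg hgQ ht
  have haQ := commutator_le_Q hgQ ha
  show χ ⁅a * c, x⁆ = 1
  rw [h.beta_left hv hv0 hxQ haQ hc, h.orth hv hv0 hgQ hgχ hc hcg hx,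
    h.beta_swap hv hv0 hxQ haQ (h.orth hv hv0 hgQ hgχ hxQ hxg ha), one_mul]

/-- The operator is fixed-point-free on the commutator subgroup modulo the radical. -/
theorem CTwo.free_rad [Finite H] {g : H} (hg : (orderOf g).Coprime q)
    (hgQ : g ∈ normalizer (Q : Set H)) (hgχ : g ∈ LinAct.wstab Z χ) {x : H}
    (hx : x ∈ ⁅Q, zpowers g⁆) (hxg : x⁻¹ * (g * x * g⁻¹) ∈ h.radS hv hv0) :
    x ∈ h.radS hv hv0 := by
  have hgE : g ∈ normalizer ((⁅Q, zpowers g⁆ : Subgroup H) : Set H) :=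
    Coprime.le_normalizer_commutator_right (zpowers g) Q (mem_zpowers g)
  have hN : g ∈ normalizer ((h.radS hv hv0 ⊓ ⁅Q, zpowers g⁆ : Subgroup H) : Set H) :=
    Coprime.le_normalizer_inf (A := zpowers g) (zpowers_le.2 (h.radS_normalizer hv hv0 hgQ hgχ))
      (zpowers_le.2 hgE) (mem_zpowers g)
  obtain ⟨n, hn, hfix⟩ := lift_fixed h.pgroup h.prime hg
    (inf_le_left.trans (h.radS_le hv hv0) : h.radS hv hv0 ⊓ ⁅Q, zpowers g⁆ ≤ Q)
    (x := x) ⟨hN, mem_inf.2 ⟨hxg, mul_mem (inv_mem hx) (Coprime.conj_mem_of_mem_normalizer hgE hx)⟩⟩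
  have := (h.radS hv hv0).mul_mem (h.fixed_rad hv hv0 hg hgQ hgχ (mul_mem hx (mem_inf.1 hn).2) hfix)
    ((h.radS hv hv0).inv_mem (mem_inf.1 hn).1)
  rwa [mul_inv_cancel_right] at this

end Cfsg.Agent.FGS73.Turull
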