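import Cfsg.Agent.FGS73.Turull.Exact
import Cfsg.Agent.FGS73.Turull.Radical
import Cfsg.Agent.Lib.Thompson.Replacement
import Mathlib.GroupTheory.CosetCover

/-!
An irreducible subspace of a group of class two, and functionals separating a space of fixed
vectors.
-/

set_option autoImplicit false
set_option linter.unusedVariables false
set_option linter.style.haveILetI false

namespace Cfsg.Agent.FGS73.Turull

open Subgroup
open scoped commutatorElement
open Cfsg.Agent.LinAct (rho_mul rho_one rho_inv_apply)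

variable {H : Type*} [Group H] {K : Type*} [Field K] {U : Type*} [AddCommGroup U] [Module K U]

/-- A space of fixed vectors of `σ`, invariant under the elements commuting with `σ` and separated
by functionals which are either fixed by `σ` or vanish on it. -/
structure Kill (ρ : H →* Module.End K U) (σ : H) (N : Submodule K U) : Prop where
  fixed : ∀ n ∈ N, ρ σ n = n
  inv : ∀ h : H, σ * h = h * σ → ∀ n ∈ N, ρ h n ∈ N
  sep : ∀ w : U, w ≠ 0 → ∃ φ : U →ₗ[K] K, φ w ≠ 0 ∧
    ∀ h : H, (∀ v, φ (ρ h (ρ σ v)) = φ (ρ h v)) ∨ ∀ n ∈ N, φ (ρ h n) = 0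

/-- An irreducible subspace with nondegenerate scalar commutators. -/
structure Frame (ρ : H →* Module.End K U) (E R : Subgroup H) (lam : H → K) (M : Submodule K U) :
    Prop where
  ne : M ≠ ⊥
  le : R ≤ E
  inv : ∀ e ∈ E, ∀ w ∈ M, ρ e w ∈ M
  scal : ∀ z ∈ R, ∀ w ∈ M, ρ z w = lam z • w
  comm : ∀ a ∈ E, ∀ b ∈ E, ⁅a, b⁆ ∈ R
  nd : ∀ x ∈ E, x ∉ R → ∃ u ∈ E, lam ⁅u, x⁆ ≠ 1
  simple : ∀ M' : Submodule K U, M' ≤ M → (∀ e ∈ E, ∀ w ∈ M', ρ e w ∈ M') → M' = ⊥ ∨ M' = M
  card : (Nat.card E : K) ≠ 0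

variable {ρ : H →* Module.End K U} {E R : Subgroup H} {lam : H → K} {M : Submodule K U}

theorem Frame.bracket (F : Frame ρ E R lam M) : Bracket ρ M E (fun a c => lam ⁅a, c⁆) :=
  ⟨F.ne, F.inv, fun a ha c hc v hv => F.scal _ (F.comm a ha c hc) v hv⟩

/-- The commutator value. -/
theorem Frame.swap_apply (F : Frame ρ E R lam M) {a e : H} (ha : a ∈ E) (he : e ∈ E) {w : U}
    (hw : w ∈ M) : ρ a (ρ e w) = lam ⁅a, e⁆ • ρ e (ρ a w) := by
  rw [← F.scal _ (F.comm a ha e he) _ (F.inv e he _ (F.inv a ha w hw)), ← rho_mul, ← rho_mul,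
    ← rho_mul]
  congr 2
  simp [commutatorElement_def, mul_assoc]

theorem Frame.beta_R (F : Frame ρ E R lam M) {a z : H} (ha : a ∈ E) (hz : z ∈ R) :
    lam ⁅a, z⁆ = 1 := by
  refine F.bracket.eq_of fun v hv => ?_
  rw [one_smul, ← F.scal _ (F.comm a ha z (F.le hz)) v hv, commutatorElement_def, rho_mul, rho_mul,
    rho_mul]
  have h1 := F.inv _ (inv_mem ha) _ (F.inv _ (inv_mem (F.le hz)) v hv)
  rw [F.scal z hz _ h1, map_smul, ← rho_mul, mul_inv_cancel, rho_one,
    ← F.scal z hz _ (F.inv _ (inv_mem (F.le hz)) v hv), ← rho_mul, mul_inv_cancel, rho_one]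

/-- The representation on the subspace. -/
def Frame.act (F : Frame ρ E R lam M) : E →* Module.End K M where
  toFun e := (ρ (e : H)).restrict (F.inv e e.2)
  map_one' := LinearMap.ext fun w => Subtype.ext (rho_one ρ _)
  map_mul' a b := LinearMap.ext fun w => Subtype.ext (rho_mul ρ _ _ _)

theorem Frame.act_apply (F : Frame ρ E R lam M) (e : E) (w : M) :
    ((F.act e w : M) : U) = ρ (e : H) (w : U) := rfl

theorem Frame.act_simple (F : Frame ρ E R lam M) (L : Submodule K M)
    (hL : ∀ e, ∀ w ∈ L, F.act e w ∈ L) : L = ⊥ ∨ L = ⊤ := by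
  have hmap := Submodule.map_injective_of_injective M.subtype_injective
  rcases F.simple (L.map M.subtype) (Submodule.map_subtype_le M L) (by
    rintro e he _ ⟨x, hx, rfl⟩
    exact ⟨_, hL ⟨e, he⟩ x hx, rfl⟩) with h | h
  · exact Or.inl (hmap (h.trans (Submodule.map_bot _).symm))
  · exact Or.inr (hmap (h.trans (Submodule.map_subtype_top M).symm))

/-- Averaging a rank one operator. -/
theorem Frame.schur [IsAlgClosed K] [FiniteDimensional K U] (F : Frame ρ E R lam M) [Fintype E]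
    (φ : U →ₗ[K] K) (y : M) :
    ∃ c : K, (∀ w ∈ M, ∑ e : E, φ (ρ (e : H)⁻¹ w) • ρ (e : H) (y : U) = c • w) ∧
      (φ y ≠ 0 → c ≠ 0) := by
  haveI : Nontrivial M := Submodule.nontrivial_iff_ne_bot.2 F.ne
  let X : Module.End K M := (φ.comp M.subtype).smulRight y
  obtain ⟨c, hc⟩ := scalar_of_commutes F.act_simple _ fun f => commutes_of_sum_conj F.act X f
  refine ⟨c, fun w hw => ?_, fun hy h0 => ?_⟩
  · have h1 := congrArg (fun f : Module.End K M => ((f ⟨w, hw⟩ : M) : U)) hc
    simp only [LinearMap.sum_apply, LinearMap.smul_apply, Module.End.one_apply,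
      Submodule.coe_smul, AddSubmonoidClass.coe_finsetSum] at h1
    refine Eq.trans (Finset.sum_congr rfl fun e _ => ?_) h1
    simp only [Module.End.mul_apply, X, LinearMap.smulRight_apply, map_smul, Submodule.coe_smul,
      F.act_apply, LinearMap.comp_apply, Submodule.subtype_apply, InvMemClass.coe_inv]
  · have h1 := congrArg (LinearMap.trace K M) hc
    rw [map_sum, map_smul, h0, zero_smul] at h1
    have h2 : ∀ e : E, LinearMap.trace K M (F.act e * X * F.act e⁻¹) = φ (y : U) := fun e => by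
      rw [LinearMap.trace_mul_comm, ← mul_assoc, ← map_mul, inv_mul_cancel, map_one, one_mul]
      exact LinearMap.trace_smulRight _ _
    rw [Finset.sum_congr rfl fun e _ => h2 e, Finset.sum_const, Finset.card_univ,
      ← Nat.cast_smul_eq_nsmul K, ← Nat.card_eq_fintype_card, smul_eq_mul, mul_eq_zero] at h1
    exact h1.elim F.card hy

/-- A proper subgroup containing `R` is orthogonal to an element outside `R`. -/
theorem Frame.exists_orth [Finite H] (F : Frame ρ E R lam M) {F1 : Subgroup H} (hRF : R ≤ F1)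
    (hFE : F1 ≤ E) (hne : ¬ E ≤ F1) : ∃ l ∈ E, l ∉ R ∧ ∀ f ∈ F1, lam ⁅l, f⁆ = 1 := by
  classical
  by_contra hno
  push Not at hno
  have hnormR : E ≤ normalizer (R : Set H) := Coprime.le_normalizer_of_conj_mem fun a ha x hx => by
    have := R.mul_mem (F.comm a ha x (F.le hx)) hx
    convert this using 1
    simp [commutatorElement_def, mul_assoc]
  haveI hnE : (R.subgroupOf E).Normal :=
    (normal_subgroupOf_iff_le_normalizer F.le).2 hnormR
  haveI hnF : (R.subgroupOf F1).Normal :=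
    (normal_subgroupOf_iff_le_normalizer hRF).2 (hFE.trans hnormR)
  let Ψ : E → (F1 ⧸ R.subgroupOf F1 →* K) := fun l => QuotientGroup.lift _
    { toFun := fun f : F1 => lam ⁅(l : H), (f : H)⁆
      map_one' := F.bracket.one_right l.2
      map_mul' := fun a b => F.bracket.mul_right l.2 (hFE a.2) (hFE b.2) }
    (fun f hf => F.beta_R l.2 hf)
  have hker : ∀ a b : E, Ψ a = Ψ b → (a : H)⁻¹ * b ∈ R := by
    intro a b hab
    by_contra hR
    obtain ⟨f, hf, hne'⟩ := hno _ (mul_mem (inv_mem a.2) b.2) hR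
    apply hne'
    have h1 := congrArg (fun θ : F1 ⧸ R.subgroupOf F1 →* K => θ (QuotientGroup.mk ⟨f, hf⟩)) hab
    have h2 := F.bracket.mul_left (hFE hf) (inv_mem a.2) b.2
    change lam ⁅(a : H)⁻¹ * b, f⁆ = lam ⁅(a : H)⁻¹, f⁆ * lam ⁅(b : H), f⁆ at h2
    change lam ⁅(a : H), f⁆ = lam ⁅(b : H), f⁆ at h1
    have h3 := F.bracket.mul_left (hFE hf) (inv_mem a.2) a.2
    change lam ⁅(a : H)⁻¹ * a, f⁆ = lam ⁅(a : H)⁻¹, f⁆ * lam ⁅(a : H), f⁆ at h3
    rw [h2, ← h1, ← h3, inv_mul_cancel]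
    have h4 := F.bracket.swap_eq (hFE hf) (one_mem E)
    change lam ⁅(1 : H), f⁆ = (lam ⁅f, (1 : H)⁆)⁻¹ at h4
    rw [h4, show lam ⁅f, (1 : H)⁆ = 1 from F.bracket.one_right (hFE hf), inv_one]
  let Φ : E ⧸ R.subgroupOf E → (F1 ⧸ R.subgroupOf F1 →* K) := fun x => Ψ (Quotient.out x)
  have hinj : Function.Injective Φ := fun a b h => by
    rw [← QuotientGroup.out_eq' a, ← QuotientGroup.out_eq' b, QuotientGroup.eq,
      Subgroup.mem_subgroupOf]
    exact hker _ _ h
  cases nonempty_fintype (E ⧸ R.subgroupOf E)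
  cases nonempty_fintype (F1 ⧸ R.subgroupOf F1)
  have hle := ((linearIndependent_monoidHom (F1 ⧸ R.subgroupOf F1) K).comp Φ hinj)
    |>.fintype_card_le_finrank
  rw [Module.finrank_pi, ← Nat.card_eq_fintype_card, ← Nat.card_eq_fintype_card,
    ← Subgroup.index_eq_card, ← Subgroup.index_eq_card] at hle
  change R.relIndex E ≤ R.relIndex F1 at hle
  rw [← relIndex_mul_relIndex R F1 E hRF hFE] at hle
  have h1 : F1.relIndex E ≠ 1 := fun h => hne (relIndex_eq_one.1 h)
  have h2 : F1.relIndex E ≠ 0 := index_ne_zero_of_finite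
  have h3 : R.relIndex F1 ≠ 0 := index_ne_zero_of_finite
  have h4 : R.relIndex F1 * 2 ≤ R.relIndex F1 * F1.relIndex E :=
    Nat.mul_le_mul_left _ (by omega)
  omega

end Cfsg.Agent.FGS73.Turull
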