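import Cfsg.Agent.FGS73.Turull.Dead

/-!
Irreducible stable subspaces, and vanishing of killed fixed vectors.
-/

set_option autoImplicit false
set_option linter.unusedVariables false
set_option linter.style.haveILetI false

namespace Cfsg.Agent.FGS73.Turull

open Subgroup
open scoped commutatorElement
open Cfsg.Agent.LinAct (rho_mul rho_one rho_inv_apply)

variable {H : Type*} [Group H] [Finite H] {K : Type*} [Field K] [IsAlgClosed K] {U : Type*}
  [AddCommGroup U] [Module K U] [FiniteDimensional K U]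

/-- An irreducible subspace stable under an operator which is free modulo the centre. -/
theorem exists_frame (ρ : H →* Module.End K U) (W : Submodule K U) (hW0 : W ≠ ⊥)
    (E R : Subgroup H) (hRE : R ≤ E) (lam : H → K)
    (hEW : ∀ x ∈ E, ∀ w ∈ W, ρ x w ∈ W) (hscal : ∀ z ∈ R, ∀ w ∈ W, ρ z w = lam z • w)
    (hcomm : ∀ a ∈ E, ∀ b ∈ E, ⁅a, b⁆ ∈ R)
    (hnd : ∀ x ∈ E, x ∉ R → ∃ u ∈ E, lam ⁅u, x⁆ ≠ 1)
    (g : H) (hgE : ∀ x ∈ E, g * x * g⁻¹ ∈ E) (hgR : ∀ x ∈ R, g * x * g⁻¹ ∈ R)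
    (hgW : ∀ w ∈ W, ρ g w ∈ W) {N : ℕ} (hN0 : 0 < N) (hN1 : N ≠ 1) (hE : (Nat.card E : K) ≠ 0)
    (hpow : ∀ w ∈ W, ρ (g ^ N) w = w)
    (hfree : ∀ x ∈ E, ∀ i, 0 < i → i < N → x⁻¹ * (g ^ i * x * (g ^ i)⁻¹) ∈ R → x ∈ R) :
    ∃ M, M ≤ W ∧ Frame ρ E R lam M ∧ ∀ w ∈ M, ρ g w ∈ M := by
  classical
  haveI : Nontrivial W := Submodule.nontrivial_iff_ne_bot.mpr hW0
  obtain ⟨E', Z', ψ, η, hbase, -, hE', f, hf, hρ'⟩ := exists_hhBase ρ W hW0 E R hRE lam hEW hscal
    hcomm hnd g hgE hgR hgW hN0 hE hpow hfree (c₀ := (1 : K)) (one_pow N)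
  haveI : Finite E' := Finite.of_surjective f hf
  cases nonempty_fintype E'
  set ρ' := (Units.coeHom (Module.End K W)).comp E'.subtype with hρdef
  set S := (1 : K)⁻¹ • (ρ g).restrict hgW with hS
  have hE'' : (Fintype.card E' : K) ≠ 0 := by rwa [← Nat.card_eq_fintype_card]
  obtain ⟨t, ht⟩ := Module.End.exists_eigenvalue (inter ρ' η * S)
  obtain ⟨M, hM, ρM, SM, hρM, hSM, -, -, hsimple, -⟩ :=
    hbase.exists_simple_le hN0 hN1 hE'' (t := t)
      (Module.End.eigenspace (inter ρ' η * S) t) ht (fun e w hw => by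
        rw [Module.End.mem_eigenspace_iff] at hw ⊢
        have hc : ∀ a, S * ρ' a = ρ' (η a) * S := fun a =>
          LinearMap.ext fun w => hbase.compat a w
        have hT : inter ρ' η * S * ρ' e = ρ' e * (inter ρ' η * S) := by
          rw [mul_assoc, hc, ← mul_assoc, inter_mul, mul_assoc]
        rw [← Module.End.mul_apply, hT, Module.End.mul_apply, hw, map_smul]) le_rfl
  have hinv : ∀ e ∈ E, ∀ w ∈ M.map W.subtype, ρ e w ∈ M.map W.subtype := by
    rintro e he _ ⟨w, hw, rfl⟩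
    refine ⟨ρ' (f ⟨e, he⟩) w, ?_, hρ' ⟨e, he⟩ w⟩
    exact hρM (f ⟨e, he⟩) ⟨w, hw⟩ ▸ (ρM (f ⟨e, he⟩) ⟨w, hw⟩).2
  refine ⟨M.map W.subtype, Submodule.map_subtype_le W M, ⟨?_, hRE, hinv, fun z hz w hw =>
    hscal z hz w (Submodule.map_subtype_le W M hw), hcomm, hnd, fun M' hM' hM'inv => ?_, hE⟩, ?_⟩
  · intro hb
    exact (Submodule.nontrivial_iff_ne_bot.1 hM)
      (Submodule.map_injective_of_injective W.subtype_injective (hb.trans (Submodule.map_bot _).symm))
  · let L : Submodule K M := (M'.comap W.subtype).comap M.subtype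
    have hL : M' = (L.map M.subtype).map W.subtype := by
      refine le_antisymm (fun w hw => ?_) ?_
      · obtain ⟨x, hx, rfl⟩ := hM' hw
        exact ⟨x, ⟨⟨x, hx⟩, hw, rfl⟩, rfl⟩
      · rintro _ ⟨_, ⟨x, hx, rfl⟩, rfl⟩
        exact hx
    rcases hsimple L (fun u x hx => by
      obtain ⟨e, rfl⟩ := hf u
      show ((ρM (f e) x : M) : W).1 ∈ M'
      rw [hρM]
      have := hM'inv e e.2 _ hx
      exact (hρ' e (x : W)).symm ▸ this) with h | h
    · left; rw [hL, h, Submodule.map_bot, Submodule.map_bot]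
    · right; rw [hL, h, Submodule.map_subtype_top]
  · rintro _ ⟨w, hw, rfl⟩
    refine ⟨S w, hSM ⟨w, hw⟩ ▸ (SM ⟨w, hw⟩).2, ?_⟩
    simp [hS, LinearMap.restrict_apply]

variable {ρ : H →* Module.End K U} {σ : H} {N : Submodule K U} {r : ℕ}

omit [Finite H] in
theorem pow_mem_iff_of_prime' {S : Subgroup H} (hr : r.Prime) (hσ : σ ^ r = 1) {i : ℕ}
    (hi : 0 < i) (hir : i < r) (h : σ ^ i ∈ S) : σ ∈ S := by
  have hcop : i.Coprime (orderOf σ) := Nat.Coprime.coprime_dvd_right (orderOf_dvd_of_pow_eq_one hσ)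
    ((hr.coprime_iff_not_dvd).2 fun hd => absurd (Nat.eq_zero_of_dvd_of_lt hd hir) hi.ne').symm
  obtain ⟨j, hj⟩ := exists_pow_eq_self_of_coprime hcop
  rw [← hj]
  exact pow_mem h j

/-- A subspace all whose fixed vectors are killed has no fixed vectors. -/
theorem Kill.no_fixed (hK : Kill ρ σ N) (hr : r.Prime) (hσr : σ ^ r = 1) (hr0 : (r : K) ≠ 0)
    {E R : Subgroup H} {lam : H → K} {W : Submodule K U} {q : ℕ} (hEp : IsPGroup q E)
    (hq : q.Prime) (hqr : q ≠ r) (hq0 : (q : K) ≠ 0) (hRE : R ≤ E) (hne : ¬ E ≤ R)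
    (hEW : ∀ x ∈ E, ∀ w ∈ W, ρ x w ∈ W) (hσW : ∀ w ∈ W, ρ σ w ∈ W)
    (hscal : ∀ z ∈ R, ∀ w ∈ W, ρ z w = lam z • w)
    (hcomm : ∀ a ∈ E, ∀ b ∈ E, ⁅a, b⁆ ∈ R)
    (hnd : ∀ x ∈ E, x ∉ R → ∃ u ∈ E, lam ⁅u, x⁆ ≠ 1)
    (hσE : σ ∈ normalizer (E : Set H)) (hσR : σ ∈ normalizer (R : Set H))
    (hfree : ∀ x ∈ E, σ ∈ modFix R x → x ∈ R)
    (hN : ∀ w ∈ W, ρ σ w = w → w ∈ N) : ∀ w ∈ W, ρ σ w = w → w = 0 := by
  classical
  have hco : (orderOf σ).Coprime q := Nat.Coprime.coprime_dvd_left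
    (orderOf_dvd_of_pow_eq_one hσr) ((Nat.coprime_primes hr hq).2 hqr.symm)
  have hE0 : (Nat.card E : K) ≠ 0 := pow_card_ne_zero hq0 hEp hq
  set G := E ⊔ zpowers σ with hG
  have hG0 : (Nat.card G : K) ≠ 0 := by
    have h1 := Thompson.card_sup_mul_card_inf (zpowers_le.2 hσE)
    intro h0
    have h2 := congrArg (fun n : ℕ => (n : K)) h1
    simp only [Nat.cast_mul, ← hG, h0, zero_mul, Nat.card_zpowers] at h2
    refine mul_ne_zero hE0 ?_ h2.symm
    rcases (Nat.dvd_prime hr).1 (orderOf_dvd_of_pow_eq_one hσr) with h | h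
    · rw [h, Nat.cast_one]; exact one_ne_zero
    · rw [h]; exact hr0
  have hGinv : ∀ V : Submodule K U, (∀ x ∈ E, ∀ w ∈ V, ρ x w ∈ V) → (∀ w ∈ V, ρ σ w ∈ V) →
      G ≤ LinAct.stab ρ V := fun V h1 h2 => sup_le (fun x hx => h1 x hx) (zpowers_le.2 h2)
  by_contra hcon
  push Not at hcon
  let P : Submodule K U → Prop := fun V => V ≤ W ∧ (∀ x ∈ E, ∀ w ∈ V, ρ x w ∈ V) ∧
    (∀ w ∈ V, ρ σ w ∈ V) ∧ ∃ w ∈ V, ρ σ w = w ∧ w ≠ 0
  obtain ⟨V, ⟨hVW, hVE, hVσ, v, hv, hvσ, hv0⟩, hVmin⟩ :=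
    (wellFounded_lt (α := Submodule K U)).has_min {V | P V} ⟨W, le_rfl, hEW, hσW, hcon⟩
  obtain ⟨M, hMV, F, hσM⟩ := exists_frame ρ V ((Submodule.ne_bot_iff _).2 ⟨v, hv, hv0⟩) E R hRE
    lam hVE (fun z hz w hw => hscal z hz w (hVW hw)) hcomm hnd σ
    (fun x hx => Coprime.conj_mem_of_mem_normalizer hσE hx)
    (fun x hx => Coprime.conj_mem_of_mem_normalizer hσR hx) hVσ hr.pos hr.ne_one hE0
    (fun w _ => by rw [hσr, rho_one])
    (fun x hx i hi hir hm => hfree x hx (pow_mem_iff_of_prime' hr hσr hi hir ⟨pow_mem hσR i, hm⟩))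
  -- no fixed vector on the irreducible subspace
  have hM0 : ∀ w ∈ M, ρ σ w = w → w = 0 := by
    intro w hw hwσ
    have hdead := F.dead hEp hq hK hne hσE hσR hσM hco hfree (Finset.range r) (fun i => σ ^ i)
      (fun _ => (1 : K)) (fun i _ j _ => by rw [← pow_add, ← pow_add, add_comm])
      (fun i _ => pow_mem hσE i) (fun i _ => pow_mem hσR i) (fun i _ => by
        have hle : zpowers σ ≤ LinAct.stab ρ M := zpowers_le.2 hσM
        exact hle (pow_mem (mem_zpowers σ) i))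
      (j₀ := 0) (Finset.mem_range.2 hr.pos) one_ne_zero
      (fun j hj hj0 => by
        rw [pow_zero, inv_one, one_mul]
        refine ⟨Nat.Coprime.coprime_dvd_left (orderOf_pow_dvd j) hco, fun x hx hm => ?_⟩
        exact hfree x hx (pow_mem_iff_of_prime' hr hσr (Nat.pos_of_ne_zero hj0)
          (Finset.mem_range.1 hj) hm))
      (fun w hw => by
        simp only [one_smul]
        refine hN _ (hVW (hMV (M.sum_mem fun i _ => ?_))) (LinAct.sum_pow_fixed ρ hσr w)
        have hle : zpowers σ ≤ LinAct.stab ρ M := zpowers_le.2 hσM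
        exact hle (pow_mem (mem_zpowers σ) i) w hw)
      w hw
    have hfi : ∀ i : ℕ, ρ (σ ^ i) w = w := fun i => by
      induction i with
      | zero => simp
      | succ i ih => rw [pow_succ', rho_mul, ih, hwσ]
    simp only [one_smul, hfi, Finset.sum_const, Finset.card_range, ← Nat.cast_smul_eq_nsmul K]
      at hdead
    exact (smul_eq_zero.1 hdead).resolve_left hr0
  -- pass to an invariant complement
  obtain ⟨M', hcompl, hM'⟩ := exists_compl (ρ.comp G.subtype) hG0 M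
    fun g w hw => hGinv M F.inv hσM g.2 w hw
  have hM'E : ∀ x ∈ E, ∀ w ∈ M', ρ x w ∈ M' := fun x hx => hM' ⟨x, mem_sup_left hx⟩
  have hM'σ : ∀ w ∈ M', ρ σ w ∈ M' := hM' ⟨σ, mem_sup_right (mem_zpowers σ)⟩
  obtain ⟨a, ha, b, hb, hab⟩ : ∃ a ∈ M, ∃ b ∈ M', a + b = v :=
    Submodule.mem_sup.1 (by rw [hcompl.sup_eq_top]; trivial)
  have haσ : ρ σ a = a := by
    have h1 : ρ σ a - a = b - ρ σ b := by
      rw [sub_eq_sub_iff_add_eq_add, ← map_add, hab, hvσ, ← hab, add_comm]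
    have h2 : ρ σ a - a ∈ M ⊓ M' :=
      ⟨M.sub_mem (hσM a ha) ha, h1 ▸ M'.sub_mem hb (hM'σ b hb)⟩
    rwa [hcompl.inf_eq_bot, Submodule.mem_bot, sub_eq_zero] at h2
  have ha0 := hM0 a ha haσ
  rw [ha0, zero_add] at hab
  subst hab
  refine hVmin (V ⊓ M') ⟨inf_le_left.trans hVW, fun x hx w hw => ⟨hVE x hx w hw.1, hM'E x hx w hw.2⟩,
    fun w hw => ⟨hVσ w hw.1, hM'σ w hw.2⟩, b, ⟨hv, hb⟩, hvσ, hv0⟩
    (lt_of_le_of_ne inf_le_left fun h => F.ne ?_)
  rw [eq_bot_iff, ← hcompl.inf_eq_bot]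
  exact fun w hw => ⟨hw, (h.ge (hMV hw)).2⟩

omit [IsAlgClosed K] [FiniteDimensional K U] in
/-- A killed vector with zero average over a moved commuting group is zero. -/
theorem Kill.zero_of_avg (hK : Kill ρ σ N) (hσr : σ ^ r = 1) (D : Subgroup H) [Fintype D]
    (hD0 : (Nat.card D : K) ≠ 0) (hDr : (Nat.card D).Coprime r)
    (hσD : σ ∈ normalizer (D : Set H)) (hD : D ≤ ⁅D, zpowers σ⁆) (W : Submodule K U)
    (hWD : ∀ d ∈ D, ∀ w ∈ W, ρ d w ∈ W) (hWσ : ∀ w ∈ W, ρ σ w ∈ W)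
    (hWcomm : ∀ a ∈ D, ∀ b ∈ D, ∀ w ∈ W, ρ a (ρ b w) = ρ b (ρ a w))
    {n : U} (hn : n ∈ W) (hnN : n ∈ N) (h0 : ∑ d : D, ρ (d : H) n = 0) : n = 0 := by
  classical
  by_contra hn0
  obtain ⟨φ, hφn, hφ⟩ := hK.sep n hn0
  have hφσ : ∀ v, φ (ρ σ v) = φ v := by
    intro v
    rcases hφ 1 with h | h
    · simpa using h v
    · exact absurd (by simpa using h n hnN) hφn
  let act : D →* Module.End K W :=
    { toFun := fun d => (ρ (d : H)).restrict (hWD d d.2)
      map_one' := LinearMap.ext fun w => Subtype.ext (rho_one ρ _)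
      map_mul' := fun a b => LinearMap.ext fun w => Subtype.ext (rho_mul ρ _ _ _) }
  let A := MonoidHom.mrange act
  letI : CommMonoid A :=
    { (inferInstance : Monoid A) with
      mul_comm := by
        rintro ⟨_, a, rfl⟩ ⟨_, b, rfl⟩
        exact Subtype.ext (LinearMap.ext fun w => Subtype.ext (hWcomm a a.2 b b.2 w w.2)) }
  let cj : ℕ → D →* D := fun i =>
    { toFun := fun d => ⟨(σ ^ i)⁻¹ * d * σ ^ i,
        Coprime.conj_mem_of_mem_normalizer' (pow_mem hσD i) d.2⟩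
      map_one' := Subtype.ext (by simp)
      map_mul' := fun a b => Subtype.ext (by simp [mul_assoc]) }
  have hcj : ∀ i (d : D), ((cj i d : D) : H) = (σ ^ i)⁻¹ * d * σ ^ i := fun _ _ => rfl
  let ν : D →* A := ∏ i ∈ Finset.range r, act.mrangeRestrict.comp (cj i)
  have hν : ∀ d, ν d = ∏ i ∈ Finset.range r, act.mrangeRestrict (cj i d) := fun d =>
    MonoidHom.finsetProd_apply _ _ _
  have hshift : ∀ d, ν (cj 1 d) = ν d := by
    intro d
    rw [hν, hν]
    have e1 : ∀ i, cj i (cj 1 d) = cj (i + 1) d := fun i => Subtype.ext (by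
      rw [hcj, hcj, hcj, pow_one, pow_succ']
      group)
    simp only [e1]
    rcases r with _ | r
    · simp
    rw [Finset.prod_range_succ (fun i => act.mrangeRestrict (cj (i + 1) d)),
      Finset.prod_range_succ' (fun i => act.mrangeRestrict (cj i d))]
    congr 2
    exact Subtype.ext (by simp [hcj, hσr])
  have hker : ∀ d : D, ν d = 1 := by
    have key : ∀ (k : ℕ) (d : D), ν (cj k d) = ν d := by
      intro k
      induction k with
      | zero => intro d; congr 1; exact Subtype.ext (by simp [hcj])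
      | succ k ih =>
        intro d
        rw [show cj (k + 1) d = cj 1 (cj k d) from Subtype.ext (by
          rw [hcj, hcj, hcj, pow_one, pow_succ]
          group), hshift, ih]
    let S : Subgroup H :=
      { carrier := {x | ∃ hx : x ∈ D, ν ⟨x, hx⟩ = 1}
        one_mem' := ⟨one_mem _, map_one ν⟩
        mul_mem' := fun {a b} ⟨ha, ha'⟩ ⟨hb, hb'⟩ => ⟨mul_mem ha hb, by
          rw [show (⟨a * b, mul_mem ha hb⟩ : D) = ⟨a, ha⟩ * ⟨b, hb⟩ from rfl, map_mul, ha', hb',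
            one_mul]⟩
        inv_mem' := fun {a} ⟨ha, ha'⟩ => ⟨inv_mem ha, by
          have h1 := map_mul ν ⟨a⁻¹, inv_mem ha⟩ ⟨a, ha⟩
          rw [ha', mul_one] at h1
          rw [← h1, show (⟨a⁻¹, inv_mem ha⟩ : D) * ⟨a, ha⟩ = 1 from
            Subtype.ext (inv_mul_cancel a), map_one]⟩ }
    have hle : ⁅D, zpowers σ⁆ ≤ S := commutator_le.2 fun a ha b hb => by
      obtain ⟨k, rfl⟩ := mem_powers_iff_mem_zpowers.2 (inv_mem hb)
        |>.imp fun k (hk : σ ^ k = b⁻¹) => (inv_eq_iff_eq_inv.2 hk : (σ ^ k)⁻¹ = b)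
      have hmem : ⁅a, (σ ^ k)⁻¹⁆ = ((⟨a, ha⟩ : D) * cj k (⟨a, ha⟩ : D)⁻¹ : D) := by
        simp [hcj, commutatorElement_def, mul_assoc]
      rw [hmem]
      refine ⟨Subtype.prop _, ?_⟩
      rw [Subtype.coe_eta, map_mul, key, ← map_mul, mul_inv_cancel, map_one]
    intro d
    obtain ⟨h, h'⟩ := hle (hD d.2)
    exact h'
  have hWσi : ∀ i : ℕ, ∀ w ∈ W, ρ (σ ^ i) w ∈ W := fun i => by
    have hle : zpowers σ ≤ LinAct.stab ρ W := zpowers_le.2 hWσ
    exact hle (pow_mem (mem_zpowers σ) i)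
  have hφi : ∀ (i : ℕ) v, φ (ρ (σ ^ i) v) = φ v := by
    intro i
    induction i with
    | zero => simp
    | succ i ih => intro v; rw [pow_succ', rho_mul, hφσ, ih]
  have hfix : ∀ d : D, (∀ v, φ (ρ (d : H) (ρ σ v)) = φ (ρ (d : H) v)) →
      ∀ w ∈ W, φ (ρ (d : H) w) = φ w := by
    intro d hd
    have hi : ∀ (i : ℕ) (w : U), φ (ρ (cj i d : H) w) = φ (ρ (d : H) w) := by
      intro i
      induction i with
      | zero => intro w; simp [hcj]
      | succ i ih =>
        intro w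
        rw [hcj, rho_mul, rho_mul, ← hφi (i + 1) (ρ (σ ^ (i + 1))⁻¹ _), ← rho_mul ρ (σ ^ (i + 1)),
          mul_inv_cancel, rho_one]
        clear ih
        induction i generalizing w with
        | zero => simpa using hd w
        | succ i ih => rw [pow_succ, rho_mul, ih, hd]
    have hprod : ∀ (J : Finset ℕ) (w : W),
        φ ((((∏ i ∈ J, act.mrangeRestrict (cj i d) : A) : Module.End K W) w : W) : U) =
          φ (ρ ((d : H) ^ J.card) (w : U)) := by
      intro J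
      induction J using Finset.induction with
      | empty => intro w; simp
      | insert j J hj ih =>
        intro w
        rw [Finset.prod_insert hj, Finset.card_insert_of_notMem hj, pow_succ]
        show φ (ρ (cj j d : H) ((((∏ i ∈ J, act.mrangeRestrict (cj i d) : A) :
          Module.End K W) w : W) : U)) = _
        rw [hi, rho_mul]
        have hc : act.mrangeRestrict d * (∏ i ∈ J, act.mrangeRestrict (cj i d)) =
            (∏ i ∈ J, act.mrangeRestrict (cj i d)) * act.mrangeRestrict d := mul_comm _ _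
        have hc' := congrArg (fun x : A => (((x : Module.End K W) w : W) : U)) hc
        exact (congrArg φ hc').trans (ih ⟨ρ (d : H) w, hWD d d.2 w w.2⟩)
    intro w hw
    have hr' : ∀ w ∈ W, φ (ρ ((d : H) ^ r) w) = φ w := by
      intro w hw
      have h2 := hprod (Finset.range r) ⟨w, hw⟩
      rw [← hν, hker, Finset.card_range] at h2
      exact h2.symm
    obtain ⟨j, hj⟩ := exists_pow_eq_self_of_coprime (x := (d : H)) (n := r)
      (Nat.Coprime.coprime_dvd_right (by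
        rw [show orderOf (d : H) = orderOf d from orderOf_coe d]; exact orderOf_dvd_natCard d)
        hDr.symm)
    have hjall : ∀ j : ℕ, φ (ρ (((d : H) ^ r) ^ j) w) = φ w := by
      intro j
      induction j with
      | zero => simp
      | succ j ih =>
        rw [pow_succ', rho_mul, hr' _ ?_, ih]
        exact hWD _ (pow_mem (pow_mem d.2 _) j) w hw
    rw [← hjall j, hj]
  let St : Subgroup D :=
    { carrier := {d | ∀ w ∈ W, φ (ρ (d : H) w) = φ w}
      one_mem' := fun w _ => by simp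
      mul_mem' := fun {a b} ha hb w hw => by
        rw [Subgroup.coe_mul, rho_mul, ha _ (hWD b b.2 w hw), hb w hw]
      inv_mem' := fun {a} ha w hw => by
        have := ha _ (hWD _ (inv_mem a.2) w hw)
        rw [← rho_mul, mul_inv_cancel, rho_one] at this
        rw [Subgroup.coe_inv, ← this] }
  have hterm : ∀ d : D, φ (ρ (d : H) n) = if d ∈ St then φ n else 0 := by
    intro d
    split_ifs with hd
    · exact hd n hn
    · rcases hφ d with h | h
      · exact absurd (hfix d h) hd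
      · exact h n hnN
  have h1 := congrArg φ h0
  rw [map_sum, map_zero, Finset.sum_congr rfl fun d _ => hterm d, ← Finset.sum_filter,
    Finset.sum_const, ← Fintype.card_subtype, ← Nat.card_eq_fintype_card,
    ← Nat.cast_smul_eq_nsmul K, smul_eq_mul, mul_eq_zero, or_iff_left hφn] at h1
  apply hD0
  obtain ⟨k, hk⟩ := St.card_subgroup_dvd_card
  rw [hk, Nat.cast_mul, show (Nat.card St : K) = 0 from h1, zero_mul]

end Cfsg.Agent.FGS73.Turull
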