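import Cfsg.Agent.FGS73.Turull.Radical
import Cfsg.Agent.FGS73.Turull.Exact
import Cfsg.Agent.FGS73.Turull.Vanish

/-!
The kernel of the fixed points on the fixed vectors, and the exceptional configuration without
fixed vectors.
-/

set_option autoImplicit false

namespace Cfsg.Agent.FGS73.Turull

open Subgroup
open scoped commutatorElement
open Cfsg.Agent.LinAct (rho_mul rho_one rho_inv_apply)

variable {H : Type*} [Group H] {K : Type*} [Field K] {U : Type*} [AddCommGroup U] [Module K U]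

/-- A group of class two with an operator of prime order. -/
structure Setting (ρ : H →* Module.End K U) (Q Z : Subgroup H) (q : ℕ) (σ : H) (r : ℕ) : Prop
    extends CTwo ρ Q Z q where
  r_prime : r.Prime
  r_ne_zero : (r : K) ≠ 0
  q_ne_r : q ≠ r
  sigma_Q : σ ∈ normalizer (Q : Set H)
  sigma_Z : σ ∈ normalizer (Z : Set H)
  sigma_pow : σ ^ r = 1

variable {ρ : H →* Module.End K U} {Q Z : Subgroup H} {q r : ℕ} {σ : H}

theorem pow_mem_iff_of_prime {S : Subgroup H} (hr : r.Prime) (hσ : σ ^ r = 1) {i : ℕ}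
    (hi : ¬ r ∣ i) (h : σ ^ i ∈ S) : σ ∈ S := by
  have hcop : i.Coprime (orderOf σ) :=
    Nat.Coprime.coprime_dvd_right (orderOf_dvd_of_pow_eq_one hσ) ((hr.coprime_iff_not_dvd).2 hi).symm
  obtain ⟨j, hj⟩ := exists_pow_eq_self_of_coprime hcop
  rw [← hj]
  exact pow_mem h j

theorem Setting.coprime (h : Setting ρ Q Z q σ r) : (orderOf σ).Coprime q :=
  Nat.Coprime.coprime_dvd_left (orderOf_dvd_of_pow_eq_one h.sigma_pow)
    ((Nat.coprime_primes h.r_prime h.prime).2 h.q_ne_r.symm)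

theorem wspace_le_of_le {R : Subgroup H} {χ lam : H → K} {v : U} (hZR : Z ≤ R)
    (hv : v ∈ LinAct.wspace ρ Z χ) (hvR : v ∈ LinAct.wspace ρ R lam) (hv0 : v ≠ 0) :
    LinAct.wspace ρ R lam ≤ LinAct.wspace ρ Z χ := fun w hw z hz => by
  rw [hw z (hZR hz),
    weight_eq (fun z hz => hvR z (hZR hz) : v ∈ LinAct.wspace ρ Z lam) hv hv0 hz]

theorem inv_wspace {A : Subgroup H} {χ : H → K} (hQ : ∀ x ∈ Q, ∀ w ∈ LinAct.wspace ρ A χ,
    ρ x w ∈ LinAct.wspace ρ A χ) (hσ : σ ∈ LinAct.wstab A χ) :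
    Inv ρ Q σ (LinAct.wspace ρ A χ) := by
  refine ⟨hQ, fun w hw z hz => ?_⟩
  rw [LinAct.map_mem_wspace ρ hσ.1 hw z hz]
  exact congrArg (· • ρ σ w) (hσ.2 z hz)

theorem orbit_proj [Finite H] {A : Subgroup H} [Fintype A] {χ : H → K} {v : U}
    (hv : v ∈ LinAct.wspace ρ A χ) (hv0 : v ≠ 0) (hr : r.Prime) (hσr : σ ^ r = 1)
    (hσA : σ ∈ normalizer (A : Set H)) (hσ : σ ∉ LinAct.wstab A χ) :
    LinAct.wproj ρ A χ (∑ i ∈ Finset.range r, ρ (σ ^ i) v) = (Nat.card A : K) • v := by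
  classical
  rw [LinAct.wproj_sum ρ A hv hv0 _ (fun i => σ ^ i) (fun i _ => pow_mem hσA i)]
  have hf : (Finset.range r).filter (fun i => σ ^ i ∈ LinAct.wstab A χ) = {0} := by
    ext i
    simp only [Finset.mem_filter, Finset.mem_range, Finset.mem_singleton]
    refine ⟨fun ⟨hi, hm⟩ => ?_, fun h => ⟨h ▸ hr.pos, h ▸ by simp⟩⟩
    by_contra hi0
    exact hσ (pow_mem_iff_of_prime hr hσr (fun hd => hi0 (Nat.eq_zero_of_dvd_of_lt hd hi)) hm)
  rw [hf, Finset.sum_singleton, pow_zero, rho_one]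

/-- Every nonzero invariant subspace has a fixed vector which is not killed. -/
def NoBadN (ρ : H →* Module.End K U) (Q : Subgroup H) (σ : H) (N : Submodule K U) : Prop :=
  ∀ W : Submodule K U, W ≠ ⊥ → Inv ρ Q σ W → ∃ v ∈ W, v ∉ N ∧ ρ σ v = v

theorem kill_bot : Kill ρ σ (⊥ : Submodule K U) where
  fixed n hn := by rw [(Submodule.mem_bot K).1 hn, map_zero]
  inv h _ n hn := by rw [(Submodule.mem_bot K).1 hn, map_zero]; exact zero_mem _
  sep w hw := by
    obtain ⟨φ, hφ⟩ : ∃ φ : U →ₗ[K] K, φ w ≠ 0 := by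
      by_contra hno
      push Not at hno
      exact hw ((Module.forall_dual_apply_eq_zero_iff K w).1 hno)
    exact ⟨φ, hφ, fun h => Or.inr fun n hn => by
      rw [(Submodule.mem_bot K).1 hn, map_zero, map_zero]⟩

/-- The average over the moved part of a group kills the translates of a moved weight vector. -/
theorem moved_sum [Finite H] {A : Subgroup H} {χ : H → K} {v : U} [Fintype ↥⁅A, zpowers σ⁆]
    (hv : v ∈ LinAct.wspace ρ A χ) (hv0 : v ≠ 0) (hσA : σ ∈ normalizer (A : Set H))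
    (hσ : σ ∉ LinAct.wstab A χ) {g : H} (hgA : g ∈ normalizer (A : Set H))
    (hg : σ * g = g * σ) : ∑ d : ↥⁅A, zpowers σ⁆, ρ (d : H) (ρ g v) = 0 := by
  have hDA : ⁅A, zpowers σ⁆ ≤ A := commutator_le_Q hσA
  have hgv := LinAct.map_mem_wspace ρ hgA hv
  have hgv0 : ρ g v ≠ 0 := fun h0 => hv0 (by
    have := congrArg (ρ g⁻¹) h0
    rwa [rho_inv_apply, map_zero] at this)
  obtain ⟨d₀, hd₀, hne⟩ : ∃ d ∈ ⁅A, zpowers σ⁆, χ (g⁻¹ * d * g) ≠ 1 := by
    by_contra hall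
    push Not at hall
    refine hσ (mem_wstab hσA fun z hz => ?_)
    set y := g * z * g⁻¹ with hy
    have hyA : y ∈ A := Coprime.conj_mem_of_mem_normalizer hgA hz
    have hm : ⁅y⁻¹, σ⁆ ∈ ⁅A, zpowers σ⁆ := commutator_mem_commutator (inv_mem hyA) (mem_zpowers σ)
    have hc : g⁻¹ * σ * g = σ := by rw [mul_assoc, hg, inv_mul_cancel_left]
    have e : g⁻¹ * ⁅y⁻¹, σ⁆ * g = z⁻¹ * (σ * z * σ⁻¹) := by
      conv_rhs => rw [← hc]
      rw [hy]
      simp [commutatorElement_def, mul_assoc]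
    have hz' : σ * z * σ⁻¹ ∈ A := Coprime.conj_mem_of_mem_normalizer hσA hz
    have := hall _ hm
    rw [e, LinAct.weight_mul ρ hv hv0 (inv_mem hz) hz'] at this
    have h1 := LinAct.weight_mul ρ hv hv0 hz (inv_mem hz)
    rw [mul_inv_cancel, LinAct.weight_one ρ hv hv0] at h1
    have h0 : χ z⁻¹ ≠ 0 := fun h0 => by rw [h0, mul_zero] at h1; exact one_ne_zero h1
    exact mul_left_cancel₀ h0 (this.trans (h1.trans (mul_comm _ _)))
  have h1 : (∑ d : ↥⁅A, zpowers σ⁆, χ (g⁻¹ * d * g)) = 0 := by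
    have h2 : χ (g⁻¹ * d₀ * g) * ∑ d : ↥⁅A, zpowers σ⁆, χ (g⁻¹ * d * g) = ∑ d : ↥⁅A, zpowers σ⁆, χ (g⁻¹ * d * g) := by
      rw [Finset.mul_sum]
      refine (Finset.sum_congr rfl fun d _ => ?_).trans
        (Equiv.sum_comp (Equiv.mulLeft (⟨d₀, hd₀⟩ : ↥⁅A, zpowers σ⁆)) fun d : ↥⁅A, zpowers σ⁆ => χ (g⁻¹ * d * g))
      rw [← LinAct.weight_mul ρ hv hv0 (Coprime.conj_mem_of_mem_normalizer' hgA (hDA hd₀))
        (Coprime.conj_mem_of_mem_normalizer' hgA (hDA d.2))]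
      congr 1
      simp [mul_assoc]
    by_contra h0
    exact hne ((mul_eq_right₀ h0).1 h2)
  rw [Finset.sum_congr rfl fun (d : ↥⁅A, zpowers σ⁆) _ => hgv (d : H) (hDA d.2), ← Finset.sum_smul]
  simp only [h1, zero_smul]

/-- A killed translate combination of a moved weight vector is zero. -/
theorem Kill.orbit_zero [Finite H] {N : Submodule K U} (hK : Kill ρ σ N) {A : Subgroup H}
    (hA : (Nat.card A : K) ≠ 0) (hAr : (Nat.card A).Coprime r) (hσr : σ ^ r = 1)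
    (hσA : σ ∈ normalizer (A : Set H)) {W : Submodule K U} (hWA : ∀ a ∈ A, ∀ w ∈ W, ρ a w ∈ W)
    (hWσ : ∀ w ∈ W, ρ σ w ∈ W)
    (hWc : ∀ a ∈ A, ∀ b ∈ A, ∀ w ∈ W, ρ a (ρ b w) = ρ b (ρ a w)) {n : U} (hnN : n ∈ N)
    (hn : n ∈ W) [Fintype ↥⁅A, zpowers σ⁆] (h0 : ∑ d : ↥⁅A, zpowers σ⁆, ρ (d : H) n = 0) :
    n = 0 := by
  have hDA : ⁅A, zpowers σ⁆ ≤ A := commutator_le_Q hσA
  refine hK.zero_of_avg hσr _ ?_ (Nat.Coprime.coprime_dvd_left (card_dvd_of_le hDA) hAr)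
    (Coprime.le_normalizer_commutator_right (zpowers σ) A (mem_zpowers σ))
    (Coprime.commutator_commutator_eq (zpowers σ) A (zpowers_le.2 hσA) (by
      rw [Nat.card_zpowers]
      exact Nat.Coprime.coprime_dvd_left (orderOf_dvd_of_pow_eq_one hσr) hAr.symm)
      (Or.inl inferInstance)).ge W
    (fun d hd => hWA d (hDA hd)) hWσ (fun a ha b hb => hWc a (hDA ha) b (hDA hb)) hn hnN h0
  intro h1
  obtain ⟨k, hk⟩ := card_dvd_of_le hDA
  exact hA (by rw [hk, Nat.cast_mul, h1, zero_mul])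

/-- An element commuting with `σ`, trivial on its fixed vectors modulo the killed ones, fixes the
weights. -/
theorem stab_of_trivial [Finite H] {N : Submodule K U} (hK : Kill ρ σ N) {A : Subgroup H}
    {χ : H → K} {v : U}
    (hv : v ∈ LinAct.wspace ρ A χ) (hv0 : v ≠ 0) (hA : (Nat.card A : K) ≠ 0)
    (hAr : (Nat.card A).Coprime r) (hr : r.Prime)
    (hσr : σ ^ r = 1) (hσA : σ ∈ normalizer (A : Set H)) {l : H} {o : ℕ}
    (hlA : l ∈ normalizer (A : Set H)) (hc : σ * l = l * σ) (hl : l ^ o = 1) (hor : o.Coprime r)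
    (hfix : ∀ w, ρ σ w = w → ρ l w - w ∈ N)
    {W : Submodule K U} (hvW : v ∈ W) (hWA : ∀ a ∈ A, ∀ w ∈ W, ρ a w ∈ W)
    (hWσ : ∀ w ∈ W, ρ σ w ∈ W) (hWl : ∀ w ∈ W, ρ l w ∈ W)
    (hWc : ∀ a ∈ A, ∀ b ∈ A, ∀ w ∈ W, ρ a (ρ b w) = ρ b (ρ a w))
    (hbad : σ ∈ LinAct.wstab A χ → ∃ u ∈ LinAct.wspace ρ A χ, u ∉ N ∧ ρ σ u = u) :
    l ∈ LinAct.wstab A χ ∧ (σ ∉ LinAct.wstab A χ → ρ l v = v) := by
  classical
  cases nonempty_fintype A
  by_cases hσ : σ ∈ LinAct.wstab A χ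
  · obtain ⟨u, hu, huN, hσu⟩ := hbad hσ
    have hu0 : u ≠ 0 := fun h0 => huN (h0 ▸ N.zero_mem)
    refine ⟨⟨hlA, fun z hz => ?_⟩, fun h => absurd hσ h⟩
    obtain ⟨a, ha, c, hc', rfl⟩ := Coprime.exists_commutator_mul_centralizer (zpowers σ) A
      (zpowers_le.2 hσA) (by
        rw [Nat.card_zpowers]
        exact Nat.Coprime.coprime_dvd_left (orderOf_dvd_of_pow_eq_one hσr) hAr.symm)
      (Or.inl inferInstance) z hz
    have hcσ : σ * c = c * σ := mem_centralizer_iff.1 hc'.2 σ (mem_zpowers σ)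
    have hcA : c ∈ A := hc'.1
    have haA : a ∈ A := commutator_le_Q hσA ha
    have hconj : ∀ x ∈ A, l⁻¹ * x * l ∈ A := fun x hx => Coprime.conj_mem_of_mem_normalizer' hlA hx
    have hcc : χ (l⁻¹ * c * l) = χ c := by
      have h1 := hfix u hσu
      have h2 : ρ c (ρ l u - u) - χ (l⁻¹ * c * l) • (ρ l u - u) =
          (χ (l⁻¹ * c * l) - χ c) • u := by
        rw [map_sub, hu c hcA, LinAct.map_mem_wspace ρ hlA hu c hcA, smul_sub, sub_smul]
        abel
      have h3 := N.sub_mem (hK.inv c hcσ _ h1) (N.smul_mem (χ (l⁻¹ * c * l)) h1)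
      rw [h2] at h3
      by_contra hne
      exact huN ((N.smul_mem_iff (sub_ne_zero.2 hne)).1 h3)
    have haa : χ (l⁻¹ * a * l) = 1 ∧ χ a = 1 := by
      let S : Subgroup H :=
        { carrier := {x | x ∈ A ∧ χ (l⁻¹ * x * l) = 1 ∧ χ x = 1}
          one_mem' := ⟨one_mem _, by simp [LinAct.weight_one ρ hv hv0]⟩
          mul_mem' := fun {x y} hx hy => ⟨mul_mem hx.1 hy.1, by
            rw [show l⁻¹ * (x * y) * l = l⁻¹ * x * l * (l⁻¹ * y * l) by group,
              LinAct.weight_mul ρ hv hv0 (hconj x hx.1) (hconj y hy.1), hx.2.1, hy.2.1, one_mul], by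
            rw [LinAct.weight_mul ρ hv hv0 hx.1 hy.1, hx.2.2, hy.2.2, one_mul]⟩
          inv_mem' := fun {x} hx => ⟨inv_mem hx.1, by
            have := LinAct.weight_mul ρ hv hv0 (hconj _ (inv_mem hx.1)) (hconj x hx.1)
            rw [hx.2.1, mul_one, show l⁻¹ * x⁻¹ * l * (l⁻¹ * x * l) = 1 by group,
              LinAct.weight_one ρ hv hv0] at this
            exact this.symm, by
            have := LinAct.weight_mul ρ hv hv0 (inv_mem hx.1) hx.1
            rw [hx.2.2, mul_one, inv_mul_cancel, LinAct.weight_one ρ hv hv0] at this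
            exact this.symm⟩ }
      suffices hle : ⁅A, zpowers σ⁆ ≤ S from (hle ha).2
      refine commutator_le.2 fun x hx k hk => ?_
      have hkst := (zpowers_le (H := LinAct.wstab A χ)).2 hσ hk
      have key : ∀ x ∈ A, χ ⁅x, k⁆ = 1 := fun x hx => by
        have hk' : k * x⁻¹ * k⁻¹ ∈ A := Coprime.conj_mem_of_mem_normalizer hkst.1 (inv_mem hx)
        rw [show ⁅x, k⁆ = x * (k * x⁻¹ * k⁻¹) by simp [commutatorElement_def, mul_assoc],
          LinAct.weight_mul ρ hv hv0 hx hk', wstab_conj hkst (inv_mem hx),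
          ← LinAct.weight_mul ρ hv hv0 hx (inv_mem hx), mul_inv_cancel,
          LinAct.weight_one ρ hv hv0]
      refine ⟨commutator_le_Q hσA (commutator_mem_commutator hx hk), ?_, key x hx⟩
      have hlk : l⁻¹ * k * l = k := by
        obtain ⟨j, rfl⟩ := mem_powers_iff_mem_zpowers.2 hk
        rw [mul_assoc, ((show Commute σ l from hc).pow_left j).eq, inv_mul_cancel_left]
      rw [show l⁻¹ * ⁅x, k⁆ * l = ⁅l⁻¹ * x * l, l⁻¹ * k * l⁆ by
        simp [commutatorElement_def, mul_assoc], hlk]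
      exact key _ (hconj x hx)
    rw [show l⁻¹ * (a * c) * l = l⁻¹ * a * l * (l⁻¹ * c * l) by group,
      LinAct.weight_mul ρ hv hv0 (hconj a haA) (hconj c hcA), haa.1, hcc,
      LinAct.weight_mul ρ hv hv0 haA hcA, haa.2]
  · have hw := orbit_proj hv hv0 hr hσr hσA hσ
    have hsumW : ∑ i ∈ Finset.range r, ρ (σ ^ i) v ∈ W := W.sum_mem fun i hi => by
      clear hi
      induction i with
      | zero => simpa using hvW
      | succ i ih => rw [pow_succ', rho_mul]; exact hWσ _ ih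
    have hlw : ∑ i ∈ Finset.range r, ρ (σ ^ i * l) v = ∑ i ∈ Finset.range r, ρ (σ ^ i) v := by
      cases nonempty_fintype ↥⁅A, zpowers σ⁆
      have hcomm : ∀ i : ℕ, σ ^ i * l = l * σ ^ i := fun i =>
        ((show Commute σ l from hc).pow_left i).eq
      have h1 : ρ l (∑ i ∈ Finset.range r, ρ (σ ^ i) v) = ∑ i ∈ Finset.range r, ρ (σ ^ i) v := by
        refine sub_eq_zero.1 (hK.orbit_zero hA hAr hσr hσA hWA hWσ hWc
          (hfix _ (LinAct.sum_pow_fixed ρ hσr v)) (W.sub_mem (hWl _ hsumW) hsumW) ?_)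
        simp only [map_sub, map_sum, Finset.sum_sub_distrib]
        rw [Finset.sum_comm, Finset.sum_eq_zero, Finset.sum_comm, Finset.sum_eq_zero, sub_zero]
        · exact fun i _ => moved_sum hv hv0 hσA hσ (pow_mem hσA i) ((Commute.refl σ).pow_right i).eq
        · intro i _
          rw [← rho_mul ρ l]
          exact moved_sum hv hv0 hσA hσ (mul_mem hlA (pow_mem hσA i))
            ((show Commute σ l from hc).mul_right ((Commute.refl σ).pow_right i)).eq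
      rw [map_sum] at h1
      refine (Finset.sum_congr rfl fun i _ => ?_).trans h1
      rw [← rho_mul, hcomm]
    rw [← hlw, LinAct.wproj_sum ρ A hv hv0 _ (fun i => σ ^ i * l)
      (fun i _ => mul_mem (pow_mem hσA i) hlA)] at hw
    obtain ⟨i, hi⟩ : ((Finset.range r).filter fun i => σ ^ i * l ∈ LinAct.wstab A χ).Nonempty := by
      rw [Finset.nonempty_iff_ne_empty]
      intro he
      rw [he, Finset.sum_empty, smul_zero] at hw
      exact smul_ne_zero hA hv0 hw.symm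
    have hall : ∀ j, j < r → σ ^ j * l ∈ LinAct.wstab A χ → j = 0 := by
      intro j hj hm
      by_contra hj0
      have h1 := pow_mem hm o
      rw [((show Commute σ l from hc).pow_left j).mul_pow, hl, mul_one, ← pow_mul] at h1
      exact hσ (pow_mem_iff_of_prime hr hσr (fun hd => hj0 (Nat.eq_zero_of_dvd_of_lt
        ((hor.symm.dvd_of_dvd_mul_right) hd) hj)) h1)
    rw [Finset.mem_filter, Finset.mem_range] at hi
    have hl' : l ∈ LinAct.wstab A χ := by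
      have := hi.2
      rwa [hall i hi.1 hi.2, pow_zero, one_mul] at this
    have hf : (Finset.range r).filter (fun j => σ ^ j * l ∈ LinAct.wstab A χ) = {0} := by
      ext j
      simp only [Finset.mem_filter, Finset.mem_range, Finset.mem_singleton]
      exact ⟨fun h => hall j h.1 h.2, fun h => ⟨h ▸ hr.pos, h ▸ by simpa using hl'⟩⟩
    rw [hf, Finset.sum_singleton, pow_zero, one_mul] at hw
    exact ⟨hl', fun _ => smul_right_injective U hA hw⟩

/-- The fixed elements of `Q` act faithfully on the fixed vectors when there is no exception. -/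
theorem Setting.kernel [Finite H] [IsAlgClosed K] [FiniteDimensional K U]
    (h : Setting ρ Q Z q σ r) {N : Submodule K U} (hK : Kill ρ σ N) (hnb : NoBadN ρ Q σ N) {x : H}
    (hx : x ∈ Q) (hxσ : σ * x = x * σ) (hfix : ∀ w, ρ σ w = w → ρ x w - w ∈ N) : ρ x = 1 := by
  classical
  have hQ0 : (Nat.card Q : K) ≠ 0 := pow_card_ne_zero h.ne_zero h.pgroup h.prime
  have hxn : x ^ Nat.card Q = 1 := congrArg Subtype.val (pow_card_eq_one' (x := (⟨x, hx⟩ : Q)))
  have hqr : (Nat.card Q).Coprime r := by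
    have := Fact.mk h.prime
    obtain ⟨n, hn⟩ := IsPGroup.iff_card.1 h.pgroup
    rw [hn]
    exact ((Nat.coprime_primes h.prime h.r_prime).2 h.q_ne_r).pow_left n
  have hxZ : x ∈ normalizer (Z : Set H) := Coprime.mem_normalizer_of_le_iff
    (fun z hz => by
      have := Z.mul_mem (h.comm x hx z (h.le hz)) hz
      convert this using 1
      simp [commutatorElement_def, mul_assoc])
    (fun z hz => by
      have := Z.mul_mem (h.comm x⁻¹ (inv_mem hx) z (h.le hz)) hz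
      convert this using 1
      simp [commutatorElement_def, mul_assoc])
  have hZ0 : (Nat.card Z : K) ≠ 0 := pow_card_ne_zero h.ne_zero (h.pgroup.to_le h.le) h.prime
  refine LinearMap.ext fun w => eq_one_of_weights ρ Z ⊤ (fun _ _ _ _ => Submodule.mem_top)
    (fun a ha b hb w _ => h.swap (h.le ha) hb w) hxn hQ0 (fun _ _ => Submodule.mem_top)
    (fun a ha w _ => (h.swap hx ha w).symm) (fun χ v _ hv0 hv => ?_) w Submodule.mem_top
  by_cases hσ : σ ∈ LinAct.wstab Z χ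
  swap
  · exact (stab_of_trivial hK hv hv0 hZ0
      (Nat.Coprime.coprime_dvd_left (card_dvd_of_le h.le) hqr) h.r_prime h.sigma_pow h.sigma_Z hxZ
      hxσ hxn hqr hfix (W := ⊤) trivial (fun _ _ _ _ => trivial) (fun _ _ => trivial)
      (fun _ _ => trivial) (fun a ha b hb w _ => h.swap (h.le ha) hb w)
      (fun h' => absurd h' hσ)).2 hσ
  set W : Submodule K U := Submodule.span K
    {u | ∃ k, (k ∈ Q ∧ σ * k = k * σ ∧ ∀ w, ρ σ w = w → ρ k w - w ∈ N) ∧
      ∃ w ∈ LinAct.wspace ρ Z χ, u = ρ k w - w} with hW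
  have hinvσ := inv_wspace (σ := σ) (ρ := ρ) (Q := Q) (fun x hx _ hw => h.wspace_inv hx hw) hσ
  have hmem : ∀ (g : H), (∀ k, k ∈ Q → σ * k = k * σ → (∀ w, ρ σ w = w → ρ k w - w ∈ N) →
      ∀ w ∈ LinAct.wspace ρ Z χ, ρ g (ρ k w - w) ∈ W) → ∀ u ∈ W, ρ g u ∈ W := by
    intro g hg u hu
    induction hu using Submodule.span_induction with
    | mem u hu =>
      obtain ⟨k, ⟨hk, hkσ, hkf⟩, w, hw, rfl⟩ := hu
      exact hg k hk hkσ hkf w hw
    | zero => simp
    | add a b _ _ ha hb => rw [map_add]; exact W.add_mem ha hb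
    | smul c a _ ha => rw [map_smul]; exact W.smul_mem c ha
  have hgen : ∀ k, k ∈ Q → σ * k = k * σ → (∀ w, ρ σ w = w → ρ k w - w ∈ N) →
      ∀ w ∈ LinAct.wspace ρ Z χ, ρ k w - w ∈ W :=
    fun k hk hkσ hkf w hw => Submodule.subset_span ⟨k, ⟨hk, hkσ, hkf⟩, w, hw, rfl⟩
  have hWσ : ∀ u ∈ W, ρ σ u ∈ W := hmem σ fun k hk hkσ hkf w hw => by
    rw [map_sub, ← rho_mul, hkσ, rho_mul]
    exact hgen k hk hkσ hkf _ (hinvσ.2 w hw)
  have hWQ : ∀ y ∈ Q, ∀ u ∈ W, ρ y u ∈ W := fun y hy => by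
    refine hmem y fun k hk hkσ hkf w hw => ?_
    obtain ⟨a, ha, c, hc, hcσ, rfl⟩ := split h.pgroup h.prime h.coprime h.sigma_Q hy
    have haQ := commutator_le_Q h.sigma_Q ha
    have hcw := h.wspace_inv hc hw
    rw [map_sub, rho_mul, rho_mul]
    have e1 : ρ c (ρ k w) = ρ (c * k * c⁻¹) (ρ c w) := by
      rw [← rho_mul, ← rho_mul, inv_mul_cancel_right]
    have hk' : c * k * c⁻¹ ∈ Q := mul_mem (mul_mem hc hk) (inv_mem hc)
    have hk'σ : σ * (c * k * c⁻¹) = c * k * c⁻¹ * σ :=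
      (((show Commute σ c from hcσ).mul_right hkσ).mul_right (show Commute σ c from hcσ).inv_right).eq
    have hk'f : ∀ w, ρ σ w = w → ρ (c * k * c⁻¹) w - w ∈ N := fun w hw => by
      have hci : ρ σ (ρ c⁻¹ w) = ρ c⁻¹ w := by
        rw [← rho_mul, (show Commute σ c from hcσ).inv_right.eq, rho_mul, hw]
      have := hK.inv c hcσ _ (hkf _ hci)
      rwa [map_sub, ← rho_mul, ← rho_mul, ← rho_mul, mul_inv_cancel, rho_one] at this
    rw [e1, (h.bracket' hv hv0).comm_apply haQ hk' hcw,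
      h.beta_swap hv hv0 hk' haQ (h.orth hv hv0 h.sigma_Q hσ hk' hk'σ ha), one_smul]
    exact hgen _ hk' hk'σ hk'f _ (h.wspace_inv haQ hcw)
  by_contra hne
  obtain ⟨u, hu, huN, hσu⟩ := hnb W (fun h0 => hne (sub_eq_zero.1
    ((Submodule.mem_bot K).1 (h0 ▸ hgen x hx hxσ hfix v hv)))) ⟨hWQ, hWσ⟩
  have hA : ∀ u ∈ W, ∑ i ∈ Finset.range r, ρ (σ ^ i) u ∈ N := by
    intro u hu
    induction hu using Submodule.span_induction with
    | mem u hu =>
      obtain ⟨k, ⟨hk, hkσ, hkf⟩, w, hw, rfl⟩ := hu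
      have := hkf _ (LinAct.sum_pow_fixed ρ h.sigma_pow w)
      rw [map_sum] at this
      simp only [map_sub, Finset.sum_sub_distrib]
      convert this using 2
      refine Finset.sum_congr rfl fun i _ => ?_
      rw [← rho_mul, ((show Commute σ k from hkσ).pow_left i).eq, rho_mul]
    | zero => simp
    | add a b _ _ ha hb =>
      simp only [map_add, Finset.sum_add_distrib]
      exact N.add_mem ha hb
    | smul c a _ ha =>
      simp only [map_smul, ← Finset.smul_sum]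
      exact N.smul_mem c ha
  have hfixi : ∀ i : ℕ, ρ (σ ^ i) u = u := by
    intro i
    induction i with
    | zero => simp
    | succ i ih => rw [pow_succ', rho_mul, ih, hσu]
  have := hA u hu
  simp only [hfixi, Finset.sum_const, Finset.card_range, ← Nat.cast_smul_eq_nsmul K] at this
  exact huN ((N.smul_mem_iff h.r_ne_zero).1 this)

/-- An element fixing all of an invariant subspace of the weight space gives a radical element. -/
theorem CTwo.mem_radS_of_trivial (h : CTwo ρ Q Z q) {χ : H → K} {v : U}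
    (hv : v ∈ LinAct.wspace ρ Z χ) (hv0 : v ≠ 0) {W : Submodule K U}
    (hW : W ≤ LinAct.wspace ρ Z χ) (hW0 : W ≠ ⊥) (hWQ : ∀ x ∈ Q, ∀ w ∈ W, ρ x w ∈ W) {x : H}
    (hx : x ∈ Q) (htriv : ∀ w ∈ W, ρ x w = w) : x ∈ h.radS hv hv0 := by
  refine ⟨hx, fun t ht => ?_⟩
  obtain ⟨w, hw, hw0⟩ := (Submodule.ne_bot_iff W).1 hW0
  refine weight_eq_one (hW hw) hw0 (h.comm t ht x hx) ?_
  have h1 : ρ x⁻¹ w = w := by
    conv_lhs => rw [← htriv w hw]
    rw [rho_inv_apply]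
  rw [commutatorElement_def, rho_mul, rho_mul, rho_mul, h1, htriv _ (hWQ _ (inv_mem ht) w hw),
    ← rho_mul, mul_inv_cancel, rho_one]

/-- The exceptional configuration at a given weight of a subspace without fixed vectors. -/
theorem Setting.bad_at [Finite H] [IsAlgClosed K] [FiniteDimensional K U]
    (h : Setting ρ Q Z q σ r) {W : Submodule K U}
    (hS : ∀ w ∈ W, (∀ x ∈ ⁅Q, zpowers σ⁆, ρ x w = w) → w = 0) {N : Submodule K U}
    (hK : Kill ρ σ N)
    (hinv : Inv ρ Q σ W) (hWfix : ∀ w ∈ W, ρ σ w = w → w ∈ N) {χ : H → K} {v : U}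
    (hvW : v ∈ W) (hv : v ∈ LinAct.wspace ρ Z χ) (hv0 : v ≠ 0) :
    q = 2 ∧ σ ∈ LinAct.wstab Z χ ∧ (∃ m : ℕ, r = 2 ^ m + 1 ∧
      (h.radS hv hv0).relIndex ⁅Q, zpowers σ⁆ = (2 ^ m) ^ 2) ∧
      ∃ W' : Submodule K U, W' ≤ W ∧ W' ≠ ⊥ ∧ Inv ρ Q σ W' ∧ ∀ w ∈ W', ρ σ w = w → w = 0 := by
  classical
  obtain ⟨hWQ, hWσ⟩ := hinv
  have hWσi : ∀ i : ℕ, ∀ w ∈ W, ρ (σ ^ i) w ∈ W := by
    intro i
    induction i with
    | zero => intro w hw; simpa using hw
    | succ i ih => intro w hw; rw [pow_succ', rho_mul]; exact hWσ _ (ih w hw)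
  have hqr : ∀ A : Subgroup H, A ≤ Q → (Nat.card A).Coprime r := fun A hA => by
    have := Fact.mk h.prime
    obtain ⟨n, hn⟩ := IsPGroup.iff_card.1 (h.pgroup.to_le hA)
    rw [hn]
    exact ((Nat.coprime_primes h.prime h.r_prime).2 h.q_ne_r).pow_left n
  have hmoved : ∀ (A : Subgroup H), A ≤ Q → σ ∈ normalizer (A : Set H) →
      ∀ (W' : Submodule K U), W' ≤ W → (∀ a ∈ A, ∀ w ∈ W', ρ a w ∈ W') →
      (∀ w ∈ W', ρ σ w ∈ W') → (∀ a ∈ A, ∀ b ∈ A, ∀ w ∈ W', ρ a (ρ b w) = ρ b (ρ a w)) →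
      ∀ (χ : H → K) (v : U), v ∈ W' → v ≠ 0 → v ∈ LinAct.wspace ρ A χ →
      σ ∈ LinAct.wstab A χ := by
    intro A hAQ hσA W' hW' hA' hσ' hc' χ v hvW hv0 hv
    cases nonempty_fintype A
    by_contra hσ
    have hA := pow_card_ne_zero h.ne_zero (h.pgroup.to_le hAQ) h.prime
    have := orbit_proj hv hv0 h.r_prime h.sigma_pow hσA hσ
    have hin : ∑ i ∈ Finset.range r, ρ (σ ^ i) v ∈ W' := W'.sum_mem fun i hi => by
      clear hi
      induction i with
      | zero => simpa using hvW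
      | succ i ih => rw [pow_succ', rho_mul]; exact hσ' _ ih
    cases nonempty_fintype ↥⁅A, zpowers σ⁆
    rw [hK.orbit_zero hA (hqr A hAQ) h.sigma_pow hσA hA' hσ' hc'
      (hWfix _ (hW' hin) (LinAct.sum_pow_fixed ρ h.sigma_pow v)) hin (by
        simp only [map_sum]
        rw [Finset.sum_comm]
        exact Finset.sum_eq_zero fun i _ =>
          moved_sum hv hv0 hσA hσ (pow_mem hσA i) ((Commute.refl σ).pow_right i).eq), map_zero] at this
    exact smul_ne_zero hA hv0 this.symm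
  have hχ := hmoved Z h.le h.sigma_Z W le_rfl (fun a ha => hWQ a (h.le ha)) hWσ
    (fun a ha b hb w _ => h.swap (h.le ha) hb w) χ v hvW hv0 hv
  set R := h.radS hv hv0 with hR
  have hRQ : R ≤ Q := h.radS_le hv hv0
  have hσR := h.radS_normalizer hv hv0 h.sigma_Q hχ
  obtain ⟨lam, u, hu, hu0, huR⟩ := exists_weight ρ R (W ⊓ LinAct.wspace ρ Z χ)
    ((Submodule.ne_bot_iff _).2 ⟨v, ⟨hvW, hv⟩, hv0⟩)
    (fun a ha w hw => ⟨hWQ a (hRQ ha) w hw.1, h.wspace_inv (hRQ ha) hw.2⟩)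
    (fun a ha b hb w hw => h.rad_comm hw.2 (x := b) hb (hRQ ha))
  have hlam := hmoved R hRQ hσR (W ⊓ LinAct.wspace ρ Z χ) inf_le_left
    (fun a ha w hw => ⟨hWQ a (hRQ ha) w hw.1, h.wspace_inv (hRQ ha) hw.2⟩)
    (fun w hw => ⟨hWσ w hw.1, LinAct.wstab_le_stab ρ Z χ hχ w hw.2⟩)
    (fun a ha b hb w hw => h.rad_comm hw.2 (x := b) hb (hRQ ha)) lam u hu hu0 huR
  have hZR : Z ≤ R := h.Z_le_radS hv hv0
  have hle := wspace_le_of_le hZR hu.2 huR hu0
  set W₂ := W ⊓ LinAct.wspace ρ R lam with hW₂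
  have hW₂0 : W₂ ≠ ⊥ := (Submodule.ne_bot_iff _).2 ⟨u, ⟨hu.1, huR⟩, hu0⟩
  set E := ⁅Q, zpowers σ⁆ with hE
  have hEQ : E ≤ Q := commutator_le_Q h.sigma_Q
  have hσE : σ ∈ normalizer (E : Set H) :=
    Coprime.le_normalizer_commutator_right (zpowers σ) Q (mem_zpowers σ)
  have hQW₂ : ∀ x ∈ Q, ∀ w ∈ W₂, ρ x w ∈ W₂ := fun x hx w hw =>
    ⟨hWQ x hx w hw.1, fun a ha => by
      rw [← h.rad_comm (hle hw.2) (x := a) ha hx, hw.2 a ha, map_smul]⟩
  have hσW₂ : ∀ w ∈ W₂, ρ σ w ∈ W₂ := fun w hw => ⟨hWσ w hw.1, fun a ha => by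
    rw [LinAct.map_mem_wspace ρ hlam.1 hw.2 a ha]
    exact congrArg (· • ρ σ w) (hlam.2 a ha)⟩
  have hlamZ : ∀ z ∈ Z, lam z = χ z := fun z hz =>
    weight_eq (fun z hz => huR z (hZR hz) : u ∈ LinAct.wspace ρ Z lam) hu.2 hu0 hz
  have hRE : R.relIndex E ≠ 1 := by
    rw [Ne, Subgroup.relIndex_eq_one]
    intro hER
    apply hu0
    refine hS u hu.1 fun x hx => ?_
    rw [huR x (hER hx)]
    let S : Subgroup H :=
      { carrier := {x | x ∈ R ∧ lam x = 1}
        one_mem' := ⟨one_mem _, LinAct.weight_one ρ huR hu0⟩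
        mul_mem' := fun {a b} ha hb => ⟨mul_mem ha.1 hb.1, by
          rw [LinAct.weight_mul ρ huR hu0 ha.1 hb.1, ha.2, hb.2, one_mul]⟩
        inv_mem' := fun {a} ha => ⟨inv_mem ha.1, by
          have := LinAct.weight_mul ρ huR hu0 (inv_mem ha.1) ha.1
          rw [inv_mul_cancel, LinAct.weight_one ρ huR hu0, ha.2, mul_one] at this
          exact this.symm⟩ }
    have hES : ⁅E, zpowers σ⁆ ≤ S := commutator_le.2 fun e he k hk => by
      have hkl := (zpowers_le (H := LinAct.wstab R lam)).2 hlam hk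
      have e1 : ⁅e, k⁆ = e * (k * e⁻¹ * k⁻¹) := by simp [commutatorElement_def, mul_assoc]
      have h2 : k * e⁻¹ * k⁻¹ ∈ R := Coprime.conj_mem_of_mem_normalizer hkl.1 (inv_mem (hER he))
      refine ⟨e1 ▸ mul_mem (hER he) h2, ?_⟩
      rw [e1, LinAct.weight_mul ρ huR hu0 (hER he) h2, wstab_conj hkl (inv_mem (hER he)),
        ← LinAct.weight_mul ρ huR hu0 (hER he) (inv_mem (hER he)), mul_inv_cancel,
        LinAct.weight_one ρ huR hu0]
    rw [hE, ← Coprime.commutator_commutator_eq (zpowers σ) Q (zpowers_le.2 h.sigma_Q)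
      (coprime_zpowers h.pgroup h.prime h.coprime le_rfl) (Or.inl inferInstance)] at hx
    rw [(hES hx).2, one_smul]
  have hnd : ∀ x ∈ E, x ∉ R ⊓ E → ∃ u ∈ E, lam ⁅u, x⁆ ≠ 1 :=
    (fun x hx hxR => by
      have hxR' : x ∉ R := fun h' => hxR ⟨h', hx⟩
      rw [hR, h.mem_radS, not_and] at hxR'
      obtain ⟨t, ht, hne⟩ : ∃ t ∈ Q, χ ⁅t, x⁆ ≠ 1 := by simpa using hxR' (hEQ hx)
      obtain ⟨a, ha, c, hc, hcσ, rfl⟩ := split h.pgroup h.prime h.coprime h.sigma_Q ht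
      refine ⟨a, ha, fun h1 => hne ?_⟩
      rw [hlamZ _ (h.comm a (hEQ ha) x (hEQ hx))] at h1
      rw [h.beta_left hv hv0 (hEQ hx) (hEQ ha) hc, h1,
        h.orth hv hv0 h.sigma_Q hχ hc hcσ hx, one_mul])
  have hfree₂ : ∀ x ∈ E, σ ∈ modFix (R ⊓ E) x → x ∈ R ⊓ E := fun x hx hm =>
    ⟨h.free_rad hv hv0 h.coprime h.sigma_Q hχ hx hm.2.1, hx⟩
  have hscal : ∀ z ∈ R ⊓ E, ∀ w ∈ W₂, ρ z w = lam z • w := fun z hz w hw => hw.2 z hz.1
  have hcommE : ∀ a ∈ E, ∀ b ∈ E, ⁅a, b⁆ ∈ R ⊓ E := fun a ha b hb =>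
    mem_inf.2 ⟨hZR (h.comm a (hEQ ha) b (hEQ hb)),
      mul_mem (mul_mem (mul_mem ha hb) (inv_mem ha)) (inv_mem hb)⟩
  have hex := hK.no_fixed h.r_prime h.sigma_pow h.r_ne_zero (h.pgroup.to_le hEQ) h.prime h.q_ne_r
    h.ne_zero inf_le_right (fun hle => hRE (relIndex_eq_one.2 (hle.trans inf_le_left)))
    (fun x hx => hQW₂ x (hEQ hx)) hσW₂ hscal hcommE hnd hσE
    (Coprime.le_normalizer_inf (A := zpowers σ) (zpowers_le.2 hσR) (zpowers_le.2 hσE)
      (mem_zpowers σ)) hfree₂ fun w hw hf => hWfix w hw.1 hf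
  obtain ⟨hidx, hN, -⟩ := hh_wrap ρ W₂ hW₂0 E (R ⊓ E) inf_le_right lam
    (fun x hx => hQW₂ x (hEQ hx)) hscal hcommE hnd
    σ (fun x hx => Coprime.conj_mem_of_mem_normalizer hσE hx)
    (fun x hx => ⟨Coprime.conj_mem_of_mem_normalizer hσR hx.1,
      Coprime.conj_mem_of_mem_normalizer hσE hx.2⟩)
    hσW₂ h.r_ne_zero (pow_card_ne_zero h.ne_zero (h.pgroup.to_le hEQ) h.prime)
    (fun w _ => by rw [h.sigma_pow, rho_one])
    (fun x hx i hi hir hm => ⟨h.free_rad hv hv0 h.coprime h.sigma_Q hχ hx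
      (pow_mem_iff_of_prime h.r_prime h.sigma_pow
        (fun hd => absurd (Nat.eq_zero_of_dvd_of_lt hd hir) hi.ne')
        (S := modFix R x) ⟨pow_mem hσR i, hm.1⟩).2, hx⟩)
    (c₀ := 1) (one_pow r) (fun w hw hf => hex w hw (by rwa [one_smul] at hf))
    (by rwa [Subgroup.inf_relIndex_right])
  rw [Subgroup.inf_relIndex_right] at hidx
  obtain ⟨m', hm'⟩ : ∃ n, R.relIndex E = q ^ n := by
    have := Fact.mk h.prime
    obtain ⟨n, hn⟩ := IsPGroup.iff_card.1 (h.pgroup.to_le hEQ)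
    obtain ⟨k, -, hk⟩ := (Nat.dvd_prime_pow h.prime).1 (hn ▸ Subgroup.relIndex_dvd_card R E)
    exact ⟨k, hk⟩
  have hrodd : Odd r := h.r_prime.odd_of_ne_two (by omega)
  have h2 : 2 ∣ r - 1 := by
    obtain ⟨k, hk⟩ := hrodd
    exact ⟨k, by omega⟩
  have hq2 : q = 2 := by
    have hd : 2 ∣ q ^ m' := hm' ▸ hidx ▸ dvd_pow h2 two_ne_zero
    exact ((Nat.prime_dvd_prime_iff_eq Nat.prime_two h.prime).1
      (Nat.prime_two.dvd_of_dvd_pow hd)).symm
  subst hq2
  obtain ⟨m, -, hm⟩ := (Nat.dvd_prime_pow Nat.prime_two).1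
    (show r - 1 ∣ 2 ^ m' by rw [← hm', hidx]; exact dvd_pow_self _ two_ne_zero)
  exact ⟨rfl, hχ, ⟨m, by omega, by rw [← hm, ← hidx]⟩, W₂, inf_le_left, hW₂0, ⟨hQW₂, hσW₂⟩, hex⟩

/-- Without exception there are fixed vectors which are not killed. -/
theorem Setting.noBadN [Finite H] [IsAlgClosed K] [FiniteDimensional K U]
    (h : Setting ρ Q Z q σ r) {N : Submodule K U} (hK : Kill ρ σ N)
    (hS : ∀ w, (∀ x ∈ ⁅Q, zpowers σ⁆, ρ x w = w) → w = 0) (hnb : NoBad ρ Q σ) :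
    NoBadN ρ Q σ N := by
  intro W hW0 hinv
  by_contra hno
  push Not at hno
  obtain ⟨χ, v, hvW, hv0, hv⟩ := exists_weight ρ Z W hW0 (fun a ha => hinv.1 a (h.le ha))
    fun a ha b hb w _ => h.swap (h.le ha) hb w
  obtain ⟨-, -, -, W', -, hW'0, hinv', hex⟩ := h.bad_at (fun w _ => hS w) hK hinv
    (fun w hw hf => by by_contra hwN; exact hno w hw hwN hf) hvW hv hv0
  obtain ⟨u, hu, hu0, huσ⟩ := hnb W' hW'0 hinv'
  exact hu0 (hex u hu huσ)

end Cfsg.Agent.FGS73.Turull
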