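import Cfsg.Agent.FGS73.Turull.Sep

/-!
The representation of a level of a minimal tower.
-/

set_option autoImplicit false

universe u

namespace Cfsg.Agent.FGS73.Turull

open Subgroup
open scoped commutatorElement
open Cfsg.Agent.LinAct (rho_mul rho_one rho_inv_apply)

variable {Γ : Type u} [Group Γ]

/-- The properties of the representation of a level. -/
structure Level (t : Γ) (P : ℕ → Subgroup Γ) (p : ℕ → ℕ) (h r i : ℕ) (K : Type) [Field K]
    (U : Type u) [AddCommGroup U] [Module K U] (ρ : Hg t P h i →* Module.End K U) (e : Γ → U)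
    (σ : Hg t P h i) (N : Submodule K U) : Prop where
  sigma : (σ : Γ) = t
  setting : Setting ρ ((P i).subgroupOf (Hg t P h i)) ((towerRad P p h i).subgroupOf (Hg t P h i))
    (p i) σ r
  kill : Kill ρ σ N
  hS : ∀ w, (∀ x ∈ ⁅(P i).subgroupOf (Hg t P h i), zpowers σ⁆, ρ x w = w) → w = 0
  triv : ∀ g : Hg t P h i, ρ g = 1 ↔
    ∀ y ∈ Qs t P p h i, y⁻¹ * ((g : Γ) * y * (g : Γ)⁻¹) ∈ towerRad P p h (i + 1)
  equiv : ∀ g : Hg t P h i, ∀ y ∈ Qs t P p h i, ρ g (e y) = e ((g : Γ) * y * (g : Γ)⁻¹)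
  sub : ∀ g : Hg t P h i, ∀ y ∈ Qs t P p h i, ρ g (e y) - e y = e ⁅(g : Γ), y⁆
  zero_iff : ∀ y ∈ Qs t P p h i, (e y = 0 ↔ y ∈ towerRad P p h (i + 1))
  memN : ∀ y ∈ Qs t P p h i, t * y = y * t → InN t P p h (i + 1) y → e y ∈ N
  fixed : ∀ w, ρ σ w = w → w ∈ Submodule.span K (e '' {y | y ∈ Qs t P p h i ∧ t * y = y * t})
  crit : (∀ S : Subgroup Γ, towerRad P p h (i + 1) ≤ S → S ≤ Qs t P p h i →
      P i ≤ normalizer (S : Set Γ) → t ∈ normalizer (S : Set Γ) →
      (∀ x ∈ S, x⁻¹ * (t * x * t⁻¹) ∈ towerRad P p h (i + 1) → x ∈ towerRad P p h (i + 1)) →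
      S ≤ towerRad P p h (i + 1)) → NoBad ρ ((P i).subgroupOf (Hg t P h i)) σ

namespace MinTower

variable [Finite Γ] {G0 : Subgroup Γ} {t : Γ} {r h : ℕ} {P : ℕ → Subgroup Γ} {p : ℕ → ℕ}
  (M : MinTower G0 t r h P p)

local notation "Kk" => towerKer P h
local notation "Rr" => towerRad P p h

include M

theorem exists_level {i : ℕ} (hi : i + 1 < h) [Fact (p (i + 1)).Prime] :
    ∃ (U : Type u) (_ : AddCommGroup U) (_ : Module (AlgebraicClosure (ZMod (p (i + 1)))) U)
      (_ : FiniteDimensional (AlgebraicClosure (ZMod (p (i + 1)))) U)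
      (ρ : Hg t P h i →* Module.End (AlgebraicClosure (ZMod (p (i + 1)))) U) (e : Γ → U)
      (σ : Hg t P h i) (N : Submodule (AlgebraicClosure (ZMod (p (i + 1)))) U),
      Level t P p h r i (AlgebraicClosure (ZMod (p (i + 1)))) U ρ e σ N := by
  classical
  obtain ⟨U, _, _, _, ρ₀, e, hs, hv⟩ := exists_secRep (Qs t P p h i) (Rr (i + 1))
    (M.secHyp hi M.rad_le_Qs (M.Qs_le hi))
  set H := Hg t P h i with hH
  set ι := inclusion (M.Hg_le_secNorm hi) with hι
  set ρ := ρ₀.comp ι with hρ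
  have hset := M.setting_of hi (M.Qs_le hi) hs (M.Hg_le_secNorm hi) (M.le_Hg i) (M.t_mem_Hg i)
  set σ : H := ⟨t, M.t_mem_Hg i⟩ with hσ
  set Cset : Set Γ := {y | y ∈ Qs t P p h i ∧ t * y = y * t ∧ InN t P p h (i + 1) y} with hCset
  set N := Submodule.span (AlgebraicClosure (ZMod (p (i + 1)))) (e '' Cset) with hN
  have hequiv : ∀ g : H, ∀ y ∈ Qs t P p h i, ρ g (e y) = e ((g : Γ) * y * (g : Γ)⁻¹) :=
    fun g y hy => hv.equiv (ι g) y hy
  have hkill : Kill ρ σ N := by
    constructor
    · intro n hn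
      induction hn using Submodule.span_induction with
      | mem u hu =>
        obtain ⟨y, ⟨hy, hty, -⟩, rfl⟩ := hu
        rw [hequiv σ y hy]
        exact congrArg e (show t * y * t⁻¹ = y by rw [hty, mul_inv_cancel_right])
      | zero => simp
      | add a b _ _ ha hb => rw [map_add, ha, hb]
      | smul c a _ ha => rw [map_smul, ha]
    · intro g hg n hn
      have hgt : t * (g : Γ) = g * t := congrArg Subtype.val hg
      induction hn using Submodule.span_induction with
      | mem u hu =>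
        obtain ⟨y, ⟨hy, hty, hyN⟩, rfl⟩ := hu
        rw [hequiv g y hy]
        refine Submodule.subset_span ⟨_, ⟨Coprime.conj_mem_of_mem_normalizer
          (mem_normalizer_Qs g.2 hi) hy, ?_, M.inN_conj (Nat.le_succ i) (mem_Hg.1 g.2).1 hgt hi hyN⟩,
          rfl⟩
        exact (((show Commute t (g : Γ) from hgt).mul_right hty).mul_right
          (show Commute t (g : Γ) from hgt).inv_right).eq
      | zero => simp
      | add a b _ _ ha hb => rw [map_add]; exact N.add_mem ha hb
      | smul c a _ ha => rw [map_smul]; exact N.smul_mem c ha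
    · intro w hw
      by_cases hlast : i + 1 + 1 < h
      swap
      · have hbot : N = ⊥ := by
          rw [hN, Submodule.span_eq_bot]
          rintro _ ⟨y, ⟨hy, -, hyN⟩, rfl⟩
          rw [InN, if_neg hlast] at hyN
          exact (hv.zero_iff y hy).2 hyN
        have := (kill_bot (ρ := ρ) (σ := σ)).sep w hw
        rwa [← hbot] at this
      let Pω : (Γ → ZMod (p (i + 1))) → Prop := fun ω => ∀ g : H,
        (∀ y ∈ Qs t P p h i, ω ((g : Γ) * (t * y * t⁻¹) * (g : Γ)⁻¹) =
          ω ((g : Γ) * y * (g : Γ)⁻¹)) ∨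
        ∀ y ∈ Cset, ω ((g : Γ) * y * (g : Γ)⁻¹) = 0
      obtain ⟨ω, φ, hω, hφ, hφw⟩ := hv.sep Pω (fun x hx hxR => by
        obtain ⟨ω, hadd, hzero, hne, hd⟩ := M.exists_sep hlast (M.Qs_le hi hx) hxR
        refine ⟨ω, fun g => ?_, fun y hy z hz => hadd y (M.Qs_le hi hy) z (M.Qs_le hi hz), hzero,
          hne⟩
        rcases hd (g : Γ) (Nrm_mono (Nat.le_succ i) (mem_Hg.1 g.2).1) with h1 | h1
        · exact Or.inl fun y hy => h1 y (M.Qs_le hi hy)
        · exact Or.inr fun y hy => h1 y (M.Qs_le hi hy.1) hy.2.2) w hw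
      refine ⟨φ, hφw, fun g => ?_⟩
      have hgQ := mem_normalizer_Qs (p := p) g.2 hi
      have htQ := mem_normalizer_Qs (p := p) (M.t_mem_Hg i) hi
      rcases hω g with h1 | h1
      · refine Or.inl fun v => ?_
        have hv' : v ∈ Submodule.span (AlgebraicClosure (ZMod (p (i + 1))))
            (e '' (Qs t P p h i : Set Γ)) := hv.span.symm ▸ Submodule.mem_top
        induction hv' using Submodule.span_induction with
        | mem u hu =>
          obtain ⟨y, hy, rfl⟩ := hu
          have hty : t * y * t⁻¹ ∈ Qs t P p h i := Coprime.conj_mem_of_mem_normalizer htQ hy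
          rw [hequiv σ y hy, hequiv g _ hty, hequiv g y hy,
            hφ _ (Coprime.conj_mem_of_mem_normalizer hgQ hty),
            hφ _ (Coprime.conj_mem_of_mem_normalizer hgQ hy), h1 y hy]
        | zero => simp
        | add a b _ _ ha hb => simp only [map_add, ha, hb]
        | smul c a _ ha => simp only [map_smul, ha]
      · refine Or.inr fun n hn => ?_
        induction hn using Submodule.span_induction with
        | mem u hu =>
          obtain ⟨y, hy, rfl⟩ := hu
          rw [hequiv g y hy.1, hφ _ (Coprime.conj_mem_of_mem_normalizer hgQ hy.1), h1 y hy,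
            ZMod.val_zero, Nat.cast_zero]
        | zero => simp
        | add a b _ _ ha hb => simp only [map_add, ha, hb, add_zero]
        | smul c a _ ha => simp only [map_smul, ha, smul_zero]
  refine ⟨U, inferInstance, inferInstance, inferInstance, ρ, e, σ, N, rfl, hset, hkill, ?_,
    fun g => hs.triv (ι g), hequiv, fun g y hy => hv.sub_eq (ι g) hy, hv.zero_iff,
    fun y hy hty hyN => Submodule.subset_span ⟨y, ⟨hy, hty, hyN⟩, rfl⟩, ?_, ?_⟩
  · intro w hw
    set A := (moved t P i).subgroupOf (secNorm (Qs t P p h i) (Rr (i + 1))) with hA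
    cases nonempty_fintype A
    have hSH : moved t P i ≤ H := (M.moved_le (by omega)).trans (M.le_Hg i)
    have hSN : moved t P i ≤ secNorm (Qs t P p h i) (Rr (i + 1)) := hSH.trans (M.Hg_le_secNorm hi)
    have hAmap : A.map (secNorm (Qs t P p h i) (Rr (i + 1))).subtype = moved t P i := map_subgroupOf_eq_of_le hSN
    refine hv.eq_zero_of_fixed A (T := Qs t P p h i) (by rw [hAmap]; exact M.Qs_le_commutator hi)
      M.rad_le_Qs (pow_card_ne_zero (M.cast_ne_zero (by omega) hi (M.p_ne i hi))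
        (((M.pgroup i (by omega)).to_le (M.moved_le (by omega))).of_equiv
          (subgroupOfEquivOfLe hSN).symm) (M.prime i (by omega)))
      (hv.span.symm ▸ Submodule.mem_top) fun a ha => ?_
    have haH : (a : Γ) ∈ H := hSH ha
    have hmap : (⁅(P i).subgroupOf H, zpowers σ⁆).map H.subtype = moved t P i := by
      rw [Subgroup.map_commutator, map_subgroupOf_eq_of_le (M.le_Hg i), MonoidHom.map_zpowers]
      rfl
    obtain ⟨b, hb, hba⟩ := hmap.ge ha
    obtain rfl : b = ⟨(a : Γ), haH⟩ := Subtype.ext hba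
    exact hw _ hb
  · intro w hw
    have hspan : w ∈ Submodule.span (AlgebraicClosure (ZMod (p (i + 1))))
        (e '' (Qs t P p h i : Set Γ)) := hv.span.symm ▸ Submodule.mem_top
    have h1 := hv.fixed_mem_span (T := Qs t P p h i) le_rfl (ι σ)
      (mem_normalizer_Qs (M.t_mem_Hg i) hi) (r := r)
      (by rw [← map_pow, Subtype.ext (M.t_pow) (a1 := σ ^ r) (a2 := 1), map_one])
      (M.cast_r_ne_zero hi) hspan hw
    refine Submodule.span_le.2 ?_ h1
    rintro _ ⟨y, ⟨hy, hfix⟩, rfl⟩
    obtain ⟨n, hn, hc⟩ := M.exists_commute_mul hi (M.rad_le _)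
      (mem_normalizer_towerRad hi (M.t_norm_all _)) (x := y) hfix
    refine Submodule.subset_span ⟨y * n, ⟨mul_mem hy (M.rad_le_Qs hn), hc⟩, ?_⟩
    exact ((hv.e_eq_iff hy (mul_mem hy (M.rad_le_Qs hn))).2 (by simpa using hn)).symm
  · intro hcrit
    have h1 := hs.noBad (((P i).subgroupOf H).map ι) (ι σ) r (M.cast_r_ne_zero hi)
      (by rw [← map_pow, Subtype.ext (M.t_pow) (a1 := σ ^ r) (a2 := 1), map_one])
      fun S hRS hSQ hn hfix => hcrit S hRS hSQ (fun a ha =>
        hn (ι ⟨a, M.le_Hg i ha⟩) (mem_sup_left ⟨_, ha, rfl⟩))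
        (hn (ι σ) (mem_sup_right (mem_zpowers _))) hfix
    intro W hW0 hinv
    exact h1 W hW0 ⟨fun x hx => by obtain ⟨a, ha, rfl⟩ := hx; exact hinv.1 a ha, hinv.2⟩

end MinTower

end Cfsg.Agent.FGS73.Turull
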