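import Cfsg.Agent.FGS73.Turull.Section
import Cfsg.Agent.FGS73.Turull.Kernel
import Mathlib.RingTheory.RootsOfUnity.AlgebraicallyClosed

/-!
Averages on the vectors of a section, and logarithms of characters.
-/

set_option autoImplicit false

universe u

namespace Cfsg.Agent.FGS73.Turull

open Subgroup
open scoped commutatorElement
open Cfsg.Agent.LinAct (rho_mul rho_one rho_inv_apply)

variable {Γ : Type u} [Group Γ] {Q R : Subgroup Γ} {p : ℕ} {K : Type} [Field K] {U : Type u}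
  [AddCommGroup U] [Module K U] {ρ : secNorm Q R →* Module.End K U} {e : Γ → U}

theorem SecVec.e_one (hv : SecVec Q R p K U ρ e) : e 1 = 0 :=
  (hv.zero_iff 1 (one_mem _)).2 (one_mem _)

theorem SecVec.e_inv (hv : SecVec Q R p K U ρ e) {x : Γ} (hx : x ∈ Q) : e x⁻¹ = - e x := by
  rw [eq_neg_iff_add_eq_zero, ← hv.add _ (inv_mem hx) _ hx, inv_mul_cancel, hv.e_one]

theorem SecVec.e_eq_iff (hv : SecVec Q R p K U ρ e) {x y : Γ} (hx : x ∈ Q) (hy : y ∈ Q) :
    e x = e y ↔ x⁻¹ * y ∈ R := by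
  rw [← hv.zero_iff _ (mul_mem (inv_mem hx) hy), hv.add _ (inv_mem hx) _ hy, hv.e_inv hx,
    neg_add_eq_sub, sub_eq_zero, eq_comm]

theorem SecVec.sub_eq (hv : SecVec Q R p K U ρ e) (g : secNorm Q R) {y : Γ} (hy : y ∈ Q) :
    ρ g (e y) - e y = e ⁅(g : Γ), y⁆ := by
  have hgy : (g : Γ) * y * (g : Γ)⁻¹ ∈ Q := Coprime.conj_mem_of_mem_normalizer g.2.1 hy
  rw [hv.equiv g y hy, commutatorElement_def, hv.add _ hgy _ (inv_mem hy), hv.e_inv hy,
    sub_eq_add_neg]

/-- The fixed vectors of an element of order prime to `p` come from elements fixed modulo `R`. -/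
theorem SecVec.fixed_mem_span (hv : SecVec Q R p K U ρ e) {T : Subgroup Γ} (hT : T ≤ Q)
    (σ : secNorm Q R) (hσT : (σ : Γ) ∈ normalizer (T : Set Γ)) {r : ℕ} (hσr : σ ^ r = 1)
    (hr : (r : K) ≠ 0) {w : U} (hw : w ∈ Submodule.span K (e '' (T : Set Γ))) (hf : ρ σ w = w) :
    w ∈ Submodule.span K
      (e '' {y | y ∈ T ∧ y⁻¹ * ((σ : Γ) * y * (σ : Γ)⁻¹) ∈ R}) := by
  have hpow : ∀ (n : ℕ) (x : Γ), x ∈ T →
      ∃ y ∈ T, ∑ i ∈ Finset.range n, ρ (σ ^ i) (e x) = e y := by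
    intro n
    induction n with
    | zero => exact fun x _ => ⟨1, one_mem _, by simp [hv.e_one]⟩
    | succ n ih =>
      intro x hx
      obtain ⟨y, hy, hsum⟩ := ih x hx
      have hx' : ((σ ^ n : secNorm Q R) : Γ) * x * ((σ ^ n : secNorm Q R) : Γ)⁻¹ ∈ T := by
        refine Coprime.conj_mem_of_mem_normalizer ?_ hx
        rw [SubgroupClass.coe_pow]
        exact pow_mem hσT n
      refine ⟨_, mul_mem hy hx', ?_⟩
      rw [Finset.sum_range_succ, hsum, hv.add _ (hT hy) _ (hT hx'), hv.equiv _ _ (hT hx)]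
  have key : ∀ u ∈ Submodule.span K (e '' (T : Set Γ)),
      ∑ i ∈ Finset.range r, ρ (σ ^ i) u ∈ Submodule.span K
        (e '' {y | y ∈ T ∧ y⁻¹ * ((σ : Γ) * y * (σ : Γ)⁻¹) ∈ R}) := by
    intro u hu
    induction hu using Submodule.span_induction with
    | mem u hu =>
      obtain ⟨x, hx, rfl⟩ := hu
      obtain ⟨y, hy, hsum⟩ := hpow r x hx
      have hfix := LinAct.sum_pow_fixed ρ hσr (e x)
      rw [hsum, hv.equiv σ y (hT hy), hv.e_eq_iff
        (Coprime.conj_mem_of_mem_normalizer σ.2.1 (hT hy)) (hT hy)] at hfix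
      rw [hsum]
      refine Submodule.subset_span ⟨y, ⟨hy, ?_⟩, rfl⟩
      have := inv_mem hfix
      simpa using this
    | zero => simp
    | add a b _ _ ha hb =>
      simp only [map_add, Finset.sum_add_distrib]
      exact Submodule.add_mem _ ha hb
    | smul c a _ ha =>
      simp only [map_smul, ← Finset.smul_sum]
      exact Submodule.smul_mem _ c ha
  have hfi : ∀ i : ℕ, ρ (σ ^ i) w = w := by
    intro i
    induction i with
    | zero => simp
    | succ i ih => rw [pow_succ', rho_mul, ih, hf]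
  have := key w hw
  simp only [hfi, Finset.sum_const, Finset.card_range, ← Nat.cast_smul_eq_nsmul K] at this
  exact (Submodule.smul_mem_iff _ hr).1 this

/-- Sums over `A` kill the commutators with `A`. -/
theorem SecVec.sum_eq_zero (hv : SecVec Q R p K U ρ e) (A : Subgroup (secNorm Q R)) [Fintype A]
    {T : Subgroup Γ} (hT : T ≤ ⁅Q, A.map (secNorm Q R).subtype⁆ ⊔ R) (hRQ : R ≤ Q) {w : U}
    (hw : w ∈ Submodule.span K (e '' (T : Set Γ))) : ∑ a : A, ρ (a : secNorm Q R) w = 0 := by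
  let S : Subgroup Γ :=
    { carrier := {x | x ∈ Q ∧ ∑ a : A, ρ (a : secNorm Q R) (e x) = 0}
      one_mem' := ⟨one_mem _, by simp [hv.e_one]⟩
      mul_mem' := fun {x y} hx hy => ⟨mul_mem hx.1 hy.1, by
        simp only [hv.add x hx.1 y hy.1, map_add, Finset.sum_add_distrib, hx.2, hy.2, add_zero]⟩
      inv_mem' := fun {x} hx => ⟨inv_mem hx.1, by
        simp only [hv.e_inv hx.1, map_neg, Finset.sum_neg_distrib, hx.2, neg_zero]⟩ }
  have hle : ⁅Q, A.map (secNorm Q R).subtype⁆ ⊔ R ≤ S := by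
    refine sup_le (commutator_le.2 fun q hq b hb => ?_) fun x hx => ⟨hRQ hx, by
      simp [(hv.zero_iff x (hRQ hx)).2 hx]⟩
    obtain ⟨a, ha, rfl⟩ := hb
    have h1 : (a : Γ) * q⁻¹ * (a : Γ)⁻¹ ∈ Q :=
      Coprime.conj_mem_of_mem_normalizer a.2.1 (inv_mem hq)
    have e1 : ⁅q, (a : Γ)⁆ = q * ((a : Γ) * q⁻¹ * (a : Γ)⁻¹) := by
      simp [commutatorElement_def, mul_assoc]
    show ⁅q, (a : Γ)⁆ ∈ S
    refine ⟨e1 ▸ mul_mem hq h1, ?_⟩
    rw [e1, hv.add _ hq _ h1, ← hv.equiv a _ (inv_mem hq), hv.e_inv hq]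
    simp only [map_add, map_neg, Finset.sum_add_distrib, Finset.sum_neg_distrib, ← rho_mul]
    rw [add_neg_eq_zero]
    exact (Fintype.sum_equiv (Equiv.mulRight ⟨a, ha⟩)
      (fun x : A => ρ ((x : secNorm Q R) * a) (e q)) (fun x : A => ρ (x : secNorm Q R) (e q))
      fun x => rfl).symm
  induction hw using Submodule.span_induction with
  | mem u hu =>
    obtain ⟨x, hx, rfl⟩ := hu
    exact (hle (hT hx)).2
  | zero => simp
  | add a b _ _ ha hb => simp only [map_add, Finset.sum_add_distrib, ha, hb, add_zero]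
  | smul c a _ ha => simp only [map_smul, ← Finset.smul_sum, ha, smul_zero]

/-- Fixed vectors in the span of commutators vanish. -/
theorem SecVec.eq_zero_of_fixed (hv : SecVec Q R p K U ρ e) (A : Subgroup (secNorm Q R))
    [Fintype A] {T : Subgroup Γ} (hT : T ≤ ⁅Q, A.map (secNorm Q R).subtype⁆ ⊔ R) (hRQ : R ≤ Q)
    (hA : (Nat.card A : K) ≠ 0) {w : U} (hw : w ∈ Submodule.span K (e '' (T : Set Γ)))
    (hfix : ∀ a ∈ A, ρ a w = w) : w = 0 := by
  have h0 := hv.sum_eq_zero A hT hRQ hw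
  rw [Finset.sum_congr rfl (fun (a : A) _ => hfix a a.2), Finset.sum_const, Finset.card_univ,
    ← Nat.card_eq_fintype_card, ← Nat.cast_smul_eq_nsmul K] at h0
  exact (smul_eq_zero.1 h0).resolve_left hA

/-- A vector and its average differ by commutators. -/
theorem SecVec.sub_sum_mem (hv : SecVec Q R p K U ρ e) (A : Subgroup (secNorm Q R)) [Fintype A]
    (w : U) : (Nat.card A : K) • w - ∑ a : A, ρ (a : secNorm Q R) w ∈
      Submodule.span K (e '' (⁅Q, A.map (secNorm Q R).subtype⁆ : Subgroup Γ)) := by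
  set V := Submodule.span K (e '' (⁅Q, A.map (secNorm Q R).subtype⁆ : Subgroup Γ)) with hV
  have h1 : ∀ a : A, ∀ u : U, u - ρ (a : secNorm Q R) u ∈ V := by
    intro a u
    have hu : u ∈ Submodule.span K (e '' (Q : Set Γ)) := hv.span.symm ▸ Submodule.mem_top
    induction hu using Submodule.span_induction with
    | mem u hu =>
      obtain ⟨y, hy, rfl⟩ := hu
      have h2 : ρ (a : secNorm Q R) (e y) - e y ∈ V := by
        rw [hv.sub_eq _ hy]
        refine Submodule.subset_span ⟨_, ?_, rfl⟩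
        rw [SetLike.mem_coe, Subgroup.commutator_comm]
        exact commutator_mem_commutator ⟨(a : secNorm Q R), a.2, rfl⟩ hy
      simpa using V.neg_mem h2
    | zero => simp
    | add x y _ _ hx hy => rw [map_add, add_sub_add_comm]; exact V.add_mem hx hy
    | smul c x _ hx => rw [map_smul, ← smul_sub]; exact V.smul_mem c hx
  have h2 : (Nat.card A : K) • w - ∑ a : A, ρ (a : secNorm Q R) w =
      ∑ a : A, (w - ρ (a : secNorm Q R) w) := by
    rw [Finset.sum_sub_distrib, Finset.sum_const, Finset.card_univ, ← Nat.card_eq_fintype_card,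
      ← Nat.cast_smul_eq_nsmul K]
  rw [h2]
  exact Submodule.sum_mem _ fun a _ => h1 a w

/-- The logarithm of a character of exponent `p`. -/
theorem exists_log {Γ : Type*} [Group Γ] (Q : Subgroup Γ) {K : Type*} [Field K] [IsAlgClosed K]
    {p : ℕ} [Fact p.Prime] (hp : (p : K) ≠ 0) (f : Γ → K)
    (hmul : ∀ x ∈ Q, ∀ y ∈ Q, f (x * y) = f x * f y) (hpow : ∀ x ∈ Q, f x ^ p = 1) :
    ∃ ω : Γ → ZMod p, (∀ x ∈ Q, ∀ y ∈ Q, ω (x * y) = ω x + ω y) ∧
      (∀ x ∈ Q, ∀ y ∈ Q, (ω x = ω y ↔ f x = f y)) ∧ ∀ x ∈ Q, (ω x = 0 ↔ f x = 1) := by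
  classical
  haveI : NeZero (p : K) := ⟨hp⟩
  haveI : NeZero p := ⟨(Fact.out : p.Prime).ne_zero⟩
  obtain ⟨ζ, hζ⟩ := HasEnoughRootsOfUnity.exists_primitiveRoot K p
  have hval : ∀ x ∈ Q, ∃ c : ZMod p, ζ ^ c.val = f x := fun x hx => by
    obtain ⟨i, hi, hix⟩ := hζ.eq_pow_of_pow_eq_one (hpow x hx)
    exact ⟨(i : ZMod p), by rw [ZMod.val_natCast, Nat.mod_eq_of_lt hi]; exact hix⟩
  have hinj : ∀ a b : ZMod p, ζ ^ a.val = ζ ^ b.val → a = b := fun a b hab =>
    ZMod.val_injective p (hζ.pow_inj a.val_lt b.val_lt hab)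
  choose g hg using hval
  refine ⟨fun x => if hx : x ∈ Q then g x hx else 0, fun x hx y hy => ?_, fun x hx y hy => ?_,
    fun x hx => ?_⟩
  · simp only [dif_pos hx, dif_pos hy, dif_pos (mul_mem hx hy)]
    apply hinj
    rw [hg, hmul x hx y hy, ZMod.val_add, ← hg x hx, ← hg y hy, ← pow_add]
    conv_lhs => rw [← Nat.mod_add_div ((g x hx).val + (g y hy).val) p, pow_add, pow_mul,
      hζ.pow_eq_one, one_pow, mul_one]
  · simp only [dif_pos hx, dif_pos hy]
    exact ⟨fun h => by rw [← hg x hx, ← hg y hy, h], fun h => hinj _ _ (by rw [hg, hg, h])⟩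
  · simp only [dif_pos hx]
    exact ⟨fun h => by rw [← hg x hx, h, ZMod.val_zero, pow_zero],
      fun h => hinj _ _ (by rw [hg, h, ZMod.val_zero, pow_zero])⟩

end Cfsg.Agent.FGS73.Turull
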