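import Cfsg.Agent.FGS73.Turull.First
import Cfsg.Agent.FGS73.Turull.SectionTools
import Cfsg.Agent.FGS73.Turull.Exceptional

/-!
The groups and subsets attached to the levels of a minimal tower.
-/

set_option autoImplicit false

universe u

namespace Cfsg.Agent.FGS73.Turull

open Subgroup
open scoped commutatorElement

variable {Γ : Type u} [Group Γ]

/-- The part of a term moved by `t`. -/
def moved (t : Γ) (P : ℕ → Subgroup Γ) (i : ℕ) : Subgroup Γ := ⁅P i, zpowers t⁆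

/-- The part of the next section moved by `moved`. -/
def Qs (t : Γ) (P : ℕ → Subgroup Γ) (p : ℕ → ℕ) (h i : ℕ) : Subgroup Γ :=
  ⁅P (i + 1), moved t P i⁆ ⊔ towerRad P p h (i + 1)

/-- Membership in the killed subset of a level. -/
def InN (t : Γ) (P : ℕ → Subgroup Γ) (p : ℕ → ℕ) (h i : ℕ) (x : Γ) : Prop :=
  if i + 1 < h then ∀ y ∈ Qs t P p h i, y⁻¹ * (x * y * x⁻¹) ∈ towerRad P p h (i + 1)
  else x ∈ towerRad P p h i

/-- The elements normalising all terms from `i` on. -/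
def Nrm (P : ℕ → Subgroup Γ) (h i : ℕ) : Subgroup Γ :=
  ⨅ j ∈ Set.Ico i h, normalizer (P j : Set Γ)

/-- The group of a level. -/
def Hg (t : Γ) (P : ℕ → Subgroup Γ) (h i : ℕ) : Subgroup Γ :=
  Nrm P h i ⊓ normalizer (SetLike.coe (moved t P i))

theorem mem_Nrm {P : ℕ → Subgroup Γ} {h i : ℕ} {g : Γ} :
    g ∈ Nrm P h i ↔ ∀ j, i ≤ j → j < h → g ∈ normalizer (P j : Set Γ) := by
  simp only [Nrm, mem_iInf, Set.mem_Ico, and_imp]

theorem Nrm_mono {P : ℕ → Subgroup Γ} {h i j : ℕ} (hij : i ≤ j) : Nrm P h i ≤ Nrm P h j :=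
  fun _ hg => mem_Nrm.2 fun l hl hlh => mem_Nrm.1 hg l (hij.trans hl) hlh

theorem mem_Hg {t : Γ} {P : ℕ → Subgroup Γ} {h i : ℕ} {g : Γ} :
    g ∈ Hg t P h i ↔ g ∈ Nrm P h i ∧ g ∈ normalizer (SetLike.coe (moved t P i)) := mem_inf

theorem mem_normalizer_moved {t : Γ} {P : ℕ → Subgroup Γ} {h i j : ℕ} {g : Γ}
    (hg : g ∈ Nrm P h i) (hgt : t * g = g * t) (hij : i ≤ j) (hj : j < h) :
    g ∈ normalizer (SetLike.coe (moved t P j)) :=
  mem_normalizer_commutator (mem_Nrm.1 hg j hij hj) (mem_normalizer_zpowers hgt)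

theorem mem_normalizer_rad' {P : ℕ → Subgroup Γ} {p : ℕ → ℕ} {h i j : ℕ} {g : Γ}
    (hg : g ∈ Nrm P h i) (hij : i ≤ j) (hj : j < h) :
    g ∈ normalizer (SetLike.coe (towerRad P p h j)) :=
  mem_normalizer_towerRad hj fun l hl hlh => mem_Nrm.1 hg l (hij.trans hl) hlh

theorem mem_normalizer_Qs {t : Γ} {P : ℕ → Subgroup Γ} {p : ℕ → ℕ} {h i : ℕ} {g : Γ}
    (hg : g ∈ Hg t P h i) (hi : i + 1 < h) : g ∈ normalizer (SetLike.coe (Qs t P p h i)) :=
  Coprime.le_normalizer_sup (A := zpowers g)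
    (zpowers_le.2 (mem_normalizer_commutator (mem_Nrm.1 (mem_Hg.1 hg).1 _ (Nat.le_succ i) hi)
      (mem_Hg.1 hg).2))
    (zpowers_le.2 (mem_normalizer_rad' (mem_Hg.1 hg).1 (Nat.le_succ i) hi)) (mem_zpowers g)

namespace MinTower

variable [Finite Γ] {G0 : Subgroup Γ} {t : Γ} {r h : ℕ} {P : ℕ → Subgroup Γ} {p : ℕ → ℕ}
  (M : MinTower G0 t r h P p)

local notation "Kk" => towerKer P h
local notation "Rr" => towerRad P p h

include M

theorem moved_le {i : ℕ} (hi : i < h) : moved t P i ≤ P i :=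
  Coprime.commutator_le_of_le_normalizer (zpowers_le.2 (M.t_norm i hi))

theorem le_Nrm {l i : ℕ} (hli : l ≤ i) : P l ≤ Nrm P h i :=
  fun _ hg => mem_Nrm.2 (M.norm_of_le hli hg)

theorem t_mem_Hg (i : ℕ) : t ∈ Hg t P h i :=
  mem_Hg.2 ⟨mem_Nrm.2 (M.t_norm_all i),
    Coprime.le_normalizer_commutator_right _ _ (mem_zpowers t)⟩

theorem le_Hg (i : ℕ) : P i ≤ Hg t P h i :=
  fun _ hg => mem_Hg.2 ⟨M.le_Nrm le_rfl hg, Coprime.le_normalizer_commutator_left _ _ hg⟩

theorem mem_Hg_of_commute {l i : ℕ} (hli : l ≤ i) (hi : i < h) {g : Γ} (hg : g ∈ P l)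
    (hgt : t * g = g * t) : g ∈ Hg t P h i :=
  mem_Hg.2 ⟨M.le_Nrm hli hg, mem_normalizer_moved (M.le_Nrm hli hg) hgt le_rfl hi⟩

theorem Qs_le {i : ℕ} (hi : i + 1 < h) : Qs t P p h i ≤ P (i + 1) :=
  sup_le (Coprime.commutator_le_of_le_normalizer
    ((M.moved_le (by omega)).trans (M.norm _ hi i (Nat.le_succ i)))) (M.rad_le _)

theorem rad_le_Qs {i : ℕ} : Rr (i + 1) ≤ Qs t P p h i := le_sup_right

theorem Qs_le_commutator {i : ℕ} (hi : i + 1 < h) :
    Qs t P p h i ≤ ⁅Qs t P p h i, moved t P i⁆ ⊔ Rr (i + 1) := by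
  refine sup_le (le_trans ?_ le_sup_left) le_sup_right
  have hA : moved t P i ≤ normalizer (P (i + 1) : Set Γ) :=
    (M.moved_le (by omega)).trans (M.norm _ hi i (Nat.le_succ i))
  haveI := ((M.pgroup i (by omega)).to_le (M.moved_le (i := i) (by omega))).isNilpotent
    (hp := ⟨M.prime i (by omega)⟩)
  conv_lhs => rw [← Coprime.commutator_commutator_eq (moved t P i) (P (i + 1)) hA
    (M.coprime (by omega) hi (M.p_ne i hi) (M.moved_le (by omega)) le_rfl) (Or.inl inferInstance)]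
  exact commutator_mono le_sup_left le_rfl

theorem secHyp {i : ℕ} (hi : i < h) {T : Subgroup Γ} (hRT : Rr i ≤ T) (hT : T ≤ P i) :
    SecHyp T (Rr i) (p i) where
  prime := M.prime i hi
  le := hRT
  norm := hT.trans (M.le_normalizer_rad le_rfl hi)
  comm x hx y hy := mem_sup_right (comm_mem_phi (hT hx) (hT hy))
  exp x hx := mem_sup_right (pow_mem_phi (hT hx))

theorem cast_ne_zero {i j : ℕ} (hi : i < h) (hj : j < h) (hne : p i ≠ p j) [Fact (p j).Prime] :
    (p i : AlgebraicClosure (ZMod (p j))) ≠ 0 := by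
  rw [Ne, CharP.cast_eq_zero_iff (AlgebraicClosure (ZMod (p j))) (p j)]
  exact fun hd => hne ((Nat.prime_dvd_prime_iff_eq (M.prime j hj) (M.prime i hi)).1 hd).symm

theorem cast_r_ne_zero {j : ℕ} (hj : j < h) [Fact (p j).Prime] :
    (r : AlgebraicClosure (ZMod (p j))) ≠ 0 := by
  rw [Ne, CharP.cast_eq_zero_iff (AlgebraicClosure (ZMod (p j))) (p j)]
  exact fun hd => M.ne_r hj ((Nat.prime_dvd_prime_iff_eq (M.prime j hj) M.r_prime).1 hd)

theorem Nrm_le_secNorm {i : ℕ} (hi : i + 1 < h) :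
    Nrm P h i ≤ secNorm (P (i + 1)) (Rr (i + 1)) := fun _ hg =>
  mem_inf.2 ⟨mem_Nrm.1 hg _ (Nat.le_succ i) hi, mem_normalizer_rad' hg (Nat.le_succ i) hi⟩

theorem Hg_le_secNorm {i : ℕ} (hi : i + 1 < h) :
    Hg t P h i ≤ secNorm (Qs t P p h i) (Rr (i + 1)) := fun _ hg =>
  mem_inf.2 ⟨mem_normalizer_Qs hg hi, mem_normalizer_rad' (mem_Hg.1 hg).1 (Nat.le_succ i) hi⟩

/-- Commutators with the radical lie in the kernel. -/
theorem commutator_mem_ker {i : ℕ} (hi : i < h) {x z : Γ} (hx : x ∈ P i) (hz : z ∈ Rr i) :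
    ⁅x, z⁆ ∈ Kk i := by
  have := Coprime.conj_mem_of_mem_normalizer (M.le_normalizer_ker le_rfl (M.rad_le i hz))
    (M.rad_central hi hx hz)
  convert this using 1
  simp [commutatorElement_def, mul_assoc]

/-- Killed elements are stable under the elements commuting with `t`. -/
theorem inN_conj {i l : ℕ} (hl : l ≤ i) {g : Γ} (hg : g ∈ Nrm P h l) (hgt : t * g = g * t)
    (hi : i < h) {x : Γ} (hx : InN t P p h i x) : InN t P p h i (g * x * g⁻¹) := by
  unfold InN at hx ⊢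
  split_ifs with hi1
  · rw [if_pos hi1] at hx
    intro y hy
    have hgH : g ∈ Hg t P h i :=
      mem_Hg.2 ⟨Nrm_mono hl hg, mem_normalizer_moved hg hgt hl hi⟩
    have hgR : g ∈ normalizer (SetLike.coe (Rr (i + 1))) := mem_normalizer_rad' hg (by omega) hi1
    have := Coprime.conj_mem_of_mem_normalizer hgR
      (hx _ (Coprime.conj_mem_of_mem_normalizer' (mem_normalizer_Qs hgH hi1) hy))
    convert this using 1
    group
  · rw [if_neg hi1] at hx
    exact Coprime.conj_mem_of_mem_normalizer (mem_normalizer_rad' hg hl hi) hx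

theorem inN_one {i : ℕ} : InN t P p h i 1 := by
  unfold InN
  split_ifs
  · intro y _; simp
  · exact one_mem _

/-- The centre modulo the kernel lies in the radical unless the term is abelian modulo it. -/
theorem centre_le_rad {i : ℕ} (hi : i + 1 < h)
    (hna : ¬ ∀ a ∈ P (i + 1), ∀ b ∈ P (i + 1), ⁅a, b⁆ ∈ Kk (i + 1)) {x : Γ} (hx : x ∈ P (i + 1))
    (hc : ∀ y ∈ P (i + 1), y⁻¹ * (x * y * x⁻¹) ∈ Kk (i + 1)) : x ∈ Rr (i + 1) := by
  set X := P (i + 1) ⊓ centMod (P (i + 1)) (Kk (i + 1)) with hX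
  have hinv : ∀ g : Γ, g ∈ normalizer (P (i + 1) : Set Γ) →
      g ∈ normalizer (SetLike.coe (Kk (i + 1))) → g ∈ normalizer (X : Set Γ) := by
    intro g hgP hgK
    have key : ∀ b : Γ, b ∈ normalizer (P (i + 1) : Set Γ) →
        b ∈ normalizer (SetLike.coe (Kk (i + 1))) → ∀ u ∈ X, b * u * b⁻¹ ∈ X := by
      intro b hb hbK u hu
      obtain ⟨huP, huc⟩ := mem_inf.1 hu
      obtain ⟨h1, h2, h3⟩ := mem_centMod.1 huc
      refine mem_inf.2 ⟨Coprime.conj_mem_of_mem_normalizer hb huP, mem_centMod.2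
        ⟨mul_mem (mul_mem hb h1) (inv_mem hb), mul_mem (mul_mem hbK h2) (inv_mem hbK),
          fun y hy => ?_⟩⟩
      have := Coprime.conj_mem_of_mem_normalizer hbK
        (h3 _ (Coprime.conj_mem_of_mem_normalizer' hb hy))
      convert this using 1
      group
    exact Coprime.mem_normalizer_of_le_iff (key g hgP hgK) fun u hu => by
      simpa using key g⁻¹ (inv_mem hgP) (inv_mem hgK) u hu
  have hne : X ≠ P (i + 1) := fun he => hna fun a ha b hb => by
    obtain ⟨h1, h2, h3⟩ := mem_centMod.1 (mem_inf.1 (he.symm ▸ hb : b ∈ X)).2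
    have := h3 a⁻¹ (inv_mem ha)
    simpa [commutatorElement_def, mul_assoc] using this
  exact M.irreducible hi inf_le_left
    (fun j hj g hg => hinv g (M.norm _ hi j (by omega) hg) (M.le_normalizer_ker (by omega) hg))
    (hinv t (M.t_norm _ hi) (mem_normalizer_towerKer (M.t_norm_all _))) hne
    (mem_inf.2 ⟨hx, mem_centMod.2 ⟨Subgroup.le_normalizer hx, M.le_normalizer_ker le_rfl hx, hc⟩⟩)

/-- An abelian term has exponent `p` modulo its kernel. -/
theorem rad_le_ker {i : ℕ} (hi : i + 1 < h)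
    (hab : ∀ a ∈ P (i + 1), ∀ b ∈ P (i + 1), ⁅a, b⁆ ∈ Kk (i + 1)) : Rr (i + 1) ≤ Kk (i + 1) :=
  fun z hz => mem_of_fixed_mod (M.norm _ hi i (Nat.le_succ i))
    (M.le_normalizer_ker (Nat.le_succ i)) (M.le_normalizer_ker le_rfl) hab
    ((M.step i hi).trans le_sup_left) (M.coprime (by omega) hi (M.p_ne i hi) le_rfl le_rfl)
    (M.rad_le _ hz) fun a ha => by
      have := M.rad_comm_prev hi (commutator_mem_commutator (inv_mem hz) ha)
      simpa [commutatorElement_def, mul_assoc] using this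

/-- The representation of a subgroup on a section of the next term. -/
theorem ctwo_of {i : ℕ} (hi : i + 1 < h) {T : Subgroup Γ} (hT : T ≤ P (i + 1))
    [Fact (p (i + 1)).Prime] {U : Type u} [AddCommGroup U]
    [Module (AlgebraicClosure (ZMod (p (i + 1)))) U]
    {ρ : secNorm T (Rr (i + 1)) →* Module.End (AlgebraicClosure (ZMod (p (i + 1)))) U}
    (hs : SecRep T (Rr (i + 1)) (p (i + 1)) (AlgebraicClosure (ZMod (p (i + 1)))) U ρ)
    {H : Subgroup Γ} (hH : H ≤ secNorm T (Rr (i + 1))) (hPH : P i ≤ H) {Z : Subgroup Γ}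
    (hZ : Z ≤ P i) (hcen : ∀ x ∈ P i, ∀ z ∈ Z, ⁅x, z⁆ ∈ Kk i)
    (hcomm : ∀ x ∈ P i, ∀ y ∈ P i, ⁅x, y⁆ ∈ Z) :
    CTwo (ρ.comp (inclusion hH)) ((P i).subgroupOf H) (Z.subgroupOf H) (p i) where
  prime := M.prime i (by omega)
  pgroup := (M.pgroup i (by omega)).of_equiv (subgroupOfEquivOfLe hPH).symm
  ne_zero := M.cast_ne_zero (by omega) hi (M.p_ne i hi)
  le := fun x hx => hZ hx
  central := fun x hx z hz => by
    have hK : ⁅(x : Γ), (z : Γ)⁆ ∈ Kk i := hcen _ hx _ hz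
    rw [MonoidHom.comp_apply, hs.triv]
    exact fun y hy => mem_sup_left ((M.mem_ker hi (towerKer_le P h i hK)).1 hK y (hT hy))
  comm := fun x hx y hy => hcomm _ hx _ hy

theorem setting_of {i : ℕ} (hi : i + 1 < h) {T : Subgroup Γ} (hT : T ≤ P (i + 1))
    [Fact (p (i + 1)).Prime] {U : Type u} [AddCommGroup U]
    [Module (AlgebraicClosure (ZMod (p (i + 1)))) U]
    {ρ : secNorm T (Rr (i + 1)) →* Module.End (AlgebraicClosure (ZMod (p (i + 1)))) U}
    (hs : SecRep T (Rr (i + 1)) (p (i + 1)) (AlgebraicClosure (ZMod (p (i + 1)))) U ρ)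
    {H : Subgroup Γ} (hH : H ≤ secNorm T (Rr (i + 1))) (hPH : P i ≤ H) (htH : t ∈ H) :
    Setting (ρ.comp (inclusion hH)) ((P i).subgroupOf H) ((Rr i).subgroupOf H) (p i)
      ⟨t, htH⟩ r := by
  have hnorm : ∀ A : Subgroup Γ, t ∈ normalizer (A : Set Γ) →
      (⟨t, htH⟩ : H) ∈ normalizer ((A.subgroupOf H : Subgroup H) : Set H) := fun A hA =>
    Subgroup.mem_normalizer_iff.2 fun y => by
      rw [Subgroup.mem_subgroupOf, Subgroup.mem_subgroupOf]
      exact Subgroup.mem_normalizer_iff.1 hA (y : Γ)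
  exact
    { toCTwo := M.ctwo_of hi hT hs hH hPH (M.rad_le i)
        (fun x hx z hz => M.commutator_mem_ker (by omega) hx hz)
        (fun x hx y hy => mem_sup_right (comm_mem_phi hx hy))
      r_prime := M.r_prime
      r_ne_zero := M.cast_r_ne_zero hi
      q_ne_r := M.ne_r (by omega)
      sigma_Q := hnorm _ (M.t_norm i (by omega))
      sigma_Z := hnorm _ (mem_normalizer_towerRad (by omega) (M.t_norm_all i))
      sigma_pow := Subtype.ext M.t_pow }

/-- Elements of a term acting trivially on the next section lie in the kernel. -/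
theorem mem_ker_of_rho {i : ℕ} (hi : i + 1 < h) {x : Γ} (hx : x ∈ P i) [Fact (p (i + 1)).Prime]
    {U : Type u} [AddCommGroup U] [Module (AlgebraicClosure (ZMod (p (i + 1)))) U]
    {ρ : secNorm (P (i + 1)) (Rr (i + 1)) →* Module.End (AlgebraicClosure (ZMod (p (i + 1)))) U}
    (hs : SecRep (P (i + 1)) (Rr (i + 1)) (p (i + 1)) (AlgebraicClosure (ZMod (p (i + 1)))) U ρ)
    {g : secNorm (P (i + 1)) (Rr (i + 1))} (hg : (g : Γ) = x) (h1 : ρ g = 1) : x ∈ Kk i :=
  M.mem_ker_of_rad hi hx fun y hy => hg ▸ (hs.triv g).1 h1 y hy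

end MinTower

end Cfsg.Agent.FGS73.Turull
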