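import Cfsg.Agent.FGS73.Turull.NoBad

/-!
The consequences of a level for the elements centralised by `t`.
-/

set_option autoImplicit false

universe u

namespace Cfsg.Agent.FGS73.Turull

open Subgroup
open scoped commutatorElement
open Cfsg.Agent.LinAct (rho_mul rho_one rho_inv_apply)

variable {Γ : Type u} [Group Γ]

/-- The elements acting trivially on the fixed vectors modulo the killed ones. -/
def killSubgroup {H : Type*} [Group H] {K : Type*} [Field K] {U : Type*} [AddCommGroup U]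
    [Module K U] {ρ : H →* Module.End K U} {σ : H} {N : Submodule K U} (hK : Kill ρ σ N) :
    Subgroup H where
  carrier := {g | σ * g = g * σ ∧ ∀ w, ρ σ w = w → ρ g w - w ∈ N}
  one_mem' := ⟨by simp, fun w _ => by simp⟩
  mul_mem' := fun {a b} ha hb =>
    ⟨((show Commute σ a from ha.1).mul_right (show Commute σ b from hb.1)).eq, fun w hw => by
      have := N.add_mem (hK.inv a ha.1 _ (hb.2 w hw)) (ha.2 w hw)
      rwa [map_sub, sub_add_sub_cancel, ← rho_mul] at this⟩
  inv_mem' := fun {a} ha => ⟨(show Commute σ a from ha.1).inv_right.eq, fun w hw => by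
    have := N.neg_mem (hK.inv a⁻¹ (show Commute σ a from ha.1).inv_right.eq _ (ha.2 w hw))
    rwa [map_sub, rho_inv_apply, neg_sub] at this⟩

namespace MinTower

variable [Finite Γ] {G0 : Subgroup Γ} {t : Γ} {r h : ℕ} {P : ℕ → Subgroup Γ} {p : ℕ → ℕ}
  (M : MinTower G0 t r h P p)

local notation "Kk" => towerKer P h
local notation "Rr" => towerRad P p h

include M

/-- The elements inert at a level, and their properties. -/
theorem exists_inert {i : ℕ} (hi : i + 1 + 1 < h) :
    ∃ L : Subgroup Γ,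
      (∀ g ∈ Hg t P h (i + 1), t * g = g * t → ∀ x ∈ L, g * x * g⁻¹ ∈ L) ∧
      (∀ x ∈ Hg t P h (i + 1), t * x = x * t → x ∉ L →
        ∃ y ∈ P (i + 1 + 1), t * y = y * t ∧ ¬ InN t P p h (i + 1 + 1) ⁅x, y⁆) ∧
      (∀ x ∈ P (i + 1), x ∈ L → InN t P p h (i + 1) x) ∧
      (¬ moved t P (i + 1) ≤ Kk (i + 1) →
        ∃ y ∈ P (i + 1 + 1), t * y = y * t ∧ ¬ InN t P p h (i + 1 + 1) y) ∧
      (P (i + 1) ≤ moved t P (i + 1) →
        ∀ a ∈ L, ∀ c ∈ Hg t P h (i + 1), t * c = c * t → ∀ s m : ℕ, s.Prime → s ≠ p (i + 1) →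
          s ≠ r → a ^ s ^ m = 1 →
          (∀ y ∈ Rr (i + 1), t * y = y * t → y⁻¹ * (c * y * c⁻¹) ∈ Kk (i + 1)) →
          ∀ x ∈ P (i + 1), x⁻¹ * (⁅a, c⁆ * x * ⁅a, c⁆⁻¹) ∈ Rr (i + 1)) := by
  classical
  set j := i + 1 with hj
  haveI := Fact.mk (M.prime (j + 1) hi)
  set H := Hg t P h j with hH
  obtain ⟨U, _, _, _, ρ, e, σ, N, hL⟩ := M.exists_level hi
  have hset := hL.setting
  have hnb : NoBadN ρ ((P j).subgroupOf (Hg t P h j)) σ N := hset.noBadN hL.kill hL.hS
    (hL.crit fun S h1 h2 h3 h4 h5 => M.no_bad hi h1 h2 h3 h4 h5)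
  have htσ : ∀ g : Hg t P h j, t * (g : Γ) = g * t → σ * g = g * σ := fun g hg =>
    Subtype.ext (by rw [Subgroup.coe_mul, Subgroup.coe_mul, hL.sigma]; exact hg)
  refine ⟨(killSubgroup hL.kill).map (Hg t P h j).subtype, ?_, ?_, ?_, ?_, ?_⟩
  · rintro g hg hgt _ ⟨x, hx, rfl⟩
    set gH : Hg t P h j := ⟨g, hg⟩ with hgH
    have hgc := htσ gH hgt
    refine ⟨gH * x * gH⁻¹, ⟨(((show Commute σ gH from hgc).mul_right hx.1).mul_right
      (show Commute σ gH from hgc).inv_right).eq, fun w hw => ?_⟩, rfl⟩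
    have hw' : ρ σ (ρ gH⁻¹ w) = ρ gH⁻¹ w := by
      rw [← rho_mul, (show Commute σ gH from hgc).inv_right.eq, rho_mul, hw]
    have := hL.kill.inv gH hgc _ (hx.2 _ hw')
    rwa [map_sub, ← rho_mul, ← rho_mul, ← rho_mul, mul_inv_cancel, rho_one] at this
  · intro x hx hxt hxL
    by_contra hall
    push Not at hall
    refine hxL ⟨⟨x, hx⟩, ⟨htσ ⟨x, hx⟩ hxt, fun w hw => ?_⟩, rfl⟩
    have hspan := hL.fixed w hw
    clear hw
    induction hspan using Submodule.span_induction with
    | mem u hu =>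
      obtain ⟨y, ⟨hy, hyt⟩, rfl⟩ := hu
      rw [hL.sub _ y hy]
      have hxy : ⁅x, y⁆ ∈ Qs t P p h j := by
        rw [commutatorElement_def]
        exact mul_mem (Coprime.conj_mem_of_mem_normalizer (mem_normalizer_Qs hx hi) hy) (inv_mem hy)
      exact hL.memN _ hxy ((((show Commute t x from hxt).mul_right hyt).mul_right
        (show Commute t x from hxt).inv_right).mul_right (show Commute t y from hyt).inv_right).eq
        (hall y (M.Qs_le hi hy) hyt)
    | zero => simp
    | add a b _ _ ha hb => rw [map_add, add_sub_add_comm]; exact N.add_mem (ha) (hb)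
    | smul c a _ ha => rw [map_smul, ← smul_sub]; exact N.smul_mem c (ha)
  · rintro x hx ⟨g, hg, rfl⟩
    rw [InN, if_pos hi]
    exact (hL.triv g).1 (hset.kernel hL.kill hnb hx hg.1 hg.2)
  · intro hmoved
    have hnz : ∃ y ∈ Qs t P p h j, y ∉ Rr (j + 1) := by
      by_contra hall
      push Not at hall
      refine hmoved fun x hx => M.mem_ker_of_rad hi (M.moved_le (by omega) hx) fun y hy => ?_
      have := hall _ (mem_sup_left (commutator_mem_commutator (inv_mem hy) hx))
      simpa [commutatorElement_def, mul_assoc] using this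
    obtain ⟨y, hy, hyR⟩ := hnz
    have hne : e y ≠ 0 := fun h0 => hyR ((hL.zero_iff y hy).1 h0)
    obtain ⟨w, -, hwN, hw⟩ := hnb ⊤ (fun h0 => hne ((Submodule.mem_bot (R := AlgebraicClosure (ZMod (p (j + 1))))).1
      (h0 ▸ (Submodule.mem_top : e y ∈ (⊤ : Submodule (AlgebraicClosure (ZMod (p (j + 1)))) U)))))
      ⟨fun _ _ _ _ => trivial, fun _ _ => trivial⟩
    by_contra hall
    push Not at hall
    refine hwN (Submodule.span_le.2 ?_ (hL.fixed w hw))
    rintro _ ⟨z, ⟨hz, hzt⟩, rfl⟩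
    exact hL.memN z hz hzt (hall z (M.Qs_le hi hz) hzt)
  · rintro hgen _ ⟨aH, ha, rfl⟩ c hc hct s m hs hsp hsr ham hcR
    have hQs : P (j + 1) ≤ Qs t P p h j :=
      (M.step j hi).trans ((commutator_mono le_rfl hgen).trans le_sup_left)
    have hfpf : ∀ y ∈ P j, t * y = y * t → y ∈ Rr j := fun y hy hyt =>
      M.mem_rad_of_commute (by omega) (hgen.trans le_sup_left) hy (by
        rw [hyt, mul_inv_cancel_right, inv_mul_cancel]
        exact one_mem _)
    set cH : H := ⟨c, hc⟩ with hcH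
    have hcσ := htσ cH hct
    have hnorm : ∀ (A : Subgroup Γ) (g : H), (g : Γ) ∈ normalizer (A : Set Γ) →
        g ∈ normalizer ((A.subgroupOf H : Subgroup H) : Set H) := fun A g hA =>
      Subgroup.mem_normalizer_iff.2 fun y => by
        rw [Subgroup.mem_subgroupOf, Subgroup.mem_subgroupOf]
        exact Subgroup.mem_normalizer_iff.1 hA (y : Γ)
    have hnP : ∀ g : H, (g : Γ) ∈ normalizer (P j : Set Γ) := fun g =>
      mem_Nrm.1 (mem_Hg.1 g.2).1 j le_rfl (by omega)
    have hnR : ∀ g : H, (g : Γ) ∈ normalizer (SetLike.coe (Rr j)) := fun g =>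
      mem_normalizer_rad' (mem_Hg.1 g.2).1 le_rfl (by omega)
    have hfpf' : ∀ x ∈ (P j).subgroupOf H, σ * x = x * σ → x ∈ (Rr j).subgroupOf H :=
      fun x hx hxσ => hfpf x hx (by
        have := congrArg Subtype.val hxσ
        rwa [Subgroup.coe_mul, Subgroup.coe_mul, hL.sigma] at this)
    have hop : ∀ g : H, g ∈ killSubgroup hL.kill → g ^ s ^ m = 1 →
        Op ρ ((P j).subgroupOf H) ((Rr j).subgroupOf H) (p j) σ r N g s m := fun g hg hgp =>
      ⟨hL.kill, hs, hsp, hsr, hgp, hg.1, hnorm _ g (hnP g), hnorm _ g (hnR g), hg.2⟩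
    have haH : aH ^ s ^ m = 1 := Subtype.ext (by rw [SubgroupClass.coe_pow]; exact ham)
    intro x hx
    by_cases hab : ∀ a ∈ P j, ∀ b ∈ P j, ⁅a, b⁆ ∈ Kk j
    · -- abelian modulo the kernel
      have hab' : ∀ a ∈ (P j).subgroupOf H, ∀ b ∈ (P j).subgroupOf H, ρ ⁅b, a⁆ = 1 := by
        intro a ha b hb
        rw [hL.triv]
        exact fun y hy => mem_sup_left ((M.mem_ker hi (towerKer_le P h j (hab _ hb _ ha))).1
          (hab _ hb _ ha) y (M.Qs_le hi hy))
      have hfull : ∀ g : H, g ∈ killSubgroup hL.kill → g ^ s ^ m = 1 →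
          ∀ y ∈ P j, y⁻¹ * ((g : Γ) * y * (g : Γ)⁻¹) ∈ Rr j := by
        intro g hg hgp y hy
        have hgy : y⁻¹ * ((g : Γ) * y * (g : Γ)⁻¹) ∈ P j :=
          mul_mem (inv_mem hy) (Coprime.conj_mem_of_mem_normalizer (hnP g) hy)
        set yH : H := ⟨y, M.le_Hg j hy⟩ with hyH
        have h1 := (hop g hg hgp).trivial_of_abelian hset hnb hab' (x := yH) hy
        have h2 : ρ (yH⁻¹ * (g * yH * g⁻¹)) = 1 := by
          rw [map_mul, h1, ← map_mul, inv_mul_cancel, map_one]
        have htriv := (hL.triv _).1 h2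
        exact mem_sup_left (M.mem_ker_of_rad hi hgy fun u hu => htriv u (hQs hu))
      have h1 := hfull _ ha haH
      have ha' : cH * aH⁻¹ * cH⁻¹ ∈ killSubgroup hL.kill := by
        refine ⟨(((show Commute σ cH from hcσ).mul_right (show Commute σ aH from ha.1).inv_right
          ).mul_right (show Commute σ cH from hcσ).inv_right).eq, fun w hw => ?_⟩
        have hw' : ρ σ (ρ cH⁻¹ w) = ρ cH⁻¹ w := by
          rw [← rho_mul, (show Commute σ cH from hcσ).inv_right.eq, rho_mul, hw]
        have := hL.kill.inv cH hcσ _ (((killSubgroup hL.kill).inv_mem ha).2 _ hw')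
        rwa [map_sub, ← rho_mul, ← rho_mul, ← rho_mul, mul_inv_cancel, rho_one] at this
      have h2 := hfull _ ha' (by rw [conj_pow, inv_pow, haH, inv_one, mul_one, mul_inv_cancel])
      have h3 := h1 _ (Coprime.conj_mem_of_mem_normalizer (hnP (cH * aH⁻¹ * cH⁻¹)) hx)
      have := (Rr j).mul_mem (h2 x hx) h3
      convert this using 1
      simp [hcH, commutatorElement_def, mul_assoc]
    · -- nonabelian modulo the kernel
      set z : H := ⁅aH, cH⁆ with hz
      set xH : H := ⟨x, M.le_Hg j hx⟩ with hxH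
      have hw : (x⁻¹ * ((z : Γ) * x * (z : Γ)⁻¹)) ∈ P j :=
        mul_mem (inv_mem hx) (Coprime.conj_mem_of_mem_normalizer (hnP z) hx)
      set wH : H := xH⁻¹ * (z * xH * z⁻¹) with hwH
      have hstab : ∀ (χ : H → AlgebraicClosure (ZMod (p (j + 1)))) (v : U), v ≠ 0 →
          v ∈ LinAct.wspace ρ ((Rr j).subgroupOf H) χ →
          σ ∈ LinAct.wstab ((Rr j).subgroupOf H) χ →
          cH ∈ LinAct.wstab ((Rr j).subgroupOf H) χ := by
        intro χ v hv0 hv hσ
        refine mem_wstab (hnorm _ cH (hnR cH)) fun y hy => ?_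
        obtain ⟨a, ha', b, hb, hbσ, rfl⟩ := split (hset.pgroup.to_le hset.le) hset.prime
          hset.coprime hset.sigma_Z hy
        have hmul : ∀ u w : H, u ∈ (Rr j).subgroupOf H → w ∈ (Rr j).subgroupOf H →
            χ (u * w) = χ u * χ w := fun u w hu hw => LinAct.weight_mul ρ hv hv0 hu hw
        have hcc : ∀ u ∈ (Rr j).subgroupOf H, cH * u * cH⁻¹ ∈ (Rr j).subgroupOf H := fun u hu =>
          Coprime.conj_mem_of_mem_normalizer (hnorm _ cH (hnR cH)) hu
        have hZc : ⁅(Rr j).subgroupOf H, zpowers σ⁆ ≤ (Rr j).subgroupOf H :=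
          commutator_le_Q hset.sigma_Z
        let Sχ : Subgroup H :=
          { carrier := {u | u ∈ (Rr j).subgroupOf H ∧ χ u = 1}
            one_mem' := ⟨one_mem _, LinAct.weight_one ρ hv hv0⟩
            mul_mem' := fun {u w} hu hw => ⟨mul_mem hu.1 hw.1, by
              rw [hmul u w hu.1 hw.1, hu.2, hw.2, one_mul]⟩
            inv_mem' := fun {u} hu => ⟨inv_mem hu.1, by
              have h1 := hmul u⁻¹ u (inv_mem hu.1) hu.1
              rw [inv_mul_cancel, LinAct.weight_one ρ hv hv0, hu.2, mul_one] at h1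
              exact h1.symm⟩ }
        have hker : ⁅(Rr j).subgroupOf H, zpowers σ⁆ ≤ Sχ := commutator_le.2 fun u hu k hk => by
          have hkχ := (zpowers_le (H := LinAct.wstab ((Rr j).subgroupOf H) χ)).2 hσ hk
          have h2 : k * u⁻¹ * k⁻¹ ∈ (Rr j).subgroupOf H :=
            Coprime.conj_mem_of_mem_normalizer hkχ.1 (inv_mem hu)
          have e1 : ⁅u, k⁆ = u * (k * u⁻¹ * k⁻¹) := by simp [commutatorElement_def, mul_assoc]
          refine ⟨e1 ▸ mul_mem hu h2, ?_⟩
          rw [e1, hmul _ _ hu h2, wstab_conj hkχ (inv_mem hu), ← hmul _ _ hu (inv_mem hu),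
            mul_inv_cancel, LinAct.weight_one ρ hv hv0]
        have hca : cH * a * cH⁻¹ ∈ ⁅(Rr j).subgroupOf H, zpowers σ⁆ :=
          Coprime.conj_mem_of_mem_normalizer (mem_normalizer_commutator (hnorm _ cH (hnR cH))
            (mem_normalizer_zpowers hcσ)) ha'
        have hcb : χ (cH * b * cH⁻¹) = χ b := by
          have hbt : t * (b : Γ) = b * t := by
            have := congrArg Subtype.val hbσ
            rwa [Subgroup.coe_mul, Subgroup.coe_mul, hL.sigma] at this
          have hk := hcR (b : Γ) hb hbt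
          have hρk : ρ (b⁻¹ * (cH * b * cH⁻¹)) = 1 := by
            rw [hL.triv]
            exact fun y hy => mem_sup_left
              ((M.mem_ker hi (towerKer_le P h j hk)).1 hk y (M.Qs_le hi hy))
          exact weight_eq_of_rho_eq hv hv0 (hcc b hb) hb (by
            have := congrArg (fun f => ρ b * f) hρk
            simpa [← map_mul] using this)
        rw [show cH * (a * b) * cH⁻¹ = (cH * a * cH⁻¹) * (cH * b * cH⁻¹) by group,
          hmul _ _ (hcc a (hZc ha')) (hcc b hb), hmul _ _ (hZc ha') hb, (hker ha').2, (hker hca).2,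
          hcb]
      have hrad : ∀ (χ : H → AlgebraicClosure (ZMod (p (j + 1)))) (v : U)
          (hv : v ∈ LinAct.wspace ρ ((Rr j).subgroupOf H) χ) (hv0 : v ≠ 0),
          wH ∈ hset.radS hv hv0 := fun χ v hv hv0 =>
        (hop aH ha haH).commutator_trivial hset hnb hfpf' (hnorm _ cH (hnP cH))
          (hnorm _ cH (hnR cH)) hcσ hstab hv hv0 xH hx
      refine M.centre_le_rad (i := i) (by omega) hab hw fun y hy => ?_
      set yH : H := ⟨y⁻¹, M.le_Hg j (inv_mem hy)⟩ with hyH
      have hmem : ⁅yH, wH⁆ ∈ (Rr j).subgroupOf H :=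
        hset.comm yH (inv_mem hy) wH hw
      have hρ1 : ρ ⁅yH, wH⁆ = 1 := by
        have := eq_of_weights hset.toCTwo (a := ⁅yH, wH⁆) (b := 1) (hset.le hmem) (one_mem _)
          fun χ v hv0 hv => by
            rw [hv _ hmem, show χ ⁅yH, wH⁆ = 1 from (hrad χ v hv hv0).2 yH (inv_mem hy), one_smul, map_one]
            rfl
        rwa [map_one] at this
      have hQtriv := (hL.triv _).1 hρ1
      have hK := M.mem_ker_of_rad hi (M.rad_le j hmem) fun u hu => hQtriv u (hQs hu)
      simpa [hwH, hyH, hxH, hz, hcH, commutatorElement_def, mul_assoc] using hK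

end MinTower

end Cfsg.Agent.FGS73.Turull
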