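import Cfsg.Agent.FGS73.Turull.LevelUse
import Mathlib.GroupTheory.SemidirectProduct

/-!
Turull's bound on the Fitting height.
-/

set_option autoImplicit false

universe u

namespace Cfsg.Agent.FGS73.Turull

open Subgroup
open scoped commutatorElement

variable {Γ : Type u} [Group Γ]

namespace MinTower

variable [Finite Γ] {G0 : Subgroup Γ} {t : Γ} {r h : ℕ} {P : ℕ → Subgroup Γ} {p : ℕ → ℕ}
  (M : MinTower G0 t r h P p)

local notation "Kk" => towerKer P h
local notation "Rr" => towerRad P p h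
local notation "Cc" => G0 ⊓ centralizer (Singleton.singleton t : Set Γ)

include M

/-- Commutators with the fixed elements of a later term continue a sequence. -/
theorem extend {l m L : ℕ} (hlm : l ≤ m + 1) (hm : m + 1 < h) (hp : p l ≠ p (m + 1))
    {X : Subgroup Γ} (hX : X ≤ P l) (hseq : Seq Cc L X)
    (hout : ∃ x ∈ X, ∃ y ∈ P (m + 1), t * y = y * t ∧ ¬ InN t P p h (m + 1) ⁅x, y⁆) :
    ∃ D ≤ P (m + 1), Seq Cc (L + 1) D ∧ ∃ x ∈ D, ¬ InN t P p h (m + 1) x := by
  set D := ⁅P (m + 1) ⊓ centralizer ({t} : Set Γ), X⁆ with hD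
  have hXN : X ≤ normalizer (SetLike.coe (P (m + 1) ⊓ centralizer ({t} : Set Γ))) := by
    refine Coprime.le_normalizer_of_conj_mem fun g hg y hy => mem_inf.2
      ⟨Coprime.conj_mem_of_mem_normalizer (M.norm _ hm l hlm (hX hg)) hy.1, ?_⟩
    have hgt := (mem_inf.1 (hseq.le hg)).2
    exact mul_mem (mul_mem hgt hy.2) (inv_mem hgt)
  have hDP : D ≤ P (m + 1) ⊓ centralizer ({t} : Set Γ) :=
    Coprime.commutator_le_of_le_normalizer hXN
  refine ⟨D, hDP.trans inf_le_left, Seq.step hseq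
    (hDP.trans (inf_le_inf_right _ (M.le _ hm))) ?_, ?_⟩
  · refine (Coprime.commutator_commutator_eq X _ hXN
      (M.coprime (by omega) hm hp hX inf_le_left) (Or.inl ?_)).ge
    haveI := ((M.pgroup l (by omega)).to_le hX).isNilpotent (hp := ⟨M.prime l (by omega)⟩)
    infer_instance
  · obtain ⟨x, hx, y, hy, hyt, hxy⟩ := hout
    refine ⟨⁅x, y⁆, ?_, hxy⟩
    rw [hD, Subgroup.commutator_comm]
    exact commutator_mem_commutator hx (mem_inf.2 ⟨hy, mem_centralizer_single.2 hyt⟩)

/-- Sequences reaching the killed complement of a level go up to the end. -/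
theorem tail_bound {n : ℕ} (hC : HasNilChain n (Cc : Subgroup Γ)) :
    ∀ d m L : ℕ, ∀ D : Subgroup Γ, m + 1 + d + 1 = h → D ≤ P (m + 1) → Seq Cc L D →
      (∃ x ∈ D, ¬ InN t P p h (m + 1) x) → L + d ≤ n := by
  intro d
  induction d with
  | zero =>
    intro m L D hm hD hseq hout
    refine hseq.bound hC fun h0 => ?_
    obtain ⟨x, hx, hxN⟩ := hout
    rw [h0, mem_bot] at hx
    exact hxN (hx ▸ M.inN_one)
  | succ d ih =>
    intro m L D hm hD hseq hout
    obtain ⟨Ls, -, hlink, hint, -, -⟩ := M.exists_inert (i := m) (by omega)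
    obtain ⟨x, hx, hxN⟩ := hout
    have hxt : t * x = x * t := mem_centralizer_single.1 (mem_inf.1 (hseq.le hx)).2
    obtain ⟨y, hy, hyt, hxy⟩ := hlink x (M.le_Hg _ (hD hx)) hxt fun hxL => hxN (hint x (hD hx) hxL)
    obtain ⟨D', hD', hseq', hout'⟩ := M.extend (l := m + 1) (m := m + 1) (by omega) (by omega)
      (M.p_ne _ (by omega)) hD hseq ⟨x, hx, y, hy, hyt, hxy⟩
    have := ih (m + 1) (L + 1) D' (by omega) hD' hseq' hout'
    omega

/-- There is no minimal tower three longer than a chain of the fixed subgroup. -/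
theorem false_of_chain {n : ℕ} (hn : h = n + 3) (hC : HasNilChain n (Cc : Subgroup Γ)) : False := by
  classical
  have hne : ∀ i < h, P i ≠ ⊥ := fun i hi h0 => M.not_le_ker hi (h0 ▸ bot_le)
  by_cases hall : ∀ j < h, ∀ x ∈ P j, x⁻¹ * (t * x * t⁻¹) ∈ Kk j
  · have hc := M.commute_of_centralized (k := h) hall
    have := (M.prefix_seq (k := h) (fun j hj => hc j hj hj) (h - 1) (by omega) (by omega)).bound hC
      (hne _ (by omega))
    omega
  have hex : ∃ k, k < h ∧ ¬ ∀ x ∈ P k, x⁻¹ * (t * x * t⁻¹) ∈ Kk k := by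
    by_contra hno
    exact hall fun j hj => by
      by_contra hj'
      exact hno ⟨j, hj, hj'⟩
  obtain ⟨k, ⟨hkh, hmov⟩, hmin⟩ : ∃ k, (k < h ∧ ¬ ∀ x ∈ P k, x⁻¹ * (t * x * t⁻¹) ∈ Kk k) ∧
      ∀ j < k, ¬ (j < h ∧ ¬ ∀ x ∈ P j, x⁻¹ * (t * x * t⁻¹) ∈ Kk j) :=
    ⟨Nat.find hex, Nat.find_spec hex, fun j hj => Nat.find_min hex hj⟩
  have hk : ∀ j < k, ∀ x ∈ P j, x⁻¹ * (t * x * t⁻¹) ∈ Kk j := fun j hj => by
    by_contra hj'
    exact hmin j hj ⟨by omega, hj'⟩
  have hcomm : ∀ j < k, ∀ x ∈ P j, t * x = x * t := fun j hj =>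
    M.commute_of_centralized hk j hj (by omega)
  have hgen := M.first_moved hk hkh hmov
  have hseq := M.prefix_seq hcomm
  rcases Nat.lt_or_ge (k + 1) h with hk1 | hk1
  swap
  · have := (hseq (k - 1) (by omega) (by omega)).bound hC (hne _ (by omega))
    omega
  by_cases hsmall : k ≤ 1
  · obtain ⟨Ls, -, -, -, hstart, -⟩ := M.exists_inert (i := 0) (by omega)
    obtain ⟨y, hy, hyt, hyN⟩ := hstart fun hle =>
      M.not_commutator_le_rad hkh hgen 1 hsmall (by omega) (hle.trans le_sup_left)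
    have := M.tail_bound hC (h - 3) 1 1 (P 2 ⊓ centralizer ({t} : Set Γ)) (by omega) inf_le_left
      (Seq.base (inf_le_inf_right _ (M.le 2 (by omega))))
      ⟨y, mem_inf.2 ⟨hy, mem_centralizer_single.2 hyt⟩, hyN⟩
    omega
  obtain ⟨j, rfl⟩ : ∃ j, k = j + 1 + 1 := ⟨k - 2, by omega⟩
  obtain ⟨Ls, hLconj, hlink, hint, -, htriv⟩ := M.exists_inert (i := j + 1) hk1
  set k := j + 1 + 1 with hkdef
  -- killed elements of the first moved term are in the kernel
  have hKer : ∀ x ∈ P k, InN t P p h k x → x ∈ Kk k := fun x hx hxN => by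
    refine M.mem_ker_of_rad hk1 hx fun y hy => ?_
    rw [InN, if_pos hk1] at hxN
    exact hxN y ((M.step k hk1).trans ((commutator_mono le_rfl hgen).trans le_sup_left) hy)
  have hBH : ∀ l ≤ k, l < k → ∀ x ∈ P l, x ∈ Hg t P h k ∧ t * x = x * t := fun l hl hl' x hx =>
    ⟨M.mem_Hg_of_commute hl hkh hx (hcomm l hl' x hx), hcomm l hl' x hx⟩
  have hfromB : p j ≠ p (k + 1) → (∃ b ∈ P j, b ∉ Ls) → False := by
    rintro hp ⟨b, hb, hbL⟩
    obtain ⟨hbH, hbt⟩ := hBH j (by omega) (by omega) b hb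
    obtain ⟨y, hy, hyt, hxy⟩ := hlink b hbH hbt hbL
    obtain ⟨D, hD, hsD, hout⟩ := M.extend (l := j) (m := k) (by omega) hk1 hp le_rfl
      (hseq j (by omega) (by omega)) ⟨b, hb, y, hy, hyt, hxy⟩
    have := M.tail_bound hC (h - (k + 2)) k _ D (by omega) hD hsD hout
    omega
  by_cases hB : ∀ b ∈ P j, ∀ y ∈ Rr k, t * y = y * t → y⁻¹ * (b * y * b⁻¹) ∈ Kk k
  · -- `P j` centralises the fixed part of the radical
    by_cases hcond : p j ≠ p (k + 1) ∧ ∃ b ∈ P j, b ∉ Ls
    · exact hfromB hcond.1 hcond.2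
    have hA : ∃ a ∈ P (j + 1), a ∉ Ls := by
      by_contra hAL
      push Not at hAL
      refine M.not_le_ker (i := j + 1) (by omega) fun x hx => ?_
      refine M.mem_ker_of_rad (by omega) hx ?_
      have hle : P (j + 1) ≤ centMod (P k) (Rr k) := by
        refine (M.step j (by omega)).trans (commutator_le.2 fun a ha c hc => ?_)
        obtain ⟨hcH, hct⟩ := hBH j (by omega) (by omega) c hc
        haveI := Fact.mk (M.prime (j + 1) (by omega))
        obtain ⟨m, hm⟩ := IsPGroup.iff_card.1 (M.pgroup (j + 1) (by omega))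
        have ham : a ^ p (j + 1) ^ m = 1 := by
          rw [← hm]
          exact congrArg Subtype.val (pow_card_eq_one' (x := (⟨a, ha⟩ : P (j + 1))))
        have h1 := htriv hgen a (hAL a ha) c hcH hct (p (j + 1)) m (M.prime _ (by omega))
          (M.p_ne (j + 1) (by omega)) (M.ne_r (by omega)) ham (hB c hc)
        have hN : ∀ g : Γ, g ∈ Nrm P h k → g ∈ normalizer (P k : Set Γ) ∧
            g ∈ normalizer (SetLike.coe (Rr k)) := fun g hg =>
          ⟨mem_Nrm.1 hg k le_rfl hkh, mem_normalizer_rad' hg le_rfl hkh⟩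
        have haN : a ∈ Nrm P h k := M.le_Nrm (show j + 1 ≤ k by omega) ha
        have hcN : c ∈ Nrm P h k := (mem_Hg.1 hcH).1
        have hacN : ⁅a, c⁆ ∈ Nrm P h k :=
          mul_mem (mul_mem (mul_mem haN hcN) (inv_mem haN)) (inv_mem hcN)
        exact mem_centMod.2 ⟨(hN _ hacN).1, (hN _ hacN).2, h1⟩
      exact (mem_centMod.1 (hle hx)).2.2
    obtain ⟨a, ha, haL⟩ := hA
    by_cases hps : p (j + 1) = p (k + 1)
    · have hpj : p j ≠ p (k + 1) := hps ▸ M.p_ne j (by omega)
      have hBL : ∀ b ∈ P j, b ∈ Ls := fun b hb => by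
        by_contra hbL
        exact hcond ⟨hpj, b, hb, hbL⟩
      refine haL ((M.step j (by omega)).trans (commutator_le.2 fun u hu c hc => ?_) ha)
      obtain ⟨huH, hut⟩ := hBH (j + 1) (by omega) (by omega) u hu
      exact Ls.mul_mem (hLconj u huH hut c (hBL c hc)) (Ls.inv_mem (hBL c hc))
    · obtain ⟨haH, hat⟩ := hBH (j + 1) (by omega) (by omega) a ha
      obtain ⟨y, hy, hyt, hxy⟩ := hlink a haH hat haL
      obtain ⟨D, hD, hsD, hout⟩ := M.extend (l := j + 1) (m := k) (by omega) hk1 hps le_rfl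
        (hseq (j + 1) (by omega) (by omega)) ⟨a, ha, y, hy, hyt, hxy⟩
      have := M.tail_bound hC (h - (k + 2)) k _ D (by omega) hD hsD hout
      omega
  push Not at hB
  obtain ⟨b, hb, y, hy, hyt, hyb⟩ := hB
  obtain ⟨hbH, hbt⟩ := hBH j (by omega) (by omega) b hb
  set x := y⁻¹ * (b * y * b⁻¹) with hx
  have hxP : x ∈ P k := by
    refine mul_mem (inv_mem (M.rad_le k hy)) (Coprime.conj_mem_of_mem_normalizer
      (M.norm k hkh j (by omega) hb) (M.rad_le k hy))
  have hxL : x ∉ Ls := fun hxL => hyb (hKer x hxP (hint x hxP hxL))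
  by_cases hpj : p j = p k
  · refine hfromB (hpj ▸ M.p_ne k hk1) ⟨b, hb, fun hbL => hxL ?_⟩
    have := Ls.mul_mem (hLconj y⁻¹ (inv_mem (M.le_Hg k (M.rad_le k hy)))
      (show Commute t y from hyt).inv_right.eq b hbL) (Ls.inv_mem hbL)
    simpa [hx, mul_assoc] using this
  -- the commutator of the fixed part of the radical with `P j`
  set T := ⁅Rr k ⊓ centralizer ({t} : Set Γ), P j⁆ with hT
  have hBN : P j ≤ normalizer (SetLike.coe (Rr k ⊓ centralizer ({t} : Set Γ))) := by
    refine Coprime.le_normalizer_of_conj_mem fun g hg z hz => mem_inf.2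
      ⟨Coprime.conj_mem_of_mem_normalizer (M.le_normalizer_rad (show j ≤ k by omega) hkh hg) hz.1,
        ?_⟩
    have hgt : g ∈ centralizer ({t} : Set Γ) :=
      mem_centralizer_single.2 (hcomm j (by omega) g hg)
    exact mul_mem (mul_mem hgt hz.2) (inv_mem hgt)
  have hTR : T ≤ Rr k ⊓ centralizer ({t} : Set Γ) := Coprime.commutator_le_of_le_normalizer hBN
  have hTP : T ≤ P k := hTR.trans (inf_le_left.trans (M.rad_le k))
  have hxT : x ∈ T := by
    have := commutator_mem_commutator (mem_inf.2 ⟨inv_mem hy,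
      mem_centralizer_single.2 (show Commute t y from hyt).inv_right.eq⟩ :
        y⁻¹ ∈ Rr k ⊓ centralizer ({t} : Set Γ)) hb
    simpa [hx, commutatorElement_def, mul_assoc] using this
  have hseqT : Seq Cc (j + 1 + 1) T := by
    refine Seq.step (hseq j (by omega) (by omega))
      (hTR.trans (inf_le_inf_right _ ((M.rad_le k).trans (M.le k hkh)))) ?_
    refine (Coprime.commutator_commutator_eq (P j) _ hBN
      (M.coprime (by omega) hkh hpj le_rfl (inf_le_left.trans (M.rad_le k))) (Or.inl ?_)).ge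
    haveI := (M.pgroup j (by omega)).isNilpotent (hp := ⟨M.prime j (by omega)⟩)
    infer_instance
  have hxt : t * x = x * t := mem_centralizer_single.1 (hTR hxT).2
  obtain ⟨z, hz, hzt, hxz⟩ := hlink x (M.le_Hg k hxP) hxt hxL
  obtain ⟨D, hD, hsD, hout⟩ := M.extend (l := k) (m := k) (by omega) hk1 (M.p_ne k hk1) hTP hseqT
    ⟨x, hxT, z, hz, hzt, hxz⟩
  have := M.tail_bound hC (h - (k + 2)) k _ D (by omega) hD hsD hout
  omega

end MinTower

/-- Turull's theorem: the height is at most two more than that of the fixed subgroup. -/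
theorem height_le_fixed_add_two [Finite Γ] (G0 : Subgroup Γ) [G0.Normal] {t : Γ} {r n : ℕ}
    (hr : r.Prime) (ht : t ^ r = 1) (hcop : ¬ r ∣ Nat.card G0) (hsol : Group.IsSolvable G0)
    (hC : HasNilChain n (G0 ⊓ centralizer ({t} : Set Γ) : Subgroup Γ)) :
    HasNilChain (n + 2) G0 := by
  classical
  by_contra hno
  obtain ⟨P₀, p, hT⟩ := exists_tower G0 hr ht hcop hsol hno
  have hex : ∃ S : ℕ, ∃ P : ℕ → Subgroup Γ, IsTower G0 t (n + 2 + 1) P p ∧
      ∑ i ∈ Finset.range (n + 2 + 1), Nat.card (P i) = S := ⟨_, P₀, hT, rfl⟩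
  obtain ⟨P, hP, hsum⟩ := Nat.find_spec hex
  have M : MinTower G0 t r (n + 2 + 1) P p :=
    ⟨hP, hr, ht, hcop, fun P' hP' _ => hsum ▸ Nat.find_min' hex ⟨P', hP', rfl⟩⟩
  exact M.false_of_chain rfl hC

/-- Chains pass to images. -/
theorem HasNilChain.of_surjective {G H : Type u} [Group G] [Group H] (f : G →* H)
    (hf : Function.Surjective f) {n : ℕ} (h : HasNilChain n G) : HasNilChain n H := by
  obtain ⟨F, h0, hl, hn, hk⟩ := h
  refine ⟨fun i => (F i).map f, by simp [h0], ?_, fun i => (hn i).map f hf, fun i hi => ?_⟩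
  · show (F n).map f = ⊤
    rw [hl, Subgroup.map_top_of_surjective f hf]
  · obtain ⟨h1, k, h2⟩ := hk i hi
    refine ⟨Subgroup.map_mono h1, k, ?_⟩
    rw [← map_lowerCentralSeries]
    exact Subgroup.map_mono h2

/-- Turull's theorem for an automorphism. -/
theorem height_le_of_mulAut {G : Type u} [Group G] [Finite G] (hG : Group.IsSolvable G)
    (σ : MulAut G) {r n : ℕ} (hr : r.Prime) (hσ : orderOf σ = r) (hcop : ¬ r ∣ Nat.card G)
    (C : Subgroup G) (hC : ∀ g : G, g ∈ C ↔ σ g = g) (hn : HasNilChain n C) :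
    HasNilChain (n + 2) G := by
  haveI : Finite (zpowers σ) := Nat.finite_of_card_ne_zero (by
    rw [Nat.card_zpowers, hσ]; exact hr.ne_zero)
  haveI : Finite (SemidirectProduct G (zpowers σ) (zpowers σ).subtype) :=
    Finite.of_equiv _ SemidirectProduct.equivProd.symm
  set ι := (SemidirectProduct.inl : G →* SemidirectProduct G (zpowers σ) (zpowers σ).subtype)
    with hι
  set t := (SemidirectProduct.inr (φ := (zpowers σ).subtype) ⟨σ, mem_zpowers σ⟩) with ht
  haveI : (ι.range).Normal := by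
    rw [hι, SemidirectProduct.range_inl_eq_ker_rightHom]
    infer_instance
  have hinj : Function.Injective ι := SemidirectProduct.inl_injective
  have htr : t ^ r = 1 := by
    rw [ht, ← map_pow, show (⟨σ, mem_zpowers σ⟩ : zpowers σ) ^ r = 1 from
      Subtype.ext (by rw [SubgroupClass.coe_pow, ← hσ, pow_orderOf_eq_one]; rfl), map_one]
  have hconj : ∀ g : G, t * ι g = ι (σ g) * t := fun g => by
    have := SemidirectProduct.inl_aut (φ := (zpowers σ).subtype) ⟨σ, mem_zpowers σ⟩ g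
    rw [ht, hι]
    show _ = SemidirectProduct.inl (((zpowers σ).subtype ⟨σ, mem_zpowers σ⟩) g) * _
    rw [this, map_inv, inv_mul_cancel_right]
  have hcard : Nat.card ι.range = Nat.card G :=
    (Nat.card_congr (MonoidHom.ofInjective hinj).toEquiv).symm
  have hmemC : ∀ g : G, ι g ∈ ι.range ⊓ centralizer (Singleton.singleton t :
      Set (SemidirectProduct G (zpowers σ) (zpowers σ).subtype)) ↔ g ∈ C := fun g => by
    rw [mem_inf, mem_centralizer_single, hC, hconj]
    exact ⟨fun h => hinj (mul_right_cancel h.2), fun h => ⟨⟨g, rfl⟩, by rw [h]⟩⟩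
  have hC' : HasNilChain n (ι.range ⊓ centralizer (Singleton.singleton t :
      Set (SemidirectProduct G (zpowers σ) (zpowers σ).subtype)) : Subgroup _) := by
    refine hn.of_surjective ((ι.comp C.subtype).codRestrict _ fun g => (hmemC g).2 g.2) fun y => ?_
    obtain ⟨g, hg⟩ := (mem_inf.1 y.2).1
    exact ⟨⟨g, (hmemC g).1 (by rw [hg]; exact y.2)⟩, Subtype.ext hg⟩
  have := height_le_fixed_add_two ι.range hr htr (by rwa [hcard])
    (Group.isSolvable_of_surjective (f := ι.rangeRestrict) ι.rangeRestrict_surjective) hC'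
  exact this.of_surjective (MonoidHom.ofInjective hinj).symm.toMonoidHom
    (MonoidHom.ofInjective hinj).symm.surjective

end Cfsg.Agent.FGS73.Turull
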