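import Cfsg.Agent.FGS73.Turull.TowerExists
import Cfsg.Agent.FGS73.Turull.Radical
import Cfsg.Agent.Lib.Coprime.Abelian
import Cfsg.Agent.Lib.PGroup.Basic

/-!
Minimal towers: the kernels of the actions and the consequences of minimality.
-/

set_option autoImplicit false

universe u

namespace Cfsg.Agent.FGS73.Turull

open Subgroup
open scoped commutatorElement IsMulCommutative

variable {Γ : Type u} [Group Γ]

/-- The subgroup generated by commutators and `p`-th powers. -/
def phi (P : Subgroup Γ) (p : ℕ) : Subgroup Γ := ⁅P, P⁆ ⊔ closure ((· ^ p) '' (P : Set Γ))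

theorem comm_mem_phi {P : Subgroup Γ} {p : ℕ} {x y : Γ} (hx : x ∈ P) (hy : y ∈ P) :
    ⁅x, y⁆ ∈ phi P p := mem_sup_left (commutator_mem_commutator hx hy)

theorem pow_mem_phi {P : Subgroup Γ} {p : ℕ} {x : Γ} (hx : x ∈ P) : x ^ p ∈ phi P p :=
  mem_sup_right (subset_closure ⟨x, hx, rfl⟩)

theorem phi_le {P : Subgroup Γ} {p : ℕ} : phi P p ≤ P :=
  sup_le (commutator_le.2 fun x hx y hy =>
    P.mul_mem (P.mul_mem (P.mul_mem hx hy) (P.inv_mem hx)) (P.inv_mem hy)) (by
    rw [closure_le]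
    rintro _ ⟨x, hx, rfl⟩
    exact pow_mem hx p)

theorem mem_normalizer_phi {P : Subgroup Γ} {p : ℕ} {g : Γ} (hg : g ∈ normalizer (P : Set Γ)) :
    g ∈ normalizer (SetLike.coe (phi P p)) := by
  rw [Subgroup.mem_normalizer_iff_map_conj_eq] at *
  rw [phi, Subgroup.map_sup, Subgroup.map_commutator, hg, MonoidHom.map_closure, ← Set.image_comp]
  congr 2
  conv_rhs => rw [← hg]
  ext x
  simp only [Set.mem_image, SetLike.mem_coe, Subgroup.mem_map, Function.comp_apply]
  constructor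
  · rintro ⟨y, hy, rfl⟩
    exact ⟨_, ⟨y, hy, rfl⟩, (map_pow _ _ _).symm⟩
  · rintro ⟨_, ⟨y, hy, rfl⟩, rfl⟩
    exact ⟨y, hy, map_pow _ _ _⟩

/-- Burnside's basis theorem. -/
theorem le_of_le_sup_phi [Finite Γ] {P S : Subgroup Γ} {p : ℕ} (hp : p.Prime) (hP : IsPGroup p P)
    (hS : S ≤ P) (h : P ≤ S ⊔ phi P p) : P ≤ S := by
  haveI := Fact.mk hp
  rw [← subgroupOf_eq_top]
  refine frattini_nongenerating (eq_top_iff.2 ?_)
  have hle : S ⊔ phi P p ≤ (S.subgroupOf P ⊔ frattini P).map P.subtype := by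
    rw [Subgroup.map_sup, map_subgroupOf_eq_of_le hS]
    refine sup_le le_sup_left (le_trans (sup_le (commutator_le.2 fun x hx y hy => ?_) ?_) le_sup_right)
    · exact ⟨⁅(⟨x, hx⟩ : P), ⟨y, hy⟩⁆, PGroup.comm_mem_frattini hP _ _, rfl⟩
    · rw [closure_le]
      rintro _ ⟨x, hx, rfl⟩
      exact ⟨(⟨x, hx⟩ : P) ^ p, PGroup.pow_mem_frattini hP _, rfl⟩
  intro x _
  obtain ⟨y, hy, hyx⟩ := hle (h x.2)
  exact Subtype.ext hyx ▸ hy

/-- The elements centralising `Q` modulo `S`. -/
def centMod (Q S : Subgroup Γ) : Subgroup Γ :=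
  normalizer (Q : Set Γ) ⊓ ⨅ y ∈ Q, modFix S y

theorem mem_centMod {Q S : Subgroup Γ} {g : Γ} : g ∈ centMod Q S ↔
    g ∈ normalizer (Q : Set Γ) ∧ g ∈ normalizer (S : Set Γ) ∧
      ∀ y ∈ Q, y⁻¹ * (g * y * g⁻¹) ∈ S := by
  simp only [centMod, mem_inf, mem_iInf, mem_modFix]
  exact ⟨fun h => ⟨h.1, (h.2 1 (one_mem Q)).1, fun y hy => (h.2 y hy).2⟩,
    fun h => ⟨h.1, fun y hy => ⟨h.2.1, h.2.2 y hy⟩⟩⟩

/-- Fixed points of a coprime action generated by commutators on an abelian section are trivial. -/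
theorem mem_of_fixed_mod [Finite Γ] {A Q R : Subgroup Γ} (hAQ : A ≤ normalizer (Q : Set Γ))
    (hAR : A ≤ normalizer (R : Set Γ)) (hQR : Q ≤ normalizer (R : Set Γ))
    (hcomm : ∀ x ∈ Q, ∀ y ∈ Q, ⁅x, y⁆ ∈ R) (hgen : Q ≤ ⁅Q, A⁆ ⊔ R)
    (hcop : (Nat.card A).Coprime (Nat.card Q)) {x : Γ} (hx : x ∈ Q)
    (hfix : ∀ a ∈ A, x⁻¹ * (a * x * a⁻¹) ∈ R) : x ∈ R := by
  set N := normalizer (R : Set Γ) with hN
  have hRN : R ≤ N := Subgroup.le_normalizer
  haveI : (R.subgroupOf N).Normal := (normal_subgroupOf_iff_le_normalizer hRN).2 le_rfl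
  set f := QuotientGroup.mk' (R.subgroupOf N) with hf
  set Q' := (Q.subgroupOf N).map f with hQ'
  set A' := (A.subgroupOf N).map f with hA'
  haveI : IsMulCommutative Q' := by
    refine ⟨⟨fun a b => Subtype.ext ?_⟩⟩
    obtain ⟨a', ha', hfa⟩ := a.2
    obtain ⟨b', hb', hfb⟩ := b.2
    show (a : N ⧸ R.subgroupOf N) * b = b * a
    rw [← hfa, ← hfb]
    refine commutatorElement_eq_one_iff_mul_comm.1 ?_
    rw [← map_commutatorElement]
    exact (QuotientGroup.eq_one_iff _).2 (hcomm (a' : Γ) ha' (b' : Γ) hb')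
  have hA'Q : A' ≤ normalizer (Q' : Set (N ⧸ R.subgroupOf N)) := by
    rintro _ ⟨a, ha, rfl⟩
    refine Coprime.mem_normalizer_of_le_iff ?_ ?_
    · rintro _ ⟨y, hy, rfl⟩
      exact ⟨a * y * a⁻¹, (Coprime.conj_mem_of_mem_normalizer (hAQ ha) hy :
        (a : Γ) * y * (a : Γ)⁻¹ ∈ Q), by simp⟩
    · rintro _ ⟨y, hy, rfl⟩
      exact ⟨a⁻¹ * y * a, (Coprime.conj_mem_of_mem_normalizer' (hAQ ha) hy :
        (a : Γ)⁻¹ * y * a ∈ Q), by simp⟩
  have hcop' : (Nat.card A').Coprime (Nat.card Q') := by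
    refine Nat.Coprime.coprime_dvd_left ?_ (Nat.Coprime.coprime_dvd_right ?_ hcop)
    · exact (card_map_dvd _ _).trans (card_comap_dvd_of_injective A N.subtype N.subtype_injective)
    · exact (card_map_dvd _ _).trans (card_comap_dvd_of_injective Q N.subtype N.subtype_injective)
  have hQN : Q ≤ N := hQR
  have hbot := Coprime.commutator_inf_centralizer_eq_bot A' Q' hA'Q hcop'
  have hQ'le : Q' ≤ ⁅Q', A'⁆ := by
    have hle : ⁅Q, A⁆ ⊔ R ≤ (⁅Q', A'⁆.comap f).map N.subtype := by
      refine sup_le (commutator_le.2 fun y hy a ha => ?_) fun w hw => ?_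
      · refine ⟨⁅(⟨y, hQN hy⟩ : N), ⟨a, hAR ha⟩⁆, ?_, rfl⟩
        show f _ ∈ ⁅Q', A'⁆
        rw [map_commutatorElement]
        exact commutator_mem_commutator (mem_map_of_mem f (show _ ∈ Q.subgroupOf N from hy))
          (mem_map_of_mem f (show _ ∈ A.subgroupOf N from ha))
      · refine ⟨⟨w, hRN hw⟩, ?_, rfl⟩
        show f _ ∈ ⁅Q', A'⁆
        rw [show f ⟨w, hRN hw⟩ = 1 from (QuotientGroup.eq_one_iff _).2 hw]
        exact one_mem _
    rintro _ ⟨y, hy, rfl⟩
    obtain ⟨y', hy', hyy⟩ := hle (hgen hy)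
    obtain rfl : y' = y := Subtype.ext hyy
    exact hy'
  have hfx : f ⟨x, hQN hx⟩ ∈ ⁅Q', A'⁆ ⊓ centralizer (A' : Set (N ⧸ R.subgroupOf N)) := by
    refine mem_inf.2 ⟨hQ'le ⟨_, hx, rfl⟩, mem_centralizer_iff.2 ?_⟩
    rintro _ ⟨a, ha, rfl⟩
    rw [← map_mul, ← map_mul]
    refine (QuotientGroup.eq.2 ?_).symm
    show ((⟨x, hQN hx⟩ * a : N) : Γ)⁻¹ * ((a * ⟨x, hQN hx⟩ : N) : Γ) ∈ R
    have h1 := Coprime.conj_mem_of_mem_normalizer' a.2 (hfix (a : Γ) ha)
    simp only [Subgroup.coe_mul, mul_inv_rev]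
    convert h1 using 1
    group
  rw [hbot, mem_bot] at hfx
  exact (QuotientGroup.eq_one_iff (⟨x, hQN hx⟩ : N)).1 hfx

/-- The kernels of the actions along a tower. -/
def towerKer (P : ℕ → Subgroup Γ) (h i : ℕ) : Subgroup Γ :=
  if i + 1 < h then P i ⊓ centMod (P (i + 1)) (towerKer P h (i + 1)) else ⊥
termination_by h - i

/-- The kernel together with the Frattini subgroup. -/
def towerRad (P : ℕ → Subgroup Γ) (p : ℕ → ℕ) (h i : ℕ) : Subgroup Γ :=
  towerKer P h i ⊔ phi (P i) (p i)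

theorem towerKer_le (P : ℕ → Subgroup Γ) (h i : ℕ) : towerKer P h i ≤ P i := by
  rw [towerKer]
  split
  · exact inf_le_left
  · exact bot_le

theorem mem_normalizer_towerKer {P : ℕ → Subgroup Γ} {h i : ℕ} {g : Γ}
    (hg : ∀ j, i ≤ j → j < h → g ∈ normalizer (P j : Set Γ)) :
    g ∈ normalizer (SetLike.coe (towerKer P h i)) := by
  induction hd : h - i generalizing i with
  | zero =>
    rw [towerKer, if_neg (by omega), normalizer_eq_top]
    trivial
  | succ d ih =>
    rw [towerKer]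
    split
    swap
    · rw [normalizer_eq_top]; trivial
    rename_i hi
    have hK := ih (i := i + 1) (fun j h1 h2 => hg j (by omega) h2) (by omega)
    have key : ∀ b : Γ, b ∈ normalizer (P i : Set Γ) → b ∈ normalizer (P (i + 1) : Set Γ) →
        b ∈ normalizer (SetLike.coe (towerKer P h (i + 1))) →
        ∀ x ∈ P i ⊓ centMod (P (i + 1)) (towerKer P h (i + 1)),
          b * x * b⁻¹ ∈ P i ⊓ centMod (P (i + 1)) (towerKer P h (i + 1)) := by
      intro b hb0 hb1 hb2 x hx
      obtain ⟨hxP, hxc⟩ := mem_inf.1 hx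
      obtain ⟨hx1, hx2, hx3⟩ := mem_centMod.1 hxc
      refine mem_inf.2 ⟨Coprime.conj_mem_of_mem_normalizer hb0 hxP, mem_centMod.2
        ⟨mul_mem (mul_mem hb1 hx1) (inv_mem hb1), mul_mem (mul_mem hb2 hx2) (inv_mem hb2),
          fun y hy => ?_⟩⟩
      have := Coprime.conj_mem_of_mem_normalizer hb2
        (hx3 _ (Coprime.conj_mem_of_mem_normalizer' hb1 hy))
      convert this using 1
      group
    exact Coprime.mem_normalizer_of_le_iff
      (key g (hg i le_rfl (by omega)) (hg _ (by omega) hi) hK) fun x hx => by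
        simpa using key g⁻¹ (inv_mem (hg i le_rfl (by omega))) (inv_mem (hg _ (by omega) hi))
          (inv_mem hK) x hx

theorem mem_normalizer_towerRad {P : ℕ → Subgroup Γ} {p : ℕ → ℕ} {h i : ℕ} {g : Γ} (hi : i < h)
    (hg : ∀ j, i ≤ j → j < h → g ∈ normalizer (P j : Set Γ)) :
    g ∈ normalizer (SetLike.coe (towerRad P p h i)) :=
  Coprime.le_normalizer_sup (A := zpowers g) (zpowers_le.2 (mem_normalizer_towerKer hg))
    (zpowers_le.2 (mem_normalizer_phi (hg i le_rfl hi))) (mem_zpowers g)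

/-- A tower of least total order. -/
structure MinTower (G0 : Subgroup Γ) (t : Γ) (r h : ℕ) (P : ℕ → Subgroup Γ) (p : ℕ → ℕ) : Prop
    extends IsTower G0 t h P p where
  r_prime : r.Prime
  t_pow : t ^ r = 1
  cop : ¬ r ∣ Nat.card G0
  min : ∀ P' : ℕ → Subgroup Γ, IsTower G0 t h P' p → (∀ i, P' i ≤ P i) →
    ∑ i ∈ Finset.range h, Nat.card (P i) ≤ ∑ i ∈ Finset.range h, Nat.card (P' i)

namespace MinTower

variable [Finite Γ] {G0 : Subgroup Γ} {t : Γ} {r h : ℕ} {P : ℕ → Subgroup Γ} {p : ℕ → ℕ}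
  (M : MinTower G0 t r h P p)

local notation "Kk" => towerKer P h
local notation "Rr" => towerRad P p h

include M

omit [Finite Γ] in
theorem norm_of_le {l i : ℕ} (hli : l ≤ i) {g : Γ} (hg : g ∈ P l) :
    ∀ j, i ≤ j → j < h → g ∈ normalizer (P j : Set Γ) :=
  fun j hij hj => M.norm j hj l (by omega) hg

omit [Finite Γ] in
theorem t_norm_all (i : ℕ) : ∀ j, i ≤ j → j < h → t ∈ normalizer (P j : Set Γ) :=
  fun j _ hj => M.t_norm j hj

omit [Finite Γ] in
theorem le_normalizer_ker {l i : ℕ} (hli : l ≤ i) : P l ≤ normalizer (SetLike.coe (Kk i)) :=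
  fun _ hg => mem_normalizer_towerKer (M.norm_of_le hli hg)

omit [Finite Γ] in
theorem le_normalizer_rad {l i : ℕ} (hli : l ≤ i) (hi : i < h) :
    P l ≤ normalizer (SetLike.coe (Rr i)) :=
  fun _ hg => mem_normalizer_towerRad hi (M.norm_of_le hli hg)

omit [Finite Γ] in
theorem mem_ker {i : ℕ} (hi : i + 1 < h) {x : Γ} (hx : x ∈ P i) :
    x ∈ Kk i ↔ ∀ y ∈ P (i + 1), y⁻¹ * (x * y * x⁻¹) ∈ Kk (i + 1) := by
  rw [towerKer, if_pos hi, mem_inf, mem_centMod]
  exact ⟨fun h => h.2.2.2, fun hh => ⟨hx, M.norm (i + 1) hi i (by omega) hx,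
    M.le_normalizer_ker (Nat.le_succ i) hx, hh⟩⟩

omit [Finite Γ] in
theorem mem_ker_of_commutator {i : ℕ} (hi : i + 1 < h) {X : Subgroup Γ} (hX : X ≤ P i)
    (h1 : ⁅P (i + 1), X⁆ ≤ Kk (i + 1)) : X ≤ Kk i := fun x hx =>
  (M.mem_ker hi (hX hx)).2 fun y hy => by
    have := h1 (commutator_mem_commutator (inv_mem hy) hx)
    simpa [commutatorElement_def, mul_assoc] using this

omit [Finite Γ] in
theorem ker_last {i : ℕ} (hi : ¬ i + 1 < h) : Kk i = ⊥ := by rw [towerKer, if_neg hi]

omit [Finite Γ] in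
theorem not_le_ker {i : ℕ} (hi : i < h) : ¬ P i ≤ Kk i := by
  induction hd : h - i generalizing i with
  | zero => omega
  | succ d ih =>
    intro hle
    by_cases hi1 : i + 1 < h
    · refine ih hi1 (by omega) ((M.step i hi1).trans (commutator_le.2 fun y hy x hx => ?_))
      have h2 := (M.mem_ker hi1 hx).1 (hle hx) y⁻¹ (inv_mem hy)
      simpa [commutatorElement_def, mul_assoc] using h2
    · rw [M.ker_last hi1] at hle
      exact M.last (le_bot_iff.1 (by rwa [show h - 1 = i by omega]))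

omit [Finite Γ] in
theorem rad_le (i : ℕ) : Rr i ≤ P i := sup_le (towerKer_le P h i) phi_le

theorem le_of_le_sup_rad {i : ℕ} (hi : i < h) {S : Subgroup Γ} (hK : Kk i ≤ S) (hS : S ≤ P i)
    (hle : P i ≤ S ⊔ Rr i) : P i ≤ S :=
  le_of_le_sup_phi (M.prime i hi) (M.pgroup i hi) hS (hle.trans (sup_le le_sup_left
    (sup_le (hK.trans le_sup_left) le_sup_right)))

theorem not_le_rad {i : ℕ} (hi : i < h) : ¬ P i ≤ Rr i := fun hle =>
  M.not_le_ker hi (M.le_of_le_sup_rad hi le_rfl (towerKer_le P h i) (hle.trans le_sup_right))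

theorem ne_r {i : ℕ} (hi : i < h) : p i ≠ r := by
  intro he
  haveI := Fact.mk (M.prime i hi)
  obtain ⟨m, hm⟩ := IsPGroup.iff_card.1 (M.pgroup i hi)
  refine M.cop (Dvd.dvd.trans ?_ (card_dvd_of_le (M.le i hi)))
  rw [hm, ← he]
  refine dvd_pow_self (p i) fun hm0 => M.not_le_ker hi ?_
  rw [hm0, pow_zero] at hm
  rw [Subgroup.eq_bot_of_card_eq _ hm]
  exact bot_le

theorem coprime_t {i : ℕ} (hi : i < h) {X : Subgroup Γ} (hX : X ≤ P i) :
    (Nat.card (zpowers t)).Coprime (Nat.card X) :=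
  coprime_prime M.r_prime M.t_pow M.cop (hX.trans (M.le i hi))

/-- Replacement. -/
theorem eq_of_invariant {i : ℕ} (hi : i < h) {X : Subgroup Γ} (hX : X ≤ P i)
    (hn : ∀ j < i, P j ≤ normalizer (X : Set Γ)) (ht : t ∈ normalizer (X : Set Γ))
    (hK : ¬ X ≤ Kk i) (hstep : ∀ i', i = i' + 1 → X ≤ ⁅X, P i'⁆) : X = P i := by
  classical
  obtain ⟨Y, hY0, hYs⟩ : ∃ Y : ℕ → Subgroup Γ, Y 0 = X ∧
      ∀ d, Y (d + 1) = ⁅P (i + d + 1), Y d⁆ :=
    ⟨fun d => Nat.rec (motive := fun _ => Subgroup Γ) X (fun e Ye => ⁅P (i + e + 1), Ye⁆) d,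
      rfl, fun _ => rfl⟩
  have hall : ∀ d, i + d < h → Y d ≤ P (i + d) ∧ ¬ Y d ≤ Kk (i + d) ∧
      t ∈ normalizer (SetLike.coe (Y d)) ∧ (∀ j < i, P j ≤ normalizer (SetLike.coe (Y d))) ∧
      ∀ e < d, Y e ≤ P (i + e) ∧ Y e ≤ normalizer (SetLike.coe (Y d)) := by
    intro d
    induction d with
    | zero =>
      exact fun _ => hY0.symm ▸ ⟨hX, hK, ht, hn, fun e he => absurd he (Nat.not_lt_zero e)⟩
    | succ d ih =>
      intro hd
      obtain ⟨h1, h2, h3, h4, h5⟩ := ih (by omega)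
      have hP : Y d ≤ normalizer (P (i + d + 1) : Set Γ) :=
        h1.trans (M.norm _ hd _ (Nat.le_succ _))
      refine ⟨?_, ?_, ?_, fun j hj g hg => ?_, fun e he => ?_⟩
      · rw [hYs]; exact Coprime.commutator_le_of_le_normalizer hP
      · rw [hYs]
        exact fun hle => h2 (M.mem_ker_of_commutator hd h1 hle)
      · rw [hYs]; exact mem_normalizer_commutator (M.t_norm _ hd) h3
      · rw [hYs]
        exact mem_normalizer_commutator (M.norm _ hd j (by omega) hg) (h4 j hj hg)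
      · rw [hYs]
        rcases (Nat.lt_succ_iff.1 he).lt_or_eq with he' | rfl
        · exact ⟨(h5 e he').1, fun g hg => mem_normalizer_commutator
            (M.norm _ hd (i + e) (by omega) ((h5 e he').1 hg)) ((h5 e he').2 hg)⟩
        · exact ⟨h1, Coprime.le_normalizer_commutator_right _ _⟩
  let P' : ℕ → Subgroup Γ := fun j => if j < i then P j else Y (j - i)
  have hlow : ∀ j < i, P' j = P j := fun j hj => if_pos hj
  have hhigh : ∀ j, i ≤ j → P' j = Y (j - i) := fun j hj => if_neg (by omega)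
  have hle : ∀ j < h, P' j ≤ P j := fun j hj => by
    rcases lt_or_ge j i with hji | hji
    · rw [hlow j hji]
    · rw [hhigh j hji]
      have := (hall (j - i) (by omega)).1
      rwa [show i + (j - i) = j by omega] at this
  have hT : IsTower G0 t h P' p := by
    refine ⟨fun j hj => (hle j hj).trans (M.le j hj), M.prime,
      fun j hj => (M.pgroup j hj).to_le (hle j hj), fun j hj => ?_, fun j hj l hl => ?_, M.p_ne,
      fun j hj => ?_, ?_⟩
    · rcases lt_or_ge j i with hji | hji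
      · rw [hlow j hji]; exact M.t_norm j hj
      · rw [hhigh j hji]; exact (hall _ (by omega)).2.2.1
    · rcases lt_or_ge j i with hji | hji
      · rw [hlow j hji, hlow l (by omega)]; exact M.norm j hj l hl
      · rw [hhigh j hji]
        rcases lt_or_ge l i with hli | hli
        · rw [hlow l hli]; exact (hall _ (by omega)).2.2.2.1 l hli
        · rw [hhigh l hli]
          rcases hl.lt_or_eq with hl | rfl
          · exact ((hall _ (by omega)).2.2.2.2 (l - i) (by omega)).2
          · exact Subgroup.le_normalizer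
    · rcases lt_trichotomy (j + 1) i with hji | hji | hji
      · rw [hlow (j + 1) hji, hlow j (by omega)]; exact M.step j hj
      · rw [hlow j (by omega), hhigh (j + 1) (by omega), hji, Nat.sub_self, hY0]
        exact hstep j hji.symm
      · rw [hhigh (j + 1) (by omega), hhigh j (by omega), show j + 1 - i = j - i + 1 by omega, hYs,
          show i + (j - i) + 1 = j + 1 by omega]
        obtain ⟨h1, -⟩ := hall (j - i) (by omega)
        rw [show i + (j - i) = j by omega] at h1
        refine (Coprime.commutator_commutator_eq (Y (j - i)) (P (j + 1))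
          (h1.trans (M.norm _ hj j (Nat.le_succ j)))
          (M.coprime (by omega) hj (M.p_ne j hj) h1 le_rfl) (Or.inl ?_)).ge
        haveI := ((M.pgroup j (by omega)).to_le h1).isNilpotent (hp := ⟨M.prime j (by omega)⟩)
        infer_instance
    · intro h0
      rcases lt_or_ge (h - 1) i with hhi | hhi
      · rw [hlow _ hhi] at h0; exact M.last h0
      · rw [hhigh _ hhi] at h0
        refine (hall (h - 1 - i) (by omega)).2.1 ?_
        rw [h0]; exact bot_le
  by_contra hne
  have hsum : ∑ j ∈ Finset.range h, Nat.card (P' j) < ∑ j ∈ Finset.range h, Nat.card (P j) := by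
    refine Finset.sum_lt_sum (fun j hj => card_le_of_le (hle j (Finset.mem_range.1 hj)))
      ⟨i, Finset.mem_range.2 hi, ?_⟩
    rw [hhigh i le_rfl, Nat.sub_self, hY0]
    exact lt_of_le_of_ne (card_le_of_le hX) fun he => hne (eq_of_le_of_card_ge hX he.ge)
  refine absurd (M.min (fun j => if j < h then P' j else ⊥) ?_ fun j => ?_) (not_le.2 ?_)
  · exact ⟨fun j hj => by simpa [hj] using hT.le j hj, hT.prime,
      fun j hj => by rw [if_pos hj]; exact hT.pgroup j hj,
      fun j hj => by rw [if_pos hj]; exact hT.t_norm j hj,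
      fun j hj l hl => by rw [if_pos hj, if_pos (by omega)]; exact hT.norm j hj l hl, hT.p_ne,
      fun j hj => by rw [if_pos hj, if_pos (by omega)]; exact hT.step j hj,
      by rw [if_pos (by omega)]; exact hT.last⟩
  · split
    · exact hle j ‹_›
    · exact bot_le
  · refine lt_of_eq_of_lt (Finset.sum_congr rfl fun j hj => ?_) hsum
    rw [if_pos (Finset.mem_range.1 hj)]

/-- A proper invariant subgroup is centralised modulo the kernel by the previous term. -/
theorem small {i : ℕ} (hi : i + 1 < h) {X : Subgroup Γ} (hX : X ≤ P (i + 1))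
    (hn : ∀ j ≤ i, P j ≤ normalizer (X : Set Γ)) (ht : t ∈ normalizer (X : Set Γ))
    (hne : X ≠ P (i + 1)) : ⁅X, P i⁆ ≤ Kk (i + 1) := by
  by_contra hK
  have hXP : P i ≤ normalizer (X : Set Γ) := hn i le_rfl
  have hYX := Coprime.commutator_le_of_le_normalizer hXP
  have hY : ⁅X, P i⁆ = P (i + 1) := M.eq_of_invariant hi (hYX.trans hX)
    (fun j hj g hg => mem_normalizer_commutator (hn j (by omega) hg)
      (M.norm i (by omega) j (by omega) hg))
    (mem_normalizer_commutator ht (M.t_norm i (by omega))) hK fun i' hi' => by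
      obtain rfl : i = i' := by omega
      haveI := (M.pgroup i (by omega)).isNilpotent (hp := ⟨M.prime i (by omega)⟩)
      exact (Coprime.commutator_commutator_eq (P i) X hXP
        (M.coprime (by omega) hi (M.p_ne i hi) le_rfl hX) (Or.inl inferInstance)).ge
  exact hne (le_antisymm hX (hY ▸ hYX))

/-- The radical is centralised modulo the kernel by the previous term. -/
theorem rad_comm_prev {i : ℕ} (hi : i + 1 < h) : ⁅Rr (i + 1), P i⁆ ≤ Kk (i + 1) :=
  M.small hi (M.rad_le _) (fun _ hj => M.le_normalizer_rad (by omega) hi)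
    (mem_normalizer_towerRad hi (M.t_norm_all _))
    fun he => M.not_le_rad hi he.ge

/-- The radical is central modulo the kernel. -/
theorem rad_central {i : ℕ} (hi : i < h) {x z : Γ} (hx : x ∈ P i) (hz : z ∈ Rr i) :
    z⁻¹ * (x * z * x⁻¹) ∈ Kk i := by
  rcases Nat.eq_zero_or_pos i with rfl | hi0
  · by_cases hR : Rr 0 ≤ Kk 0
    · have hzK := hR hz
      exact mul_mem (inv_mem hzK)
        (Coprime.conj_mem_of_mem_normalizer (M.le_normalizer_ker le_rfl hx) hzK)
    · exact absurd (M.eq_of_invariant hi (M.rad_le 0) (fun j hj => absurd hj (Nat.not_lt_zero j))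
        (mem_normalizer_towerRad hi (M.t_norm_all 0)) hR (fun i' hi' => by omega))
        fun he => M.not_le_rad hi he.ge
  · obtain ⟨j, rfl⟩ : ∃ j, i = j + 1 := ⟨i - 1, by omega⟩
    set S := ⨅ w ∈ Rr (j + 1), modFix (Kk (j + 1)) w with hS
    have hmem : ∀ a ∈ P j, a ∈ S := fun a ha => by
      simp only [hS, mem_iInf, mem_modFix]
      refine fun w hw => ⟨M.le_normalizer_ker (Nat.le_succ j) ha, ?_⟩
      have := M.rad_comm_prev hi (commutator_mem_commutator (inv_mem hw) ha)
      simpa [commutatorElement_def, mul_assoc] using this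
    have hle : P (j + 1) ≤ S := by
      refine (M.step j hi).trans (commutator_le.2 fun q hq a ha => ?_)
      simp only [hS, mem_iInf, mem_modFix]
      intro w hw
      have hqR : q ∈ normalizer (SetLike.coe (Rr (j + 1))) := M.le_normalizer_rad le_rfl hi hq
      have hqK : q ∈ normalizer (SetLike.coe (Kk (j + 1))) := M.le_normalizer_ker le_rfl hq
      have haK : a ∈ normalizer (SetLike.coe (Kk (j + 1))) := M.le_normalizer_ker (Nat.le_succ j) ha
      have hb := hmem a ha
      simp only [hS, mem_iInf, mem_modFix] at hb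
      have ha' := hmem a⁻¹ (inv_mem ha)
      simp only [hS, mem_iInf, mem_modFix] at ha'
      refine ⟨mul_mem (mul_mem (mul_mem hqK haK) (inv_mem hqK)) (inv_mem haK), ?_⟩
      have haR : a ∈ normalizer (SetLike.coe (Rr (j + 1))) := M.le_normalizer_rad (Nat.le_succ j) hi ha
      have hv : a⁻¹ * w * a ∈ Rr (j + 1) := Coprime.conj_mem_of_mem_normalizer' haR hw
      have hu : q⁻¹ * (a⁻¹ * w * a) * q ∈ Rr (j + 1) := Coprime.conj_mem_of_mem_normalizer' hqR hv
      -- the two conjugations by `a` disappear modulo the kernel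
      have h1 := Coprime.conj_mem_of_mem_normalizer hqK (hb _ hu).2
      have h2 := (ha' _ hw).2
      rw [inv_inv] at h2
      have := (Kk (j + 1)).mul_mem h2 h1
      convert this using 1
      simp [commutatorElement_def, mul_assoc]
    have := hle hx
    simp only [hS, mem_iInf, mem_modFix] at this
    exact (this z hz).2

/-- Invariant subgroups over the radical are trivial or everything. -/
theorem irreducible {i : ℕ} (hi : i + 1 < h) {X : Subgroup Γ} (hX : X ≤ P (i + 1))
    (hn : ∀ j ≤ i, P j ≤ normalizer (X : Set Γ)) (ht : t ∈ normalizer (X : Set Γ))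
    (hne : X ≠ P (i + 1)) : X ≤ Rr (i + 1) := fun x hx => by
  refine mem_of_fixed_mod (A := P i) (M.norm _ hi i (Nat.le_succ i))
    (M.le_normalizer_rad (Nat.le_succ i) hi) (M.le_normalizer_rad le_rfl hi)
    (fun a ha b hb => mem_sup_right (comm_mem_phi ha hb))
    ((M.step i hi).trans le_sup_left) (M.coprime (by omega) hi (M.p_ne i hi) le_rfl le_rfl) (hX hx)
    fun a ha => mem_sup_left ?_
  have := M.small hi hX hn ht hne (commutator_mem_commutator (inv_mem hx) ha)
  simpa [commutatorElement_def, mul_assoc] using this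

/-- The kernel of the action on the next section. -/
theorem mem_ker_of_rad {i : ℕ} (hi : i + 1 < h) {x : Γ} (hx : x ∈ P i)
    (hfix : ∀ y ∈ P (i + 1), y⁻¹ * (x * y * x⁻¹) ∈ Rr (i + 1)) : x ∈ Kk i := by
  refine (M.mem_ker hi hx).2 ?_
  have hxP : x ∈ normalizer (P (i + 1) : Set Γ) := M.norm _ hi i (Nat.le_succ i) hx
  have hxK : x ∈ normalizer (SetLike.coe (Kk (i + 1))) := M.le_normalizer_ker (Nat.le_succ i) hx
  have hxR : zpowers x ≤ normalizer (SetLike.coe (Rr (i + 1))) :=
    zpowers_le.2 (M.le_normalizer_rad (Nat.le_succ i) hi hx)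
  let S : Subgroup Γ :=
    { carrier := {y | y ∈ P (i + 1) ∧ y⁻¹ * (x * y * x⁻¹) ∈ Kk (i + 1)}
      one_mem' := ⟨one_mem _, by simp⟩
      mul_mem' := fun {a b} ha hb => ⟨mul_mem ha.1 hb.1, by
        have h1 := mul_mem (Coprime.conj_mem_of_mem_normalizer'
          (M.le_normalizer_ker le_rfl hb.1) ha.2) hb.2
        convert h1 using 1
        group⟩
      inv_mem' := fun {a} ha => ⟨inv_mem ha.1, by
        have h1 := Coprime.conj_mem_of_mem_normalizer (M.le_normalizer_ker le_rfl ha.1)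
          (inv_mem ha.2)
        convert h1 using 1
        group⟩ }
  have hK : Kk (i + 1) ≤ S := fun y hy => ⟨towerKer_le P h _ hy,
    mul_mem (inv_mem hy) (Coprime.conj_mem_of_mem_normalizer hxK hy)⟩
  have hsol : Group.IsSolvable (zpowers x) := zpowers_solvable x
  have hfixed : ∀ y ∈ P (i + 1), ∀ a ∈ zpowers x, y⁻¹ * (a * y * a⁻¹) ∈ Rr (i + 1) := by
    intro y hy a ha
    have hle : zpowers x ≤ modFix (Rr (i + 1)) y :=
      zpowers_le.2 (mem_modFix.2 ⟨hxR (mem_zpowers x), hfix y hy⟩)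
    exact (mem_modFix.1 (hle ha)).2
  have hle := M.le_of_le_sup_rad hi (S := S) hK (fun y hy => hy.1) fun y hy => by
    obtain ⟨n, hn, hc⟩ := Coprime.exists_fixed_in_coset (zpowers x) (Rr (i + 1)) hxR
      (M.coprime (by omega) hi (M.p_ne i hi) (zpowers_le.2 hx) (M.rad_le _)) (Or.inl hsol) y
      (hfixed y hy)
    rw [show y = y * n * n⁻¹ by group]
    refine mul_mem_sup ⟨mul_mem hy (M.rad_le _ hn), ?_⟩ (inv_mem hn)
    rw [mem_centralizer_iff.1 hc x (mem_zpowers x), mul_inv_cancel_right, inv_mul_cancel]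
    exact one_mem _
  exact fun y hy => (hle hy).2

/-- Outside the first sections `t` moves the Frattini factor. -/
theorem not_commutator_le_rad {k : ℕ} (hk : k < h) (hPk : P k ≤ ⁅P k, zpowers t⁆) :
    ∀ i, k ≤ i → i < h → ¬ ⁅P i, zpowers t⁆ ≤ Rr i := by
  intro i hki
  induction i, hki using Nat.le_induction with
  | base => exact fun _ hle => M.not_le_rad hk (hPk.trans hle)
  | succ i hki ih =>
    intro hi hle
    refine ih (by omega) (commutator_le.2 fun x hx a ha => mem_sup_left ?_)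
    have htP : zpowers t ≤ normalizer (P i : Set Γ) := zpowers_le.2 (M.t_norm i (by omega))
    refine M.mem_ker_of_rad hi (Coprime.commutator_le_of_le_normalizer htP
      (commutator_mem_commutator hx ha)) fun y hy => ?_
    -- `t` is trivial on the next section
    set S := ⨅ w ∈ P (i + 1), modFix (Rr (i + 1)) w with hS
    have hxR : x ∈ normalizer (SetLike.coe (Rr (i + 1))) :=
      M.le_normalizer_rad (Nat.le_succ i) hi hx
    have hzt : ∀ b ∈ zpowers t, ∀ w ∈ P (i + 1), w⁻¹ * (b * w * b⁻¹) ∈ Rr (i + 1) := by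
      intro b hb w hw
      have h1 := hle (commutator_mem_commutator (inv_mem hw) hb)
      simpa [commutatorElement_def, mul_assoc] using h1
    have htR : zpowers t ≤ normalizer (SetLike.coe (Rr (i + 1))) :=
      zpowers_le.2 (mem_normalizer_towerRad hi (M.t_norm_all _))
    have hxP : x ∈ normalizer (P (i + 1) : Set Γ) := M.norm _ hi i (Nat.le_succ i) hx
    have htP' : zpowers t ≤ normalizer (P (i + 1) : Set Γ) := zpowers_le.2 (M.t_norm _ hi)
    have hv : a⁻¹ * y * a ∈ P (i + 1) := Coprime.conj_mem_of_mem_normalizer' (htP' ha) hy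
    have hu : x⁻¹ * (a⁻¹ * y * a) * x ∈ P (i + 1) := Coprime.conj_mem_of_mem_normalizer' hxP hv
    have h1 := Coprime.conj_mem_of_mem_normalizer hxR (hzt a ha _ hu)
    have h2 := hzt a⁻¹ (inv_mem ha) y hy
    rw [inv_inv] at h2
    have := (Rr (i + 1)).mul_mem h2 h1
    convert this using 1
    simp [commutatorElement_def, mul_assoc]

end MinTower

end Cfsg.Agent.FGS73.Turull
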