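import Cfsg.Agent.FGS73.Turull.Weights
import Mathlib.RingTheory.Flat.Basic
import Mathlib.RingTheory.TensorProduct.Maps

/-!
The representation on an elementary abelian section over an algebraically closed field.
-/

set_option autoImplicit false

universe u

namespace Cfsg.Agent.FGS73.Turull

open Subgroup Module
open scoped commutatorElement TensorProduct
open Cfsg.Agent.LinAct (rho_mul rho_one rho_inv_apply)

variable {F : Type} [Field F] {K : Type} [Field K] [Algebra F K] {V : Type u} [AddCommGroup V]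
  [Module F V]

theorem finrank_range_baseChange [FiniteDimensional F V] (f : Module.End F V) :
    finrank K (LinearMap.range (f.baseChange K)) = finrank F (LinearMap.range f) := by
  have hinj : Function.Injective ((LinearMap.range f).subtype.baseChange K) := by
    obtain ⟨g, hg⟩ := (LinearMap.range f).subtype.exists_leftInverse_of_injective
      (Submodule.ker_subtype _)
    intro a b hab
    have h := congrArg (g.baseChange K) hab
    rw [← LinearMap.comp_apply, ← LinearMap.comp_apply, ← LinearMap.baseChange_comp, hg,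
      LinearMap.baseChange_id] at h
    exact h
  have hsurj : Function.Surjective (f.rangeRestrict.baseChange K) := by
    obtain ⟨g, hg⟩ := f.rangeRestrict.exists_rightInverse_of_surjective f.range_rangeRestrict
    intro y
    refine ⟨g.baseChange K y, ?_⟩
    rw [← LinearMap.comp_apply, ← LinearMap.baseChange_comp, hg, LinearMap.baseChange_id]
    rfl
  have e : f.baseChange K = ((LinearMap.range f).subtype.baseChange K).comp
      (f.rangeRestrict.baseChange K) := by
    rw [← LinearMap.baseChange_comp]; rfl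
  rw [e, LinearMap.range_comp_of_range_eq_top _ (LinearMap.range_eq_top.2 hsurj),
    LinearMap.finrank_range_of_inj hinj, Module.finrank_baseChange]

/-- The normaliser of a section. -/
def secNorm {Γ : Type u} [Group Γ] (Q R : Subgroup Γ) : Subgroup Γ :=
  normalizer (Q : Set Γ) ⊓ normalizer (R : Set Γ)

/-- `Q/R` is an elementary abelian `p`-group. -/
structure SecHyp {Γ : Type u} [Group Γ] (Q R : Subgroup Γ) (p : ℕ) : Prop where
  prime : p.Prime
  le : R ≤ Q
  norm : Q ≤ normalizer (R : Set Γ)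
  comm : ∀ x ∈ Q, ∀ y ∈ Q, ⁅x, y⁆ ∈ R
  exp : ∀ x ∈ Q, x ^ p ∈ R

/-- The properties of the representation of the normaliser on an elementary abelian section. -/
structure SecRep {Γ : Type u} [Group Γ] (Q R : Subgroup Γ) (p : ℕ) (K : Type) [Field K]
    (U : Type u) [AddCommGroup U] [Module K U] (ρ : secNorm Q R →* Module.End K U) : Prop where
  triv : ∀ g, ρ g = 1 ↔ ∀ x ∈ Q, x⁻¹ * ((g : Γ) * x * (g : Γ)⁻¹) ∈ R
  no_fixed : ∀ A : Subgroup (secNorm Q R), (Nat.card A : K) ≠ 0 →
    (∀ x ∈ Q, (∀ a ∈ A, x⁻¹ * ((a : Γ) * x * (a : Γ)⁻¹) ∈ R) → x ∈ R) →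
    ∀ w, (∀ a ∈ A, ρ a w = w) → w = 0
  kills : ∀ (σ g : secNorm Q R) (r : ℕ), (r : K) ≠ 0 → σ ^ r = 1 →
    (∀ x ∈ Q, x⁻¹ * ((σ : Γ) * x * (σ : Γ)⁻¹) ∈ R → x⁻¹ * ((g : Γ) * x * (g : Γ)⁻¹) ∈ R) →
    ∀ w, ρ σ w = w → ρ g w = w
  noBad : ∀ (Q' : Subgroup (secNorm Q R)) (σ : secNorm Q R) (r : ℕ), (r : K) ≠ 0 → σ ^ r = 1 →
    (∀ S : Subgroup Γ, R ≤ S → S ≤ Q →
      (∀ g ∈ Q' ⊔ zpowers σ, (g : Γ) ∈ normalizer (S : Set Γ)) →
      (∀ x ∈ S, x⁻¹ * ((σ : Γ) * x * (σ : Γ)⁻¹) ∈ R → x ∈ R) → S ≤ R) →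
    NoBad ρ Q' σ
  fixed_line : ∀ σ : secNorm Q R, finrank K (LinearMap.ker (ρ σ - 1)) = 1 →
    ∀ x ∈ Q, ∀ y ∈ Q, x ∉ R → x⁻¹ * ((σ : Γ) * x * (σ : Γ)⁻¹) ∈ R →
      y⁻¹ * ((σ : Γ) * y * (σ : Γ)⁻¹) ∈ R → ∃ j : ℕ, (x ^ j)⁻¹ * y ∈ R
  range : ∀ (σ : secNorm Q R) (k : ℕ),
    R.relIndex ⁅Q, zpowers (σ : Γ)⁆ = p ^ k → finrank K (LinearMap.range (ρ σ - 1)) = k

/-- The vectors of the section. -/
structure SecVec {Γ : Type u} [Group Γ] (Q R : Subgroup Γ) (p : ℕ) (K : Type) [Field K]
    (U : Type u) [AddCommGroup U] [Module K U] (ρ : secNorm Q R →* Module.End K U) (e : Γ → U) :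
    Prop where
  equiv : ∀ (g : secNorm Q R), ∀ x ∈ Q, ρ g (e x) = e ((g : Γ) * x * (g : Γ)⁻¹)
  add : ∀ x ∈ Q, ∀ y ∈ Q, e (x * y) = e x + e y
  zero_iff : ∀ x ∈ Q, (e x = 0 ↔ x ∈ R)
  span : Submodule.span K (e '' (Q : Set Γ)) = ⊤
  sep : ∀ P : (Γ → ZMod p) → Prop,
    (∀ x ∈ Q, x ∉ R → ∃ ω : Γ → ZMod p, P ω ∧ (∀ y ∈ Q, ∀ z ∈ Q, ω (y * z) = ω y + ω z) ∧
      (∀ y ∈ R, ω y = 0) ∧ ω x ≠ 0) →
    ∀ w : U, w ≠ 0 → ∃ (ω : Γ → ZMod p) (φ : U →ₗ[K] K), P ω ∧
      (∀ x ∈ Q, φ (e x) = ((ω x).val : K)) ∧ φ w ≠ 0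

theorem exists_secRep {Γ : Type u} [Group Γ] [Finite Γ] (Q R : Subgroup Γ) {p : ℕ}
    [hp : Fact p.Prime] (h : SecHyp Q R p) :
    ∃ (U : Type u) (_ : AddCommGroup U) (_ : Module (AlgebraicClosure (ZMod p)) U)
      (_ : FiniteDimensional (AlgebraicClosure (ZMod p)) U)
      (ρ : secNorm Q R →* Module.End (AlgebraicClosure (ZMod p)) U) (e : Γ → U),
      SecRep Q R p (AlgebraicClosure (ZMod p)) U ρ ∧
        SecVec Q R p (AlgebraicClosure (ZMod p)) U ρ e := by
  classical
  set N := secNorm Q R with hN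
  haveI hRn : (R.subgroupOf Q).Normal := (normal_subgroupOf_iff_le_normalizer h.le).2 h.norm
  let M := Q ⧸ R.subgroupOf Q
  have hmk : ∀ x y : Q, (QuotientGroup.mk x : M) = QuotientGroup.mk y ↔ (x : Γ)⁻¹ * y ∈ R :=
    fun x y => by rw [QuotientGroup.eq, Subgroup.mem_subgroupOf]; rfl
  have hcomm : ∀ u w : M, u * w = w * u := by
    intro u w
    obtain ⟨u, rfl⟩ := QuotientGroup.mk_surjective u
    obtain ⟨w, rfl⟩ := QuotientGroup.mk_surjective w
    rw [← QuotientGroup.mk_mul, ← QuotientGroup.mk_mul, hmk]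
    have := h.comm (w : Γ)⁻¹ (inv_mem w.2) (u : Γ)⁻¹ (inv_mem u.2)
    convert this using 1
    simp [commutatorElement_def, mul_assoc]
  letI : CommGroup M := { (inferInstance : Group M) with mul_comm := hcomm }
  have hexp : ∀ u : M, u ^ p = 1 := by
    intro u
    obtain ⟨u, rfl⟩ := QuotientGroup.mk_surjective u
    rw [← QuotientGroup.mk_pow, ← QuotientGroup.mk_one, eq_comm, hmk]
    simpa using h.exp (u : Γ) u.2
  letI : Module (ZMod p) (Additive M) :=
    AddCommGroup.zmodModule (n := p) (G := Additive M) fun v => congrArg Additive.ofMul (hexp v.toMul)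
  haveI : Module.Finite (ZMod p) (Additive M) := Module.Finite.of_finite
  let el : Q → Additive M := fun x => Additive.ofMul (QuotientGroup.mk x)
  have hel : ∀ v, ∃ x, el x = v := fun v =>
    (QuotientGroup.mk_surjective v.toMul).imp fun x hx => congrArg Additive.ofMul hx
  let cj : N → Q →* Q := fun g =>
    { toFun := fun x => ⟨(g : Γ) * x * (g : Γ)⁻¹, Coprime.conj_mem_of_mem_normalizer g.2.1 x.2⟩
      map_one' := Subtype.ext (by simp)
      map_mul' := fun x y => Subtype.ext (by simp [mul_assoc]) }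
  let mq : N → M →* M := fun g => QuotientGroup.map _ _ (cj g) fun x hx =>
    Subgroup.mem_comap.2 (Coprime.conj_mem_of_mem_normalizer g.2.2 hx)
  let lin : N → Module.End (ZMod p) (Additive M) := fun g =>
    (MonoidHom.toAdditive (mq g)).toZModLinearMap p
  have hlin : ∀ g x, lin g (el x) = el (cj g x) := fun g x => rfl
  let ρ₀ : N →* Module.End (ZMod p) (Additive M) :=
    { toFun := lin
      map_one' := LinearMap.ext fun v => by
        obtain ⟨x, rfl⟩ := hel v
        rw [hlin]; exact congrArg el (Subtype.ext (by simp [cj]))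
      map_mul' := fun a b => LinearMap.ext fun v => by
        obtain ⟨x, rfl⟩ := hel v
        rw [Module.End.mul_apply, hlin, hlin, hlin]
        exact congrArg el (Subtype.ext (by simp [cj, mul_assoc])) }
  have hρ₀ : ∀ g x, ρ₀ g (el x) = el (cj g x) := fun g x => rfl
  have hfix : ∀ g x, ρ₀ g (el x) = el x ↔ (x : Γ)⁻¹ * ((g : Γ) * x * (g : Γ)⁻¹) ∈ R := by
    intro g x
    rw [hρ₀]
    exact ⟨fun he => (hmk _ _).1 (Additive.ofMul.injective he).symm,
      fun he => congrArg Additive.ofMul ((hmk _ _).2 he).symm⟩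
  have hel0 : ∀ x, el x = 0 ↔ (x : Γ) ∈ R := by
    intro x
    show Additive.ofMul _ = Additive.ofMul 1 ↔ _
    rw [Additive.ofMul.injective.eq_iff, ← QuotientGroup.mk_one, eq_comm, hmk]
    simp
  let bc : Module.End (ZMod p) (Additive M) →+*
      Module.End (AlgebraicClosure (ZMod p)) (AlgebraicClosure (ZMod p) ⊗[ZMod p] Additive M) :=
    (Module.End.baseChangeHom (ZMod p) (AlgebraicClosure (ZMod p)) (Additive M)).toRingHom
  have hbc : Function.Injective bc := by
    intro f g hfg
    refine LinearMap.ext fun v => ?_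
    have := LinearMap.congr_fun hfg ((1 : AlgebraicClosure (ZMod p)) ⊗ₜ[ZMod p] v)
    exact Module.FaithfullyFlat.tensorProduct_mk_injective (A := ZMod p)
      (B := AlgebraicClosure (ZMod p)) (Additive M) this
  let ρ := bc.toMonoidHom.comp ρ₀
  have hρ : ∀ g, ρ g = bc (ρ₀ g) := fun _ => rfl
  let e : Γ → AlgebraicClosure (ZMod p) ⊗[ZMod p] Additive M := fun x =>
    if hx : x ∈ Q then (1 : AlgebraicClosure (ZMod p)) ⊗ₜ[ZMod p] el ⟨x, hx⟩ else 0
  have he : ∀ x (hx : x ∈ Q),
      e x = (1 : AlgebraicClosure (ZMod p)) ⊗ₜ[ZMod p] el ⟨x, hx⟩ := fun x hx => dif_pos hx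
  refine ⟨_, inferInstance, inferInstance, inferInstance, ρ, e,
    ⟨fun g => ?_, ?_, ?_, ?_, ?_, ?_⟩, ⟨?_, ?_, ?_, ?_, ?_⟩⟩
  · rw [hρ, ← map_one bc, hbc.eq_iff, LinearMap.ext_iff]
    constructor
    · intro hg x hx
      exact (hfix g ⟨x, hx⟩).1 (hg _)
    · intro hg v
      obtain ⟨x, rfl⟩ := hel v
      exact (hfix g x).2 (hg x x.2)
  · intro A hA hA' w hw
    cases nonempty_fintype A
    have h0 : ∑ a : A, ρ₀ (a : N) = 0 := by
      refine LinearMap.ext fun v => ?_
      obtain ⟨x, hx⟩ := hel ((∑ a : A, ρ₀ (a : N)) v)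
      rw [LinearMap.zero_apply, ← hx, hel0]
      refine hA' x x.2 fun b hb => (hfix b x).1 ?_
      rw [hx, ← Module.End.mul_apply, Finset.mul_sum]
      simp only [← map_mul]
      exact congrArg (fun f => f v)
        (Equiv.sum_comp (Equiv.mulLeft (⟨b, hb⟩ : A)) (fun a : A => ρ₀ (a : N)))
    have h1 : (∑ a : A, ρ (a : N)) w = 0 := by
      simp only [hρ]
      rw [← map_sum, h0, map_zero]; rfl
    rw [LinearMap.sum_apply, Finset.sum_congr rfl fun (a : A) _ => hw a a.2, Finset.sum_const,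
      Finset.card_univ, ← Nat.cast_smul_eq_nsmul (AlgebraicClosure (ZMod p)),
      ← Nat.card_eq_fintype_card] at h1
    exact (smul_eq_zero.1 h1).resolve_left hA
  · intro σ g r hr hσ hk w hw
    set T := ∑ i ∈ Finset.range r, ρ₀ (σ ^ i) with hT
    have hσT : ρ₀ σ * T = T := by
      rw [hT, Finset.mul_sum]
      simp only [← map_mul, ← pow_succ']
      rcases r with _ | r
      · simp
      rw [Finset.sum_range_succ' (fun i => ρ₀ (σ ^ i)), Finset.sum_range_succ
        (fun i => ρ₀ (σ ^ (i + 1))), hσ, pow_zero]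
    have h0 : ρ₀ g * T = T := by
      refine LinearMap.ext fun v => ?_
      obtain ⟨x, hx⟩ := hel (T v)
      rw [Module.End.mul_apply, ← hx, hfix]
      refine hk x x.2 ((hfix σ x).1 ?_)
      rw [hx, ← Module.End.mul_apply, hσT]
    have h1 := congrArg (fun f => bc f w) h0
    simp only [map_mul, Module.End.mul_apply, hT, map_sum, LinearMap.sum_apply, ← hρ] at h1
    have hi : ∀ i : ℕ, ρ (σ ^ i) w = w := by
      intro i
      induction i with
      | zero => simp
      | succ i ih => rw [pow_succ', rho_mul, ih, hw]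
    simp only [hi, Finset.sum_const, Finset.card_range] at h1
    rw [← Nat.cast_smul_eq_nsmul (AlgebraicClosure (ZMod p)),
      ← Nat.cast_smul_eq_nsmul (AlgebraicClosure (ZMod p))] at h1
    exact smul_right_injective _ hr h1
  · intro Q' σ r hr0 hσ hS W hW hinv
    by_contra hno
    push Not at hno
    set G := Q' ⊔ zpowers σ with hG
    cases nonempty_fintype G
    set T := ∑ i ∈ Finset.range r, ρ₀ (σ ^ i) with hT
    have hσT : ρ₀ σ * T = T := by
      rw [hT, Finset.mul_sum]
      simp only [← map_mul, ← pow_succ']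
      rcases r with _ | r
      · simp
      rw [Finset.sum_range_succ' (fun i => ρ₀ (σ ^ i)), Finset.sum_range_succ
        (fun i => ρ₀ (σ ^ (i + 1))), hσ, pow_zero]
    let Φ : Additive M →ₗ[ZMod p] (G → Additive M) := LinearMap.pi fun g => T * ρ₀ (g : N)
    let S : Subgroup Γ :=
      { carrier := {x | ∃ hx : x ∈ Q, Φ (el ⟨x, hx⟩) = 0}
        one_mem' := ⟨one_mem _, by
          rw [show el ⟨1, one_mem Q⟩ = 0 from (hel0 _).2 (one_mem R), map_zero]⟩
        mul_mem' := fun {a b} ha hb => ⟨mul_mem ha.1 hb.1, by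
          rw [show el ⟨a * b, mul_mem ha.1 hb.1⟩ = el ⟨a, ha.1⟩ + el ⟨b, hb.1⟩ from rfl,
            map_add, ha.2, hb.2, add_zero]⟩
        inv_mem' := fun {a} ha => ⟨inv_mem ha.1, by
          rw [show el ⟨a⁻¹, inv_mem ha.1⟩ = -el ⟨a, ha.1⟩ from rfl, map_neg, ha.2, neg_zero]⟩ }
    have hSR : S ≤ R := by
      refine hS S (fun x hx => ⟨h.le hx, by
          rw [show el ⟨x, h.le hx⟩ = 0 from (hel0 _).2 hx, map_zero]⟩)
        (fun x hx => hx.1) ?_ ?_
      · intro g hg
        have key : ∀ (g : N), g ∈ G → ∀ x ∈ S, (g : Γ) * x * (g : Γ)⁻¹ ∈ S := by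
          rintro g hg x ⟨hx, hΦ⟩
          refine ⟨Coprime.conj_mem_of_mem_normalizer g.2.1 hx, funext fun k => ?_⟩
          have := congrFun hΦ (k * ⟨g, hg⟩)
          simp only [Φ, LinearMap.pi_apply, Module.End.mul_apply, Subgroup.coe_mul, map_mul,
            hρ₀] at this ⊢
          exact this
        exact Coprime.mem_normalizer_of_le_iff (key g hg) fun x hx => by
          simpa using key g⁻¹ (inv_mem hg) x hx
      · rintro x ⟨hx, hΦ⟩ hσx
        have h1 := congrFun hΦ 1
        simp only [Φ, LinearMap.pi_apply, OneMemClass.coe_one, map_one, mul_one, hT,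
          LinearMap.sum_apply] at h1
        have hi : ∀ i : ℕ, ρ₀ (σ ^ i) (el ⟨x, hx⟩) = el ⟨x, hx⟩ := by
          intro i
          induction i with
          | zero => simp
          | succ i ih => rw [pow_succ', map_mul, Module.End.mul_apply, ih, (hfix σ _).2 hσx]
        simp only [hi, Finset.sum_const, Finset.card_range, Pi.zero_apply,
          ← Nat.cast_smul_eq_nsmul (ZMod p)] at h1
        rcases smul_eq_zero.1 h1 with h2 | h2
        · exfalso
          -- `p` does not divide the number of summands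
          obtain ⟨w, hw, hw0⟩ := (Submodule.ne_bot_iff W).1 hW
          have h3 : ((r : AlgebraicClosure (ZMod p))) = 0 := by
            rw [← map_natCast (algebraMap (ZMod p) (AlgebraicClosure (ZMod p))), h2, map_zero]
          exact hr0 h3
        · exact (hel0 _).1 h2
    have hker : LinearMap.ker Φ = ⊥ := by
      rw [LinearMap.ker_eq_bot']
      intro v hv
      obtain ⟨x, rfl⟩ := hel v
      exact (hel0 x).2 (hSR ⟨x.2, hv⟩)
    obtain ⟨Ψ, hΨ⟩ := Φ.exists_leftInverse_of_injective hker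
    obtain ⟨w, hw, hw0⟩ := (Submodule.ne_bot_iff W).1 hW
    have hst : ∀ g ∈ G, ∀ u ∈ W, ρ g u ∈ W := by
      have hle : G ≤ LinAct.stab ρ W := sup_le (fun x hx u hu => hinv.1 x hx u hu)
        (zpowers_le.2 fun u hu => hinv.2 u hu)
      exact fun g hg u hu => hle hg u hu
    have hid : (1 : Module.End (ZMod p) (Additive M)) =
        ∑ g : G, Ψ.comp (LinearMap.single (ZMod p) (fun _ => Additive M) g) * (T * ρ₀ (g : N)) := by
      refine LinearMap.ext fun v => ?_
      conv_lhs => rw [Module.End.one_apply, ← LinearMap.id_apply (R := ZMod p) v, ← hΨ,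
        LinearMap.comp_apply]
      rw [LinearMap.sum_apply]
      simp only [Module.End.mul_apply, LinearMap.comp_apply]
      rw [← map_sum]
      congr 1
      funext k
      simp [Φ, Finset.sum_apply, Pi.single_apply]
    have hz := congrArg (fun f => bc f w) hid
    simp only [map_one, Module.End.one_apply, map_sum, LinearMap.sum_apply, map_mul,
      Module.End.mul_apply, hT, ← hρ] at hz
    apply hw0
    rw [hz]
    refine Finset.sum_eq_zero fun g _ => ?_
    have hgW : ρ (g : N) w ∈ W := hst _ g.2 w hw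
    have hzero : ∑ i ∈ Finset.range r, ρ (σ ^ i) (ρ (g : N) w) = 0 := by
      by_contra hne
      refine hno _ (W.sum_mem fun i _ => ?_) hne (LinAct.sum_pow_fixed ρ hσ _)
      exact hst _ (pow_mem (mem_sup_right (mem_zpowers σ)) i) _ hgW
    rw [← map_sum, hzero, map_zero]
  · intro σ hker x hx y hy hxR hxσ hyσ
    have h1 : finrank (ZMod p) (LinearMap.ker (ρ₀ σ - 1)) = 1 := by
      have h2 := LinearMap.finrank_range_add_finrank_ker (ρ₀ σ - 1)
      have h3 := LinearMap.finrank_range_add_finrank_ker (ρ σ - 1)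
      have h4 : finrank (AlgebraicClosure (ZMod p)) (LinearMap.range (ρ σ - 1)) =
          finrank (ZMod p) (LinearMap.range (ρ₀ σ - 1)) := by
        rw [show ρ σ - 1 = bc (ρ₀ σ - 1) by rw [map_sub, map_one]; rfl]
        exact finrank_range_baseChange _
      rw [h4, Module.finrank_baseChange, hker] at h3
      omega
    have hm : ∀ z : Q, (z : Γ)⁻¹ * ((σ : Γ) * z * (σ : Γ)⁻¹) ∈ R →
        el z ∈ LinearMap.ker (ρ₀ σ - 1) := fun z hz => by
      rw [LinearMap.mem_ker, LinearMap.sub_apply, Module.End.one_apply, (hfix σ z).2 hz, sub_self]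
    have hx0 : (⟨el ⟨x, hx⟩, hm _ hxσ⟩ : LinearMap.ker (ρ₀ σ - 1)) ≠ 0 := fun h0 =>
      hxR ((hel0 ⟨x, hx⟩).1 (congrArg Subtype.val h0))
    obtain ⟨c, hc⟩ := (finrank_eq_one_iff_of_nonzero' _ hx0).1 h1 ⟨el ⟨y, hy⟩, hm _ hyσ⟩
    refine ⟨c.val, (hmk (⟨x, hx⟩ ^ c.val) ⟨y, hy⟩).1 ?_⟩
    have := congrArg Subtype.val hc
    simp only [Submodule.coe_smul] at this
    rw [QuotientGroup.mk_pow]
    apply Additive.ofMul.injective
    show c.val • el ⟨x, hx⟩ = el ⟨y, hy⟩
    rw [← Nat.cast_smul_eq_nsmul (ZMod p), ZMod.natCast_zmod_val, this]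
  · intro σ k hk
    rw [show ρ σ - 1 = bc (ρ₀ σ - 1) by rw [map_sub, map_one]; rfl]
    refine (finrank_range_baseChange _).trans ?_
    have hcard : Nat.card (LinearMap.range (ρ₀ σ - 1)) = p ^ k := by
      rw [← hk]
      set E := ⁅Q, zpowers (σ : Γ)⁆ with hE
      have hEQ : E ≤ Q := Coprime.commutator_le_of_le_normalizer (zpowers_le.2 σ.2.1)
      let f : E →* M := (QuotientGroup.mk' (R.subgroupOf Q)).comp (Subgroup.inclusion hEQ)
      have hrange : ∀ v, v ∈ LinearMap.range (ρ₀ σ - 1) ↔ v.toMul ∈ f.range := by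
        intro v
        constructor
        · rintro ⟨u, rfl⟩
          obtain ⟨x, rfl⟩ := hel u
          have hxE : (σ : Γ) * x * (σ : Γ)⁻¹ * (x : Γ)⁻¹ ∈ E := by
            rw [hE, Subgroup.commutator_comm]
            exact commutator_mem_commutator (mem_zpowers _) x.2
          refine ⟨⟨_, hxE⟩, Additive.ofMul.injective ?_⟩
          rw [LinearMap.sub_apply, Module.End.one_apply, hρ₀, sub_eq_add_neg]
          rfl
        · rintro ⟨e, he⟩
          rw [← ofMul_toMul v, ← he]
          clear he v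
          have hle : E ≤ (Subgroup.toAddSubgroup.symm ((LinearMap.range (ρ₀ σ - 1)).toAddSubgroup)
              |>.comap (QuotientGroup.mk' (R.subgroupOf Q))).map Q.subtype := by
            refine commutator_le.2 fun x hx a ha => ?_
            have haN : a ∈ N := zpowers_le.2 σ.2 ha
            have hxa : ⁅x, a⁆ ∈ Q := hEQ (commutator_mem_commutator hx ha)
            refine ⟨⟨_, hxa⟩, ?_, rfl⟩
            show Additive.ofMul _ ∈ LinearMap.range (ρ₀ σ - 1)
            have e2 : el ⟨⁅x, a⁆, hxa⟩ = el ⟨x, hx⟩ - ρ₀ ⟨a, haN⟩ (el ⟨x, hx⟩) := by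
              rw [hρ₀, sub_eq_add_neg]
              exact congrArg el (Subtype.ext (by simp [cj, commutatorElement_def, mul_assoc]))
            show el ⟨⁅x, a⁆, hxa⟩ ∈ _
            rw [e2, ← Submodule.neg_mem_iff, neg_sub]
            obtain ⟨j, hj⟩ := mem_powers_iff_mem_zpowers.2 ha
            have ha' : (⟨a, haN⟩ : N) = σ ^ j := Subtype.ext (by simpa using hj.symm)
            rw [ha', map_pow, show (ρ₀ σ ^ j) (el ⟨x, hx⟩) - el ⟨x, hx⟩ =
              ((ρ₀ σ ^ j - 1) : Module.End (ZMod p) (Additive M)) (el ⟨x, hx⟩) from rfl,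
              ← mul_geom_sum, Module.End.mul_apply]
            exact LinearMap.mem_range_self _ _
          obtain ⟨z, hz, hze⟩ := hle e.2
          rw [show f e = QuotientGroup.mk z from congrArg QuotientGroup.mk (Subtype.ext hze.symm)]
          exact hz
      rw [Nat.card_congr ((Additive.toMul).subtypeEquiv hrange),
        ← Nat.card_congr (QuotientGroup.quotientKerEquivRange f).toEquiv, ← Subgroup.index_eq_card,
        Subgroup.relIndex]
      congr 1
      ext e
      rw [MonoidHom.mem_ker, Subgroup.mem_subgroupOf, MonoidHom.comp_apply, QuotientGroup.mk'_apply,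
        ← QuotientGroup.mk_one, eq_comm, hmk]
      simp
    rw [Module.natCard_eq_pow_finrank (K := ZMod p), Nat.card_zmod] at hcard
    exact Nat.pow_right_injective hp.out.two_le hcard
  · intro g x hx
    rw [he x hx, he _ (Coprime.conj_mem_of_mem_normalizer g.2.1 hx), hρ]
    show (1 : AlgebraicClosure (ZMod p)) ⊗ₜ[ZMod p] ρ₀ g (el ⟨x, hx⟩) = _
    rw [hρ₀]
    rfl
  · intro x hx y hy
    rw [he x hx, he y hy, he _ (mul_mem hx hy), ← TensorProduct.tmul_add]
    rfl
  · intro x hx
    rw [he x hx, ← hel0 ⟨x, hx⟩]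
    constructor
    · intro h0
      exact Module.FaithfullyFlat.tensorProduct_mk_injective (A := ZMod p)
        (B := AlgebraicClosure (ZMod p)) (Additive M) (h0.trans (TensorProduct.tmul_zero _ _).symm)
    · intro h0
      rw [h0, TensorProduct.tmul_zero]
  · rw [eq_top_iff]
    intro w hw
    clear hw
    induction w using TensorProduct.induction_on with
    | zero => exact zero_mem _
    | tmul c v =>
      obtain ⟨x, rfl⟩ := hel v
      rw [show c ⊗ₜ[ZMod p] el x = c • e x by
        rw [he x x.2, TensorProduct.smul_tmul', smul_eq_mul, mul_one]]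
      exact Submodule.smul_mem _ c (Submodule.subset_span ⟨x, x.2, rfl⟩)
    | add a b ha hb => exact add_mem ha hb
  · intro P hP w hw
    let Ω := {f : Additive M →ₗ[ZMod p] ZMod p //
      ∃ ω : Γ → ZMod p, P ω ∧ ∀ x : Q, f (el x) = ω x}
    haveI : Finite (Additive M →ₗ[ZMod p] ZMod p) :=
      Finite.of_injective (fun f v => f v) DFunLike.coe_injective
    haveI : Fintype Ω := Fintype.ofFinite Ω
    let Φ : Additive M →ₗ[ZMod p] (Ω → ZMod p) := LinearMap.pi fun f => f.1
    have hker : LinearMap.ker Φ = ⊥ := by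
      rw [LinearMap.ker_eq_bot']
      intro v hv
      obtain ⟨x, rfl⟩ := hel v
      rw [hel0]
      by_contra hx
      obtain ⟨ω, hω, hadd, hR0, hne⟩ := hP x x.2 hx
      have hinv : ∀ y : Q, ∀ z : Q, el y = el z → ω y = ω z := by
        intro y z hyz
        have h1 : (y : Γ)⁻¹ * z ∈ R := (hmk y z).1 (Additive.ofMul.injective hyz)
        have h2 := hadd y y.2 ((y : Γ)⁻¹ * z) (h.le h1)
        rw [mul_inv_cancel_left, hR0 _ h1, add_zero] at h2
        exact h2.symm
      let f₀ : Additive M →+ ZMod p :=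
        { toFun := fun v => ω ((hel v).choose : Q)
          map_zero' := by
            rw [hinv _ 1 ((hel 0).choose_spec.trans ((hel0 1).2 (one_mem R)).symm)]
            exact hR0 _ (one_mem R)
          map_add' := fun v v' => by
            have h1 : el ((hel v).choose * (hel v').choose) = v + v' := by
              show Additive.ofMul (QuotientGroup.mk _) = _
              rw [QuotientGroup.mk_mul, ofMul_mul]
              exact congrArg₂ (· + ·) (hel v).choose_spec (hel v').choose_spec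
            rw [hinv _ _ ((hel _).choose_spec.trans h1.symm), Subgroup.coe_mul,
              hadd _ (hel v).choose.2 _ (hel v').choose.2] }
      have hf : ∀ y : Q, f₀.toZModLinearMap p (el y) = ω y := fun y =>
        hinv _ y (hel (el y)).choose_spec
      have := congrFun hv ⟨f₀.toZModLinearMap p, ω, hω, hf⟩
      exact hne ((hf x).symm.trans this)
    obtain ⟨Ψ, hΨ⟩ := Φ.exists_leftInverse_of_injective hker
    let lift : Ω → AlgebraicClosure (ZMod p) ⊗[ZMod p] Additive M →ₗ[AlgebraicClosure (ZMod p)]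
        AlgebraicClosure (ZMod p) := fun f =>
      LinearMap.liftBaseChange (AlgebraicClosure (ZMod p)) ((Algebra.linearMap (ZMod p) _).comp f.1)
    have hid : ∀ u, u = ∑ f : Ω, lift f u • ((1 : AlgebraicClosure (ZMod p)) ⊗ₜ[ZMod p]
        Ψ (Pi.single f 1)) := by
      intro u
      induction u using TensorProduct.induction_on with
      | zero => simp
      | tmul c v =>
        have hv : v = ∑ f : Ω, f.1 v • Ψ (Pi.single f 1) := by
          conv_lhs => rw [← LinearMap.id_apply (R := ZMod p) v, ← hΨ, LinearMap.comp_apply]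
          rw [show Φ v = ∑ f : Ω, f.1 v • Pi.single f (1 : ZMod p) by
            funext g
            simp only [Φ, Finset.sum_apply, Pi.smul_apply, Pi.single_apply, LinearMap.pi_apply,
              smul_eq_mul, mul_ite, mul_one, mul_zero]
            rw [Finset.sum_eq_single g (fun b _ hb => if_neg (Ne.symm hb))
              (fun h' => absurd (Finset.mem_univ g) h'), if_pos rfl]]
          simp only [map_sum, map_smul]
        conv_lhs => rw [hv, TensorProduct.tmul_sum]
        refine Finset.sum_congr rfl fun f _ => ?_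
        simp only [lift, LinearMap.liftBaseChange_tmul, LinearMap.comp_apply,
          Algebra.linearMap_apply, TensorProduct.smul_tmul', smul_eq_mul, mul_one]
        rw [mul_comm, ← Algebra.smul_def, TensorProduct.smul_tmul]
      | add a b ha hb =>
        simp only [map_add, add_smul, Finset.sum_add_distrib]
        rw [← ha, ← hb]
    obtain ⟨f, hf⟩ : ∃ f : Ω, lift f w ≠ 0 := by
      by_contra hno
      push Not at hno
      exact hw (by rw [hid w]; simp [hno])
    obtain ⟨ω, hω, hfω⟩ := f.2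
    refine ⟨ω, lift f, hω, fun x hx => ?_, hf⟩
    rw [he x hx]
    simp only [lift, LinearMap.liftBaseChange_tmul, LinearMap.comp_apply, Algebra.linearMap_apply,
      smul_eq_mul, one_mul, one_smul, hfω]
    rw [← map_natCast (algebraMap (ZMod p) (AlgebraicClosure (ZMod p))), ZMod.natCast_zmod_val]

end Cfsg.Agent.FGS73.Turull
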