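import Cfsg.Agent.FGS73.Turull.SmallRange
import Cfsg.Agent.FGS73.Turull.Section
import Cfsg.Agent.FGS73.Turull.Exceptional

/-!
A group of odd order moved by `σ` and acting without fixed points excludes the exceptional
configuration.
-/

set_option autoImplicit false

universe u

namespace Cfsg.Agent.FGS73.Turull

open Subgroup Module
open scoped commutatorElement
open Cfsg.Agent.LinAct (rho_mul rho_one rho_inv_apply)

variable {H : Type u} [Group H] [Finite H] {K : Type*} [Field K] [IsAlgClosed K] {U : Type*}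
  [AddCommGroup U] [Module K U] [FiniteDimensional K U]
  {ρ : H →* Module.End K U} {Q Z : Subgroup H} {q r : ℕ} {σ : H}

theorem no_exception (h : Setting ρ Q Z q σ r) (hexp : ∀ x ∈ Q, x ^ q ∈ Z) {F Zf P : Subgroup H}
    {s : ℕ} (hs : s.Prime) (hsq : s ≠ q) (hsr : s ≠ r) (hFp : IsPGroup s F) (hZf : Zf ≤ F)
    (hFcomm : ∀ a ∈ F, ∀ b ∈ F, ⁅a, b⁆ ∈ Zf) (hσF : σ ∈ normalizer (F : Set H))
    (hσZf : σ ∈ normalizer (Zf : Set H)) (hFσ : F ≤ ⁅F, zpowers σ⁆) (hFP : F ≤ P)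
    (hPp : IsPGroup s P) (hPQ : P ≤ normalizer (Q : Set H)) (hPZ : P ≤ normalizer (Z : Set H))
    (hPfix : ∀ f ∈ P, ∀ z ∈ Z, ρ (f * z * f⁻¹) = ρ z)
    (hFc : ∀ f ∈ F, ∀ z ∈ Zf, ∀ x ∈ Q, x⁻¹ * (⁅f, z⁆ * x * ⁅f, z⁆⁻¹) ∈ Z)
    (hPsplit : ∀ x ∈ P, ∃ c ∈ P, ∃ f ∈ F, σ * c = c * σ ∧ x = c * f)
    (hQP : Q ≤ ⁅Q, P⁆ ⊔ Z) {W : Submodule K U} (hW0 : W ≠ ⊥) (hinv : Inv ρ Q σ W)
    (hS : ∀ w ∈ W, (∀ x ∈ ⁅Q, zpowers σ⁆, ρ x w = w) → w = 0) :
    ∃ v ∈ W, v ≠ 0 ∧ ρ σ v = v := by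
  classical
  by_contra hbad
  push Not at hbad
  obtain ⟨χ, v, hvW, hv0, hv⟩ := exists_weight ρ Z W hW0 (fun a ha => hinv.1 a (h.le ha))
    fun a ha b hb w _ => h.swap (h.le ha) hb w
  obtain ⟨hq2, hσ, ⟨m, hm, hidx⟩, -⟩ := h.bad_at hS kill_bot hinv (fun w hw hf => by
    rw [Submodule.mem_bot]
    by_contra hne
    exact hbad w hw hne hf) hvW hv hv0
  subst hq2
  haveI := Fact.mk Nat.prime_two
  haveI := Fact.mk hs
  set R := h.radS hv hv0 with hR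
  have hRQ : R ≤ Q := h.radS_le hv hv0
  have hZR : Z ≤ R := h.Z_le_radS hv hv0
  have hσR : σ ∈ normalizer (R : Set H) := h.sigma_rad_normalizer hv hv0 hσ
  have hFQ : F ≤ normalizer (Q : Set H) := hFP.trans hPQ
  have hPst : ∀ f ∈ P, f ∈ LinAct.wstab Z χ := fun f hf => mem_wstab (hPZ hf) fun z hz =>
    weight_eq_of_rho_eq hv hv0 (Coprime.conj_mem_of_mem_normalizer (hPZ hf) hz) hz (hPfix f hf z hz)
  have hFst : ∀ f ∈ F, f ∈ LinAct.wstab Z χ := fun f hf => hPst f (hFP hf)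
  have hPR : P ≤ normalizer (R : Set H) := fun f hf =>
    h.radS_normalizer hv hv0 (hPQ hf) (hPst f hf)
  have hs2 : s ≠ 2 := hsq
  have hm0 : m ≠ 0 := fun h0 => h.q_ne_r.symm (by rw [hm, h0]; rfl)
  set E := ⁅Q, zpowers σ⁆ with hE
  have hEQ : E ≤ Q := commutator_le_Q h.sigma_Q
  set Q₁ := ⁅Q, F⁆ with hQ₁
  have hQ₁Q : Q₁ ≤ Q := Coprime.commutator_le_of_le_normalizer hFQ
  by_cases hQ₁R : Q₁ ≤ R
  · -- `P` acts through elements commuting with `σ`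
    have hFt : ∀ f ∈ F, Triv Q R f := fun f hf x hx => by
      have := hQ₁R (commutator_mem_commutator (inv_mem hx) hf)
      simpa [commutatorElement_def, mul_assoc] using this
    have hPn : ∀ p ∈ P, p ^ Nat.card P = 1 := fun p hp =>
      congrArg Subtype.val (pow_card_eq_one' (x := (⟨p, hp⟩ : P)))
    have hPr : (Nat.card P).Coprime r := by
      obtain ⟨n, hn⟩ := IsPGroup.iff_card.1 hPp
      rw [hn]
      exact ((Nat.coprime_primes hs h.r_prime).2 hsr).pow_left n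
    have hPt : ∀ p ∈ P, ∀ y ∈ E, y⁻¹ * (p * y * p⁻¹) ∈ R := by
      intro p hp y hy
      obtain ⟨c, hc, f, hf, hcσ, rfl⟩ := hPsplit p hp
      have h1 := h.exceptional_core rfl hexp hv hv0 hσ hm hidx (hPn c hc) hPr (hPQ hc) hcσ
        (hPst c hc) hy
      have h2 := Coprime.conj_mem_of_mem_normalizer (hPR hc) (hFt f hf y (hEQ hy))
      have := R.mul_mem h1 h2
      convert this using 1
      group
    have hER : E ≤ R := by
      intro e he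
      refine ⟨hEQ he, fun t ht => ?_⟩
      let S : Subgroup H :=
        { carrier := {y | y ∈ Q ∧ χ ⁅e, y⁆ = 1}
          one_mem' := ⟨one_mem _, (h.bracket' hv hv0).one_right (hEQ he)⟩
          mul_mem' := fun {a b} ha hb => ⟨mul_mem ha.1 hb.1, by
            rw [h.beta_right hv hv0 (hEQ he) ha.1 hb.1, ha.2, hb.2, one_mul]⟩
          inv_mem' := fun {a} ha => ⟨inv_mem ha.1, by
            exact ((h.bracket' hv hv0).inv_right (hEQ he) ha.1).trans (by rw [ha.2, inv_one])⟩ }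
      have hle : ⁅Q, P⁆ ⊔ Z ≤ S := by
        refine sup_le (commutator_le.2 fun a ha p hp => ?_) fun z hz =>
          ⟨h.le hz, (h.Z_le_radS hv hv0 hz).2 e (hEQ he)⟩
        have hpa : p * a⁻¹ * p⁻¹ ∈ Q := Coprime.conj_mem_of_mem_normalizer (hPQ hp) (inv_mem ha)
        have e1 : ⁅a, p⁆ = a * (p * a⁻¹ * p⁻¹) := by simp [commutatorElement_def, mul_assoc]
        refine ⟨e1 ▸ mul_mem ha hpa, ?_⟩
        have hy : p⁻¹ * e * p ∈ Q := Coprime.conj_mem_of_mem_normalizer' (hPQ hp) (hEQ he)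
        have hr : e⁻¹ * (p⁻¹ * e * p) ∈ R := by
          have := hPt p⁻¹ (inv_mem hp) e he
          rwa [inv_inv] at this
        rw [e1, h.beta_right hv hv0 (hEQ he) ha hpa]
        have e2 : ⁅e, p * a⁻¹ * p⁻¹⁆ = p * ⁅p⁻¹ * e * p, a⁻¹⁆ * p⁻¹ := by
          simp [commutatorElement_def, mul_assoc]
        rw [e2, wstab_conj (hPst p hp) (h.comm _ hy _ (inv_mem ha)),
          show p⁻¹ * e * p = e * (e⁻¹ * (p⁻¹ * e * p)) by group,
          h.beta_left hv hv0 (inv_mem ha) (hEQ he) (hRQ hr),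
          h.beta_swap hv hv0 (inv_mem ha) (hRQ hr) (hr.2 _ (inv_mem ha)), mul_one,
          ← h.beta_right hv hv0 (hEQ he) ha (inv_mem ha), mul_inv_cancel]
        exact (h.bracket' hv hv0).one_right (hEQ he)
      exact h.beta_swap hv hv0 (hEQ he) ht (hle (hQP ht)).2
    have h1 : R.relIndex E = 1 := relIndex_eq_one.2 hER
    rw [h1] at hidx
    have h2 : 2 ≤ 2 ^ m := Nat.le_self_pow hm0 2
    have := Nat.pow_le_pow_left h2 2
    omega
  -- the section `Q₁/R₁`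
  have hσQ₁ : σ ∈ normalizer (Q₁ : Set H) := by
    have key : ∀ b : H, b ∈ normalizer (Q : Set H) → b ∈ normalizer (F : Set H) →
        ∀ y ∈ Q₁, b * y * b⁻¹ ∈ Q₁ := by
      intro b hbQ hbF y hy
      have hle : Q₁ ≤ Q₁.comap (MulAut.conj b).toMonoidHom := commutator_le.2 fun u hu k hk => by
        show b * ⁅u, k⁆ * b⁻¹ ∈ Q₁
        rw [show b * ⁅u, k⁆ * b⁻¹ = ⁅b * u * b⁻¹, b * k * b⁻¹⁆ by
          simp [commutatorElement_def, mul_assoc]]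
        exact commutator_mem_commutator (Coprime.conj_mem_of_mem_normalizer hbQ hu)
          (Coprime.conj_mem_of_mem_normalizer hbF hk)
      exact hle hy
    exact Coprime.mem_normalizer_of_le_iff (key σ h.sigma_Q hσF) fun y hy => by
      simpa using key σ⁻¹ (inv_mem h.sigma_Q) (inv_mem hσF) y hy
  have hFQ₁ : F ≤ normalizer (Q₁ : Set H) := Coprime.le_normalizer_commutator_right F Q
  set R₁ := R ⊓ Q₁ with hR₁
  have hR₁Q : R₁ ≤ Q₁ := inf_le_right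
  have hσR₁ : σ ∈ normalizer (R₁ : Set H) :=
    Coprime.le_normalizer_inf (A := zpowers σ) (zpowers_le.2 hσR) (zpowers_le.2 hσQ₁)
      (mem_zpowers σ)
  have hFR₁ : F ≤ normalizer (R₁ : Set H) :=
    Coprime.le_normalizer_inf (hFP.trans hPR) hFQ₁
  have hFN : F ≤ secNorm Q₁ R₁ := fun f hf => ⟨hFQ₁ hf, hFR₁ hf⟩
  have hσN : σ ∈ secNorm Q₁ R₁ := ⟨hσQ₁, hσR₁⟩
  have hsec : SecHyp Q₁ R₁ 2 := ⟨Nat.prime_two, hR₁Q,
    Coprime.le_normalizer_inf (hQ₁Q.trans (h.Q_normalizer_radS hv hv0)) Subgroup.le_normalizer,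
    fun x hx y hy => ⟨hZR (h.comm x (hQ₁Q hx) y (hQ₁Q hy)),
      Q₁.mul_mem (Q₁.mul_mem (Q₁.mul_mem hx hy) (Q₁.inv_mem hx)) (Q₁.inv_mem hy)⟩,
    fun x hx => ⟨hZR (hexp x (hQ₁Q hx)), pow_mem hx 2⟩⟩
  set N := secNorm Q₁ R₁ with hN
  obtain ⟨U', _, _, _, ρ', e, hsr', hvec⟩ := exists_secRep Q₁ R₁ hsec
  set F' := F.subgroupOf N with hF'
  set σ' : N := ⟨σ, hσN⟩ with hσ'
  have hcast : ∀ p : ℕ, p.Prime → p ≠ 2 → (p : AlgebraicClosure (ZMod 2)) ≠ 0 := by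
    intro p hp hp2
    rw [Ne, CharP.cast_eq_zero_iff (AlgebraicClosure (ZMod 2)) 2]
    exact fun hd => hp2 ((Nat.prime_dvd_prime_iff_eq Nat.prime_two hp).1 hd).symm
  have hF'p : IsPGroup s F' :=
    hFp.of_equiv (Subgroup.subgroupOfEquivOfLe hFN).symm
  have hnorm : ∀ (A : Subgroup H), σ ∈ normalizer (A : Set H) →
      σ' ∈ normalizer ((A.subgroupOf N : Subgroup N) : Set N) := fun A hA =>
    Subgroup.mem_normalizer_iff.2 fun y => by
      rw [Subgroup.mem_subgroupOf, Subgroup.mem_subgroupOf]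
      exact Subgroup.mem_normalizer_iff.1 hA (y : H)
  have hset : Setting ρ' F' (Zf.subgroupOf N) s σ' r :=
    { prime := hs
      pgroup := hF'p
      ne_zero := hcast s hs hs2
      le := fun x hx => hZf hx
      central := fun f hf z hz => by
        rw [hsr'.triv]
        exact fun x hx => mem_inf.2 ⟨hZR (hFc (f : H) hf (z : H) hz x (hQ₁Q hx)),
          mul_mem (inv_mem hx) (Coprime.conj_mem_of_mem_normalizer
            ((⁅f, z⁆ : N).2.1) hx)⟩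
      comm := fun a ha b hb => hFcomm (a : H) ha (b : H) hb
      r_prime := h.r_prime
      r_ne_zero := hcast r h.r_prime h.q_ne_r.symm
      q_ne_r := hsr
      sigma_Q := hnorm F hσF
      sigma_Z := hnorm Zf hσZf
      sigma_pow := Subtype.ext h.sigma_pow }
  have hF'σ : F' ≤ ⁅F', zpowers σ'⁆ := by
    rw [← Subgroup.map_le_map_iff_of_injective N.subtype_injective, map_commutator,
      MonoidHom.map_zpowers, hF', Subgroup.map_subgroupOf_eq_of_le hFN]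
    exact hFσ
  have hcF : (Nat.card F).Coprime (Nat.card R₁) := by
    obtain ⟨a, ha⟩ := IsPGroup.iff_card.1 hFp
    obtain ⟨b, hb⟩ := IsPGroup.iff_card.1 (h.pgroup.to_le (hR₁Q.trans hQ₁Q))
    rw [ha, hb]
    exact (((Nat.coprime_primes hs Nat.prime_two).2 hs2).pow_left a).pow_right b
  have hFsol : Group.IsSolvable F := by
    haveI := hFp.isNilpotent
    infer_instance
  -- elements fixed by `F` are orthogonal to the commutators
  have horthF : ∀ c ∈ Q, (∀ f ∈ F, f * c = c * f) → ∀ y ∈ Q₁, χ ⁅c, y⁆ = 1 := by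
    intro c hcQ hc y hy
    let S : Subgroup H :=
      { carrier := {y | y ∈ Q ∧ χ ⁅c, y⁆ = 1}
        one_mem' := ⟨one_mem _, (h.bracket' hv hv0).one_right hcQ⟩
        mul_mem' := fun {a b} ha hb => ⟨mul_mem ha.1 hb.1, by
          rw [h.beta_right hv hv0 hcQ ha.1 hb.1, ha.2, hb.2, one_mul]⟩
        inv_mem' := fun {a} ha => ⟨inv_mem ha.1, by
          exact ((h.bracket' hv hv0).inv_right hcQ ha.1).trans (by rw [ha.2, inv_one])⟩ }
    have hle : ⁅Q, F⁆ ≤ S := commutator_le.2 fun a ha f hf => by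
      have hmem : ⁅a, f⁆ ∈ ⁅Q, zpowers f⁆ := commutator_mem_commutator ha (mem_zpowers f)
      exact ⟨commutator_le_Q (hFQ hf) hmem, h.orth hv hv0 (hFQ hf) (hFst f hf) hcQ (hc f hf) hmem⟩
    exact (hle hy).2
  have hsplitF : ∀ t ∈ Q, ∃ a ∈ Q₁, ∃ c ∈ Q, (∀ f ∈ F, f * c = c * f) ∧ t = a * c := by
    intro t ht
    obtain ⟨a, ha, c, hc, rfl⟩ := Coprime.exists_commutator_mul_centralizer F Q hFQ (by
      obtain ⟨a, ha⟩ := IsPGroup.iff_card.1 hFp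
      obtain ⟨b, hb⟩ := IsPGroup.iff_card.1 h.pgroup
      rw [ha, hb]
      exact (((Nat.coprime_primes hs Nat.prime_two).2 hs2).pow_left a).pow_right b)
      (Or.inl hFsol) t ht
    exact ⟨a, ha, c, hc.1, fun f hf => mem_centralizer_iff.1 hc.2 f hf, rfl⟩
  have hC0 : ∀ w, (∀ f ∈ F', ρ' f w = w) → w = 0 := by
    refine hsr'.no_fixed F' (pow_card_ne_zero (hcast s hs hs2) hF'p hs) fun x hx hfix => ?_
    obtain ⟨n, hn, hc⟩ := Coprime.exists_fixed_in_coset F R₁ hFR₁ hcF (Or.inl hFsol) x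
      (fun f hf => hfix ⟨f, hFN hf⟩ hf)
    set c := x * n with hcdef
    have hcQ₁ : c ∈ Q₁ := mul_mem hx (hR₁Q hn)
    have hcQ : c ∈ Q := hQ₁Q hcQ₁
    suffices hcR : c ∈ R by
      have := R₁.mul_mem (⟨hcR, hcQ₁⟩ : c ∈ R₁) (R₁.inv_mem hn)
      rwa [hcdef, mul_inv_cancel_right] at this
    have hcf : ∀ f ∈ F, f * c = c * f := fun f hf => mem_centralizer_iff.1 hc f hf
    refine ⟨hcQ, fun t ht => h.beta_swap hv hv0 hcQ ht ?_⟩
    obtain ⟨a, ha, c', hc'Q, hc', rfl⟩ := hsplitF t ht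
    rw [h.beta_right hv hv0 hcQ (hQ₁Q ha) hc'Q, horthF c hcQ hcf a ha,
      h.beta_swap hv hv0 hc'Q hcQ (horthF c' hc'Q hc' c hcQ₁), one_mul]
  obtain ⟨k, hk, hk2⟩ : ∃ k, R₁.relIndex ⁅Q₁, zpowers σ⁆ = 2 ^ k ∧ k ≤ 2 * m := by
    have hle : ⁅Q₁, zpowers σ⁆ ≤ E := commutator_mono hQ₁Q le_rfl
    have hle₁ : ⁅Q₁, zpowers σ⁆ ≤ Q₁ := commutator_le_Q hσQ₁
    have h1 : R₁.relIndex ⁅Q₁, zpowers σ⁆ = R.relIndex ⁅Q₁, zpowers σ⁆ := by
      rw [← Subgroup.inf_relIndex_right R, ← Subgroup.inf_relIndex_right R₁, hR₁, inf_assoc,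
        inf_eq_right.2 hle₁]
    have h2 : R.relIndex ⁅Q₁, zpowers σ⁆ ≤ (2 ^ m) ^ 2 :=
      hidx ▸ relIndex_le_of_le_right hle (by rw [hidx]; positivity)
    obtain ⟨n, hn⟩ := IsPGroup.iff_card.1 (h.pgroup.to_le (hle₁.trans hQ₁Q))
    obtain ⟨k, -, hk⟩ := (Nat.dvd_prime_pow Nat.prime_two).1
      (hn ▸ Subgroup.relIndex_dvd_card R₁ ⁅Q₁, zpowers σ⁆)
    refine ⟨k, hk, ?_⟩
    rw [← h1, hk, ← pow_mul, mul_comm] at h2
    exact (Nat.pow_le_pow_iff_right (by norm_num)).1 h2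
  have hnt : Nontrivial U' := by
    by_contra hnt
    rw [not_nontrivial_iff_subsingleton] at hnt
    obtain ⟨x, hx, hxR⟩ := SetLike.not_le_iff_exists.1 hQ₁R
    exact hxR ((hvec.zero_iff x hx).1 (Subsingleton.elim _ _)).1
  have hrange : finrank (AlgebraicClosure (ZMod 2)) (LinearMap.range (ρ' σ' - 1)) ≤ 2 * m :=
    (hsr'.range σ' k hk).le.trans hk2
  have hline := fixed_line hset hF'σ hC0 hs2 hm hrange
  -- the fixed line is orthogonal to everything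
  obtain ⟨x, hxQ, hxfix, hxR⟩ : ∃ x ∈ Q₁, x⁻¹ * (σ * x * σ⁻¹) ∈ R₁ ∧ x ∉ R₁ := by
    by_contra hno
    push Not at hno
    have hker : LinearMap.ker (ρ' σ' - 1) = ⊥ := by
      rw [LinearMap.ker_eq_bot']
      intro w hw
      refine hsr'.no_fixed (zpowers σ') ?_ (fun x hx hfix => hno x hx
        (hfix σ' (mem_zpowers σ'))) w fun a ha => ?_
      · rw [Nat.card_zpowers]
        rcases (Nat.dvd_prime h.r_prime).1
          (orderOf_dvd_of_pow_eq_one (Subtype.ext h.sigma_pow : σ' ^ r = 1)) with h1 | h1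
        · rw [h1, Nat.cast_one]; exact one_ne_zero
        · rw [h1]; exact hcast r h.r_prime h.q_ne_r.symm
      · obtain ⟨j, rfl⟩ := mem_powers_iff_mem_zpowers.2 ha
        have hw' : ρ' σ' w = w := by simpa [sub_eq_zero] using hw
        induction j with
        | zero => simp
        | succ j ih =>
          show ρ' (σ' ^ (j + 1)) w = w
          rw [pow_succ', rho_mul, ih (mem_powers_iff_mem_zpowers.1 ⟨j, rfl⟩), hw']
    rw [hker, finrank_bot] at hline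
    exact zero_ne_one hline
  have hm' : σ ∈ modFix R₁ x := ⟨hσR₁, hxfix⟩
  obtain ⟨n, hn, hcfix⟩ := lift_fixed h.pgroup h.prime h.coprime (hR₁Q.trans hQ₁Q) hm'
  set c := x * n with hc
  have hcQ₁ : c ∈ Q₁ := mul_mem hxQ (hR₁Q hn)
  have hcQ : c ∈ Q := hQ₁Q hcQ₁
  have hxQQ : x ∈ Q := hQ₁Q hxQ
  apply hxR
  suffices hcR : c ∈ R by
    have := R₁.mul_mem (⟨hcR, hcQ₁⟩ : c ∈ R₁) (R₁.inv_mem hn)
    rwa [hc, mul_inv_cancel_right] at this
  refine ⟨hcQ, fun t ht => ?_⟩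
  obtain ⟨a₀, ha₀, c₀, hc₀Q, hc₀, rfl⟩ := hsplitF t ht
  obtain ⟨a, ha, c', hc', hcσ', rfl⟩ := split (h.pgroup.to_le hQ₁Q) h.prime h.coprime hσQ₁ ha₀
  have haE : a ∈ E := commutator_mono hQ₁Q le_rfl ha
  have haQ := hEQ haE
  have hc'Q : c' ∈ Q := hQ₁Q hc'
  show χ ⁅a * c' * c₀, c⁆ = 1
  rw [h.beta_left hv hv0 hcQ (mul_mem haQ hc'Q) hc₀Q, horthF c₀ hc₀Q hc₀ c hcQ₁, mul_one,
    h.beta_left hv hv0 hcQ haQ hc'Q,
    h.beta_swap hv hv0 hcQ haQ (h.orth hv hv0 h.sigma_Q hσ hcQ hcfix haE), one_mul]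
  obtain ⟨j, hj⟩ := hsr'.fixed_line σ' hline x hxQ c' hc' hxR hxfix (by
    show c'⁻¹ * (σ * c' * σ⁻¹) ∈ R₁
    rw [hcσ', mul_inv_cancel_right, inv_mul_cancel]
    exact one_mem R₁)
  have hxx : χ ⁅x, x⁆ = 1 := (h.bracket' hv hv0).self hxQQ
  have hxj : χ ⁅x ^ j, x⁆ = 1 := by
    refine ((h.bracket' hv hv0).pow_left hxQQ hxQQ j).trans ?_
    show χ ⁅x, x⁆ ^ j = 1
    rw [hxx, one_pow]
  have hRorth : ∀ y ∈ R, ∀ z ∈ Q, χ ⁅z, y⁆ = 1 ∧ χ ⁅y, z⁆ = 1 := fun y hy z hz =>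
    ⟨hy.2 z hz, h.beta_swap hv hv0 hz (hRQ hy) (hy.2 z hz)⟩
  have hxjQ : x ^ j ∈ Q := pow_mem hxQQ j
  rw [show c' = x ^ j * ((x ^ j)⁻¹ * c') by group, h.beta_left hv hv0 hcQ hxjQ (hRQ hj.1),
    (hRorth _ hj.1 c hcQ).2, mul_one, hc, h.beta_right hv hv0 hxjQ hxQQ (hRQ hn.1), hxj,
    (hRorth _ hn.1 _ hxjQ).1, one_mul]

end Cfsg.Agent.FGS73.Turull
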