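import Cfsg.Agent.FGS73.Turull.Level
import Cfsg.Agent.FGS73.Turull.NoException

/-!
The levels after the first one have no exceptional configuration.
-/

set_option autoImplicit false

universe u

namespace Cfsg.Agent.FGS73.Turull

open Subgroup
open scoped commutatorElement
open Cfsg.Agent.LinAct (rho_mul rho_one rho_inv_apply)

variable {Γ : Type u} [Group Γ]

namespace MinTower

variable [Finite Γ] {G0 : Subgroup Γ} {t : Γ} {r h : ℕ} {P : ℕ → Subgroup Γ} {p : ℕ → ℕ}
  (M : MinTower G0 t r h P p)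

local notation "Kk" => towerKer P h
local notation "Rr" => towerRad P p h

include M

/-- Invariant subgroups without fixed points in the moved section are in the radical. -/
theorem no_bad {i : ℕ} (hi : i + 1 + 1 < h) {S : Subgroup Γ} (hRS : Rr (i + 1 + 1) ≤ S)
    (hSQ : S ≤ Qs t P p h (i + 1)) (hPS : P (i + 1) ≤ normalizer (S : Set Γ))
    (htS : t ∈ normalizer (S : Set Γ))
    (hfix : ∀ x ∈ S, x⁻¹ * (t * x * t⁻¹) ∈ Rr (i + 1 + 1) → x ∈ Rr (i + 1 + 1)) :
    S ≤ Rr (i + 1 + 1) := by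
  classical
  intro x hx
  by_contra hxR
  set j := i + 1 with hj
  haveI := Fact.mk (M.prime (j + 1) hi)
  have hSP : S ≤ P (j + 1) := hSQ.trans (M.Qs_le hi)
  obtain ⟨U, _, _, _, ρ₀, e, hs, hv⟩ :=
    exists_secRep (P (j + 1)) (Rr (j + 1)) (M.secHyp hi (M.rad_le _) le_rfl)
  set H := Nrm P h j with hH
  set ρ := ρ₀.comp (inclusion (M.Nrm_le_secNorm hi)) with hρ
  have hPH : P j ≤ H := M.le_Nrm le_rfl
  have hP'H : P i ≤ H := M.le_Nrm (Nat.le_succ i)
  have htH : t ∈ H := mem_Nrm.2 (M.t_norm_all j)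
  have hset := M.setting_of hi le_rfl hs (M.Nrm_le_secNorm hi) hPH htH
  set σ : H := ⟨t, htH⟩ with hσ
  set W := Submodule.span (AlgebraicClosure (ZMod (p (j + 1)))) (e '' (S : Set Γ)) with hW
  have hW0 : W ≠ ⊥ := fun h0 => hxR ((hv.zero_iff x (hSP hx)).1
    ((Submodule.mem_bot (R := AlgebraicClosure (ZMod (p (j + 1))))).1
      (h0 ▸ (Submodule.subset_span ⟨x, hx, rfl⟩ : e x ∈ W))))
  have hconjW : ∀ g : H, (g : Γ) ∈ normalizer (S : Set Γ) → ∀ w ∈ W, ρ g w ∈ W := by
    intro g hg w hw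
    induction hw using Submodule.span_induction with
    | mem u hu =>
      obtain ⟨y, hy, rfl⟩ := hu
      rw [hρ, MonoidHom.comp_apply, hv.equiv _ y (hSP hy)]
      exact Submodule.subset_span ⟨_, Coprime.conj_mem_of_mem_normalizer hg hy, rfl⟩
    | zero => simp
    | add a b _ _ ha hb => rw [map_add]; exact W.add_mem ha hb
    | smul c a _ ha => rw [map_smul]; exact W.smul_mem c ha
  have hinv : Inv ρ ((P j).subgroupOf H) σ W :=
    ⟨fun g hg => hconjW g (hPS hg), hconjW σ htS⟩
  have hzero : ∀ w ∈ W, ρ σ w = w → w = 0 := by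
    intro w hw hf
    have h1 := hv.fixed_mem_span hSP (inclusion (M.Nrm_le_secNorm hi) σ) htS (r := r)
      (by rw [← map_pow, Subtype.ext (M.t_pow) (a1 := σ ^ r) (a2 := 1), map_one])
      (M.cast_r_ne_zero hi) hw hf
    rw [← Submodule.mem_bot (R := AlgebraicClosure (ZMod (p (j + 1))))]
    refine Submodule.span_le.2 ?_ h1
    rintro _ ⟨y, ⟨hy, hyfix⟩, rfl⟩
    exact (Submodule.mem_bot _).2 ((hv.zero_iff y (hSP hy)).2 (hfix y hy hyfix))
  have hSH : moved t P j ≤ H := (M.moved_le (by omega)).trans hPH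
  have hmap : (⁅(P j).subgroupOf H, zpowers σ⁆).map H.subtype = moved t P j := by
    rw [Subgroup.map_commutator, map_subgroupOf_eq_of_le hPH, MonoidHom.map_zpowers]
    rfl
  have hS' : ∀ w ∈ W, (∀ y ∈ ⁅(P j).subgroupOf H, zpowers σ⁆, ρ y w = w) → w = 0 := by
    intro w hw hf
    set A := (moved t P j).subgroupOf (secNorm (P (j + 1)) (Rr (j + 1))) with hA
    cases nonempty_fintype A
    have hSN : moved t P j ≤ secNorm (P (j + 1)) (Rr (j + 1)) :=
      hSH.trans (M.Nrm_le_secNorm hi)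
    refine hv.eq_zero_of_fixed A (T := S)
      (by rw [hA, map_subgroupOf_eq_of_le hSN]; exact hSQ)
      (M.rad_le _) (pow_card_ne_zero (M.cast_ne_zero (by omega) hi (M.p_ne j hi))
        (((M.pgroup j (by omega)).to_le (M.moved_le (by omega))).of_equiv
          (subgroupOfEquivOfLe hSN).symm) (M.prime j (by omega))) hw fun a ha => ?_
    obtain ⟨b, hb, hba⟩ := hmap.ge ha
    obtain rfl : b = ⟨(a : Γ), hSH ha⟩ := Subtype.ext hba
    exact hf _ hb
  obtain ⟨χ, v, hvW, hv0, hvχ⟩ := exists_weight ρ ((Rr j).subgroupOf H) W hW0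
    (fun a ha => hinv.1 a (hset.le ha)) fun a ha b hb w _ => hset.swap (hset.le ha) hb w
  obtain ⟨hq2, -, -, -⟩ := hset.bad_at hS' kill_bot hinv
    (fun w hw hf => (Submodule.mem_bot _).2 (hzero w hw hf)) hvW hvχ hv0
  -- the previous term
  have hprime := M.prime i (by omega)
  haveI := Fact.mk hprime
  set F := moved t P i with hF
  have hFP : F ≤ P i := M.moved_le (by omega)
  set Zf := Rr i ⊓ F with hZf
  have hFH : F ≤ H := hFP.trans hP'H
  have htP : zpowers t ≤ normalizer (P i : Set Γ) := zpowers_le.2 (M.t_norm i (by omega))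
  have hnorm : ∀ (A : Subgroup Γ) (g : H), (g : Γ) ∈ normalizer (A : Set Γ) →
      g ∈ normalizer ((A.subgroupOf H : Subgroup H) : Set H) := fun A g hA =>
    Subgroup.mem_normalizer_iff.2 fun y => by
      rw [Subgroup.mem_subgroupOf, Subgroup.mem_subgroupOf]
      exact Subgroup.mem_normalizer_iff.1 hA (y : Γ)
  have hFσ : F ≤ ⁅F, zpowers t⁆ := (Coprime.commutator_commutator_eq (zpowers t) (P i) htP
    (M.coprime_t (by omega) le_rfl) (Or.inl (zpowers_solvable t))).ge
  have htF : t ∈ normalizer (F : Set Γ) :=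
    Coprime.le_normalizer_commutator_right _ _ (mem_zpowers t)
  have hFp : IsPGroup (p i) ((F).subgroupOf H) :=
    ((M.pgroup i (by omega)).to_le hFP).of_equiv (subgroupOfEquivOfLe hFH).symm
  have hPp : IsPGroup (p i) ((P i).subgroupOf H) :=
    (M.pgroup i (by omega)).of_equiv (subgroupOfEquivOfLe hP'H).symm
  obtain ⟨u, huW, hu0, huσ⟩ := no_exception hset
    (fun y hy => mem_sup_right (pow_mem_phi hy)) (F := F.subgroupOf H) (Zf := Zf.subgroupOf H)
    (P := (P i).subgroupOf H) (s := p i) hprime (M.p_ne i (by omega)) (M.ne_r (by omega)) hFp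
    (fun z hz => hz.2)
    (fun a ha b hb => mem_inf.2 ⟨mem_sup_right (comm_mem_phi (hFP ha) (hFP hb)),
      F.mul_mem (F.mul_mem (F.mul_mem ha hb) (F.inv_mem ha)) (F.inv_mem hb)⟩)
    (hnorm F σ htF)
    (hnorm Zf σ (Coprime.le_normalizer_inf (A := zpowers t)
      (zpowers_le.2 (mem_normalizer_towerRad (by omega) (M.t_norm_all i))) (zpowers_le.2 htF)
      (mem_zpowers t)))
    (by
      rw [← Subgroup.map_le_map_iff_of_injective H.subtype_injective, map_commutator,
        MonoidHom.map_zpowers, map_subgroupOf_eq_of_le hFH]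
      exact hFσ)
    (fun z hz => hFP hz) hPp
    (fun g hg => hnorm (P j) g (M.norm j (by omega) i (Nat.le_succ i) hg))
    (fun g hg => hnorm (Rr j) g (M.le_normalizer_rad (Nat.le_succ i) (by omega) hg))
    (fun f hf z hz => by
      have hzf : (z : Γ)⁻¹ * ((f : Γ) * z * (f : Γ)⁻¹) ∈ Kk j := by
        have := M.rad_comm_prev (i := i) (by omega) (commutator_mem_commutator (inv_mem hz) hf)
        simpa [commutatorElement_def, mul_assoc] using this
      have h1 : ρ (z⁻¹ * (f * z * f⁻¹)) = 1 := by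
        rw [hρ, MonoidHom.comp_apply, hs.triv]
        exact fun y hy => mem_sup_left ((M.mem_ker hi (towerKer_le P h j hzf)).1 hzf y hy)
      calc ρ (f * z * f⁻¹) = ρ z * ρ (z⁻¹ * (f * z * f⁻¹)) := by
            rw [← map_mul]; congr 1; group
        _ = ρ z := by rw [h1, mul_one])
    (fun f hf z hz y hy => mem_sup_left ((M.mem_ker (i := i) (by omega)
      (towerKer_le P h i (M.commutator_mem_ker (by omega) (hFP hf) hz.1))).1
      (M.commutator_mem_ker (by omega) (hFP hf) hz.1) (y : Γ) hy))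
    (fun y hy => by
      have hy' : (y : Γ) ∈ ⁅P i, zpowers t⁆ ⊔ (P i ⊓ centralizer ({t} : Set Γ)) :=
        (M.split_t (by omega) le_rfl (M.t_norm i (by omega))).le hy
      obtain ⟨a, ha, c, hc, hac⟩ :=
        (Coprime.exists_mul_of_mem_sup ((inf_le_left).trans
          (Coprime.le_normalizer_commutator_left (zpowers t) (P i))) hy')
      refine ⟨⟨c, hP'H hc.1⟩, hc.1, ⟨c⁻¹ * a * c, H.mul_mem (H.mul_mem (H.inv_mem (hP'H hc.1))
        (hFH ha)) (hP'H hc.1)⟩, Coprime.conj_mem_of_mem_normalizer'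
          (Coprime.le_normalizer_commutator_left (zpowers t) (P i) hc.1) ha,
        Subtype.ext (mem_centralizer_single.1 hc.2), Subtype.ext ?_⟩
      show (y : Γ) = c * (c⁻¹ * a * c)
      rw [hac]
      group)
    (by
      rw [← Subgroup.map_le_map_iff_of_injective H.subtype_injective, Subgroup.map_sup,
        map_commutator, map_subgroupOf_eq_of_le hPH, map_subgroupOf_eq_of_le hP'H,
        map_subgroupOf_eq_of_le ((M.rad_le j).trans hPH)]
      exact (M.step i (by omega)).trans le_sup_left)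
    hW0 hinv hS'
  exact hu0 (hzero u huW huσ)

end MinTower

end Cfsg.Agent.FGS73.Turull
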