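import Cfsg.Agent.FGS73.Turull.Kernel
import Mathlib.RingTheory.RootsOfUnity.AlgebraicallyClosed

/-!
Operators commuting with an automorphism of prime order and trivial on its fixed vectors.
-/

set_option autoImplicit false

namespace Cfsg.Agent.FGS73.Turull

open Subgroup
open scoped commutatorElement
open Cfsg.Agent.LinAct (rho_mul rho_one rho_inv_apply)

variable {H : Type*} [Group H] {K : Type*} [Field K] {U : Type*} [AddCommGroup U] [Module K U]
  {ρ : H →* Module.End K U} {Q Z : Subgroup H} {q r : ℕ} {σ : H}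

/-- `l` centralises `Q` modulo `R`. -/
def Triv (Q R : Subgroup H) (l : H) : Prop := ∀ x ∈ Q, x⁻¹ * (l * x * l⁻¹) ∈ R

/-- `l` inverts `Q` modulo `R`. -/
def Invert (Q R : Subgroup H) (l : H) : Prop := ∀ x ∈ Q, x * (l * x * l⁻¹) ∈ R

/-- An `s`-element commuting with `σ` and trivial on its fixed vectors modulo killed ones. -/
structure Op (ρ : H →* Module.End K U) (Q Z : Subgroup H) (q : ℕ) (σ : H) (r : ℕ)
    (N : Submodule K U) (l : H) (s t : ℕ) : Prop where
  kill : Kill ρ σ N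
  s_prime : s.Prime
  s_ne_q : s ≠ q
  s_ne_r : s ≠ r
  pow_eq : l ^ s ^ t = 1
  comm : σ * l = l * σ
  norm_Q : l ∈ normalizer (Q : Set H)
  norm_Z : l ∈ normalizer (Z : Set H)
  kills : ∀ w, ρ σ w = w → ρ l w - w ∈ N

theorem fix_of_coprime {g : H} {k : ℕ} (hk : k.Coprime (orderOf g)) {w : U}
    (h : ρ (g ^ k) w = w) : ρ g w = w := by
  obtain ⟨j, hj⟩ := exists_pow_eq_self_of_coprime hk
  rw [← hj]
  clear hj
  induction j with
  | zero => simp
  | succ j ih => rw [pow_succ', rho_mul, ih, h]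

theorem rho_pow_eigen {g : H} {c : K} {w : U} (h : ρ g w = c • w) (k : ℕ) :
    ρ (g ^ k) w = c ^ k • w := by
  induction k with
  | zero => simp
  | succ k ih => rw [pow_succ', rho_mul, ih, map_smul, h, smul_smul, ← pow_succ]

theorem inv_fix {g : H} {w : U} (h : ρ g w = w) : ρ g⁻¹ w = w := by
  conv_lhs => rw [← h]
  rw [rho_inv_apply]

theorem Triv.inv {R : Subgroup H} {l : H} (hlR : l ∈ normalizer (R : Set H)) (h : Triv Q R l) :
    Triv Q R l⁻¹ := fun x hx => ((modFix R x).inv_mem ⟨hlR, h x hx⟩).2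

theorem Invert.sq {R : Subgroup H} {a b : H} (hR : Q ≤ normalizer (R : Set H))
    (hb : b ∈ normalizer (Q : Set H)) (ha : Invert Q R a) (hb' : Invert Q R b) :
    Triv Q R (a * b) := fun x hx => by
  have h2 : b * x * b⁻¹ ∈ Q := Coprime.conj_mem_of_mem_normalizer hb hx
  have h3 := ha _ h2
  have h4 := Coprime.conj_mem_of_mem_normalizer' (hR hx) (hb' x hx)
  have := mul_mem (inv_mem h4) h3
  convert this using 1
  group

theorem Invert.inv {R : Subgroup H} {l : H} (hlQ : l ∈ normalizer (Q : Set H))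
    (hR : Q ≤ normalizer (R : Set H)) (h : Invert Q R l) : Invert Q R l⁻¹ := fun x hx => by
  have h1 : l⁻¹ * x * l ∈ Q := Coprime.conj_mem_of_mem_normalizer' hlQ hx
  have h2 := Coprime.conj_mem_of_mem_normalizer (hR hx) (h _ h1)
  convert h2 using 1
  group

theorem Setting.coprime_card [Finite H] (h : Setting ρ Q Z q σ r) {A : Subgroup H} (hA : A ≤ Q) :
    (Nat.card A).Coprime r := by
  have := Fact.mk h.prime
  obtain ⟨n, hn⟩ := IsPGroup.iff_card.1 (h.pgroup.to_le hA)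
  rw [hn]
  exact ((Nat.coprime_primes h.prime h.r_prime).2 h.q_ne_r).pow_left n

variable {N : Submodule K U} (h : Setting ρ Q Z q σ r) (hnb : NoBadN ρ Q σ N)
  (hfpf : ∀ x ∈ Q, σ * x = x * σ → x ∈ Z) {l : H} {s t : ℕ} (hl : Op ρ Q Z q σ r N l s t)

include hl in
theorem Op.order_coprime {n : ℕ} (hn : n.Prime) (hne : s ≠ n) : (orderOf l).Coprime n :=
  Nat.Coprime.coprime_dvd_left (orderOf_dvd_of_pow_eq_one hl.pow_eq)
    (((Nat.coprime_primes hl.s_prime hn).2 hne).pow_left t)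

include h hl in
theorem Op.coprime_q : (orderOf l).Coprime q := hl.order_coprime h.prime hl.s_ne_q

include h hnb hl in
theorem Op.stabZ [Finite H] {χ : H → K} {v : U} (hv : v ∈ LinAct.wspace ρ Z χ) (hv0 : v ≠ 0) :
    l ∈ LinAct.wstab Z χ ∧ (σ ∉ LinAct.wstab Z χ → ρ l v = v) :=
  stab_of_trivial hl.kill hv hv0 (pow_card_ne_zero h.ne_zero (h.pgroup.to_le h.le) h.prime)
    (h.coprime_card h.le) h.r_prime h.sigma_pow h.sigma_Z hl.norm_Z hl.comm hl.pow_eq
    (((Nat.coprime_primes hl.s_prime h.r_prime).2 hl.s_ne_r).pow_left t) hl.kills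
    (W := ⊤) trivial (fun _ _ _ _ => trivial) (fun _ _ => trivial) (fun _ _ => trivial)
    (fun a ha b hb w _ => h.swap (h.le ha) hb w)
    fun hσ => hnb _ ((Submodule.ne_bot_iff _).2 ⟨v, hv, hv0⟩)
      (inv_wspace (fun x hx _ hw => h.wspace_inv hx hw) hσ)

include h hnb hl in
/-- On a moved weight the operator is trivial. -/
theorem Op.moved [Finite H] {χ : H → K} {v : U} (hv : v ∈ LinAct.wspace ρ Z χ) (hv0 : v ≠ 0)
    (hσ : σ ∉ LinAct.wstab Z χ) {w : U} (hw : w ∈ LinAct.wspace ρ Z χ) : ρ l w = w := by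
  by_cases hw0 : w = 0
  · simp [hw0]
  · exact (hl.stabZ h hnb hw hw0).2 hσ

variable {χ : H → K} {v : U} (hv : v ∈ LinAct.wspace ρ Z χ) (hv0 : v ≠ 0)

include hl in
theorem Op.triv_of_trivial {W : Submodule K U} (hW : W ≤ LinAct.wspace ρ Z χ) (hW0 : W ≠ ⊥)
    (hWQ : ∀ x ∈ Q, ∀ w ∈ W, ρ x w ∈ W) (hfix : ∀ w ∈ W, ρ l w = w) :
    Triv Q (h.radS hv hv0) l := fun x hx => by
  refine h.mem_radS_of_trivial hv hv0 hW hW0 hWQ
    (mul_mem (inv_mem hx) (Coprime.conj_mem_of_mem_normalizer hl.norm_Q hx)) fun w hw => ?_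
  rw [rho_mul, rho_mul, rho_mul, inv_fix (hfix w hw), hfix _ (hWQ x hx w hw), rho_inv_apply]

include h hnb hl in
theorem Op.rad_normalizer [Finite H] : l ∈ normalizer (h.radS hv hv0 : Set H) :=
  h.radS_normalizer hv hv0 hl.norm_Q (hl.stabZ h hnb hv hv0).1

include h hv hv0 in
theorem Setting.sigma_rad_normalizer (hσ : σ ∈ LinAct.wstab Z χ) :
    σ ∈ normalizer (h.radS hv hv0 : Set H) := h.radS_normalizer hv hv0 h.sigma_Q hσ

include h hnb hl hv hv0 in
/-- The weights of the radical are fixed. -/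
theorem Op.stabR [Finite H] (hσ : σ ∈ LinAct.wstab Z χ) {lam : H → K} {u : U}
    (hu : u ∈ LinAct.wspace ρ (h.radS hv hv0) lam) (hu0 : u ≠ 0)
    (huχ : u ∈ LinAct.wspace ρ Z χ) :
    l ∈ LinAct.wstab (h.radS hv hv0) lam ∧
      (σ ∉ LinAct.wstab (h.radS hv hv0) lam → ρ l u = u) :=
  stab_of_trivial hl.kill hu hu0
    (pow_card_ne_zero h.ne_zero (h.pgroup.to_le (h.radS_le hv hv0)) h.prime)
    (h.coprime_card (h.radS_le hv hv0)) h.r_prime h.sigma_pow
    (h.sigma_rad_normalizer hv hv0 hσ) (hl.rad_normalizer h hnb hv hv0) hl.comm hl.pow_eq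
    (((Nat.coprime_primes hl.s_prime h.r_prime).2 hl.s_ne_r).pow_left t) hl.kills
    (W := LinAct.wspace ρ Z χ) huχ (fun a ha w hw => h.wspace_inv (h.radS_le hv hv0 ha) hw)
    (fun w hw => LinAct.wstab_le_stab ρ Z χ hσ w hw)
    (fun w hw => LinAct.wstab_le_stab ρ Z χ (hl.stabZ h hnb hv hv0).1 w hw)
    (fun a ha b hb w hw => h.rad_comm hw (x := b) hb (h.radS_le hv hv0 ha))
    fun hσ' => hnb _ ((Submodule.ne_bot_iff _).2 ⟨u, hu, hu0⟩)
      (inv_wspace (fun x hx w hw a ha => by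
        rw [← h.rad_comm (wspace_le_of_le (h.Z_le_radS hv hv0) huχ hu hu0 hw) (x := a) ha hx,
          hw a ha, map_smul]) hσ')

include h hnb hl in
/-- An operator trivial modulo the radical is trivial on the weight space. -/
theorem Op.trivial_act [Finite H] [IsAlgClosed K] [FiniteDimensional K U]
    (ht : Triv Q (h.radS hv hv0) l) {x : H} (hx : x ∈ Q) {w : U}
    (hw : w ∈ LinAct.wspace ρ Z χ) : ρ (l * x * l⁻¹) w = ρ x w := by
  classical
  have hlV : ∀ w ∈ LinAct.wspace ρ Z χ, ρ l w ∈ LinAct.wspace ρ Z χ ∧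
      ρ l⁻¹ w ∈ LinAct.wspace ρ Z χ := fun w hw =>
    ⟨LinAct.wstab_le_stab ρ Z χ (hl.stabZ h hnb hv hv0).1 w hw,
      LinAct.wstab_le_stab ρ Z χ (inv_mem (hl.stabZ h hnb hv hv0).1) w hw⟩
  by_cases hσ : σ ∈ LinAct.wstab Z χ
  swap
  · have hfix : ∀ w ∈ LinAct.wspace ρ Z χ, ρ l w = w := fun w hw => hl.moved h hnb hv hv0 hσ hw
    rw [rho_mul, rho_mul, inv_fix (hfix w hw), hfix _ (h.wspace_inv hx hw)]
  set R := h.radS hv hv0
  have hRQ : R ≤ Q := h.radS_le hv hv0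
  have hlR : l ∈ normalizer (R : Set H) := hl.rad_normalizer h hnb hv hv0
  have hqn : ∀ u ∈ Q, u ^ Nat.card Q = 1 := fun u hu =>
    congrArg Subtype.val (pow_card_eq_one' (x := (⟨u, hu⟩ : Q)))
  have hrad : ∀ u ∈ R, ∀ w ∈ LinAct.wspace ρ Z χ, ρ (l * u * l⁻¹) w = ρ u w := by
    intro u hu w hw
    have hu' : l * u * l⁻¹ ∈ R := Coprime.conj_mem_of_mem_normalizer hlR hu
    have hd : u⁻¹ * (l * u * l⁻¹) ∈ R := mul_mem (inv_mem hu) hu'
    have := eq_one_of_weights ρ R (LinAct.wspace ρ Z χ) (fun a ha w hw => h.wspace_inv (hRQ ha) hw)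
      (fun a ha b hb w hw => h.rad_comm hw (x := b) hb (hRQ ha)) (hqn _ (hRQ hd))
      (pow_card_ne_zero h.ne_zero h.pgroup h.prime) (fun w hw => h.wspace_inv (hRQ hd) hw)
      (fun a ha w hw => h.rad_comm hw hd (hRQ ha)) (fun lam z hzV hz0 hz => by
        have hst := (hl.stabR h hnb hv hv0 hσ hz hz0 hzV).1
        rw [hz _ hd, LinAct.weight_mul ρ hz hz0 (inv_mem hu) hu', wstab_conj hst hu,
          ← LinAct.weight_mul ρ hz hz0 (inv_mem hu) hu, inv_mul_cancel,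
          LinAct.weight_one ρ hz hz0, one_smul]) w hw
    rw [rho_mul] at this
    calc ρ (l * u * l⁻¹) w = ρ u (ρ u⁻¹ (ρ (l * u * l⁻¹) w)) := by
          rw [← rho_mul, mul_inv_cancel, rho_one]
      _ = ρ u w := by rw [this]
  set u := x⁻¹ * (l * x * l⁻¹) with hu
  have huR : u ∈ R := ht x hx
  have hiter : ∀ i : ℕ, ∀ w ∈ LinAct.wspace ρ Z χ,
      ρ (l ^ i * x * (l ^ i)⁻¹) w = ρ (x * u ^ i) w := by
    intro i
    induction i with
    | zero => intro w _; simp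
    | succ i ih =>
      intro w hw
      have hpw : ∀ j : ℕ, ∀ w ∈ LinAct.wspace ρ Z χ, ρ (l * u ^ j * l⁻¹) w = ρ (u ^ j) w :=
        fun j => hrad _ (pow_mem huR j)
      rw [show l ^ (i + 1) * x * (l ^ (i + 1))⁻¹ = l * (l ^ i * x * (l ^ i)⁻¹) * l⁻¹ by
        rw [pow_succ']; group, rho_mul, rho_mul, ih _ (hlV w hw).2, ← rho_mul, ← rho_mul,
        show l * (x * u ^ i) * l⁻¹ = x * u * (l * u ^ i * l⁻¹) by rw [hu]; group,
        rho_mul, hpw i w hw, ← rho_mul, mul_assoc, ← pow_succ']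
  have hun : ∀ w ∈ LinAct.wspace ρ Z χ, ρ (u ^ s ^ t) w = w := by
    intro w hw
    have h1 := hiter (s ^ t) w hw
    rw [hl.pow_eq, one_mul, inv_one, mul_one, rho_mul] at h1
    have := congrArg (ρ x⁻¹) h1
    rw [rho_inv_apply, rho_inv_apply] at this
    exact this.symm
  have huw : ∀ w ∈ LinAct.wspace ρ Z χ, ρ u w = w := fun w hw =>
    fix_of_coprime (by
        have := Fact.mk h.prime
        obtain ⟨n, hn⟩ := IsPGroup.iff_card.1 h.pgroup
        exact Nat.Coprime.coprime_dvd_right (hn ▸ orderOf_dvd_of_pow_eq_one (hqn u (hRQ huR)))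
          ((((Nat.coprime_primes hl.s_prime h.prime).2 hl.s_ne_q).pow_left t).pow_right n))
      (hun w hw)
  have h1 := hiter 1 w hw
  rw [pow_one, pow_one, rho_mul, rho_mul, rho_mul ρ x, huw w hw] at h1
  rw [rho_mul, rho_mul]
  exact h1

end Cfsg.Agent.FGS73.Turull
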