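import Cfsg.Agent.FGS73.Turull.Operators
import Cfsg.Agent.FGS73.Turull.CharCore

/-!
An operator commuting with `σ` and trivial on its fixed vectors centralises or inverts the group
modulo the radical of a weight.
-/

set_option autoImplicit false

namespace Cfsg.Agent.FGS73.Turull

open Subgroup
open scoped commutatorElement
open Cfsg.Agent.LinAct (rho_mul rho_one rho_inv_apply)

variable {H : Type*} [Group H] [Finite H] {K : Type*} [Field K] [IsAlgClosed K] {U : Type*}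
  [AddCommGroup U] [Module K U] [FiniteDimensional K U]
  {ρ : H →* Module.End K U} {Q Z : Subgroup H} {q r : ℕ} {σ : H}
  {N : Submodule K U} (h : Setting ρ Q Z q σ r) (hnb : NoBadN ρ Q σ N)
  (hfpf : ∀ x ∈ Q, σ * x = x * σ → x ∈ Z) {l : H} {s t : ℕ} (hl : Op ρ Q Z q σ r N l s t)
  {χ : H → K} {v : U} (hv : v ∈ LinAct.wspace ρ Z χ) (hv0 : v ≠ 0)

include hl in
theorem Op.pow (k : ℕ) : Op ρ Q Z q σ r N (l ^ k) s t where
  kill := hl.kill
  s_prime := hl.s_prime
  s_ne_q := hl.s_ne_q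
  s_ne_r := hl.s_ne_r
  pow_eq := by rw [← pow_mul, mul_comm, pow_mul, hl.pow_eq, one_pow]
  comm := ((show Commute σ l from hl.comm).pow_right k).eq
  norm_Q := pow_mem hl.norm_Q k
  norm_Z := pow_mem hl.norm_Z k
  kills := fun w hw => by
    induction k with
    | zero => simp
    | succ k ih =>
      have := N.add_mem (hl.kill.inv l hl.comm _ ih) (hl.kills w hw)
      rwa [map_sub, sub_add_sub_cancel, ← rho_mul, ← pow_succ'] at this

include h hv hv0 hfpf in
omit [IsAlgClosed K] [FiniteDimensional K U] in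
/-- `σ` is fixed-point-free modulo the radical. -/
theorem Setting.free_fpf (hσ : σ ∈ LinAct.wstab Z χ) {x : H} (hx : x ∈ Q)
    (hm : σ ∈ modFix (h.radS hv hv0) x) : x ∈ h.radS hv hv0 := by
  obtain ⟨n, hn, hfix⟩ := lift_fixed h.pgroup h.prime h.coprime (h.radS_le hv hv0) hm
  have := (h.radS hv hv0).mul_mem
    (h.Z_le_radS hv hv0 (hfpf _ (mul_mem hx (h.radS_le hv hv0 hn)) hfix))
    ((h.radS hv hv0).inv_mem hn)
  rwa [mul_inv_cancel_right] at this

include h hnb hfpf hl in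
/-- No faithful action of order `o ≥ 3` modulo the radical. -/
theorem Op.core (hσ : σ ∈ LinAct.wstab Z χ) {o : ℕ} (ho3 : 3 ≤ o) (hor : o.Coprime r)
    (hocase : (o : K) ≠ 0 ∨ (o = s ∧ s ≠ 2) ∨ (o = 4 ∧ s = 2)) (htriv : Triv Q (h.radS hv hv0) (l ^ o))
    (hfree : ∀ x ∈ ⁅Q, zpowers l⁆, ∀ i, 0 < i → i < o → l ^ i ∈ modFix (h.radS hv hv0) x →
      x ∈ h.radS hv hv0) :
    Triv Q (h.radS hv hv0) l := by
  classical
  set R := h.radS hv hv0 with hR
  have hRQ : R ≤ Q := h.radS_le hv hv0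
  have hZR : Z ≤ R := h.Z_le_radS hv hv0
  have hlR : l ∈ normalizer (R : Set H) := hl.rad_normalizer h hnb hv hv0
  have hσR : σ ∈ normalizer (R : Set H) := h.sigma_rad_normalizer hv hv0 hσ
  set E := ⁅Q, zpowers l⁆ with hE
  have hEQ : E ≤ Q := commutator_le_Q hl.norm_Q
  by_contra hnt
  have hER : ¬ E ≤ R := fun hER => hnt fun x hx => by
    have := hER (commutator_mem_commutator (inv_mem hx) (mem_zpowers l))
    simpa [commutatorElement_def, mul_assoc] using this
  have hlE : l ∈ normalizer (E : Set H) :=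
    Coprime.le_normalizer_commutator_right (zpowers l) Q (mem_zpowers l)
  have hσl : σ ∈ normalizer (zpowers l : Set H) := Coprime.mem_normalizer_of_le_iff
    (fun x hx => by
      have hc : zpowers l ≤ centralizer ({σ} : Set H) := zpowers_le.2 (by
        rw [mem_centralizer_iff]; rintro _ rfl; exact hl.comm)
      rwa [mem_centralizer_iff.1 (hc hx) σ rfl, mul_inv_cancel_right])
    (fun x hx => by
      have hc : zpowers l ≤ centralizer ({σ} : Set H) := zpowers_le.2 (by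
        rw [mem_centralizer_iff]; rintro _ rfl; exact hl.comm)
      rwa [mul_assoc, ← mem_centralizer_iff.1 (hc hx) σ rfl, inv_mul_cancel_left])
  have hσE : σ ∈ normalizer (E : Set H) := Coprime.mem_normalizer_of_le_iff
    (fun x hx => by
      have : E ≤ E.comap (MulAut.conj σ).toMonoidHom := commutator_le.2 fun a ha b hb => by
        show σ * ⁅a, b⁆ * σ⁻¹ ∈ E
        rw [show σ * ⁅a, b⁆ * σ⁻¹ = ⁅σ * a * σ⁻¹, σ * b * σ⁻¹⁆ by
          simp [commutatorElement_def, mul_assoc]]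
        exact commutator_mem_commutator (Coprime.conj_mem_of_mem_normalizer h.sigma_Q ha)
          (Coprime.conj_mem_of_mem_normalizer hσl hb)
      exact this hx)
    (fun x hx => by
      have : E ≤ E.comap (MulAut.conj σ⁻¹).toMonoidHom := commutator_le.2 fun a ha b hb => by
        show σ⁻¹ * ⁅a, b⁆ * σ⁻¹⁻¹ ∈ E
        rw [show σ⁻¹ * ⁅a, b⁆ * σ⁻¹⁻¹ = ⁅σ⁻¹ * a * σ⁻¹⁻¹, σ⁻¹ * b * σ⁻¹⁻¹⁆ by
          simp [commutatorElement_def, mul_assoc]]
        exact commutator_mem_commutator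
          (Coprime.conj_mem_of_mem_normalizer (inv_mem h.sigma_Q) ha)
          (Coprime.conj_mem_of_mem_normalizer (inv_mem hσl) hb)
      simpa using this hx)
  obtain ⟨lam, u, hu, hu0, huR⟩ := exists_weight ρ R (LinAct.wspace ρ Z χ)
    ((Submodule.ne_bot_iff _).2 ⟨v, hv, hv0⟩) (fun a ha w hw => h.wspace_inv (hRQ ha) hw)
    (fun a ha b hb w hw => h.rad_comm hw (x := b) hb (hRQ ha))
  have hle := wspace_le_of_le hZR hu huR hu0
  have hQL : ∀ x ∈ Q, ∀ w ∈ LinAct.wspace ρ R lam, ρ x w ∈ LinAct.wspace ρ R lam :=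
    fun x hx w hw a ha => by rw [← h.rad_comm (hle hw) (x := a) ha hx, hw a ha, map_smul]
  have hL0 : LinAct.wspace ρ R lam ≠ ⊥ := (Submodule.ne_bot_iff _).2 ⟨u, huR, hu0⟩
  by_cases hlamσ : σ ∈ LinAct.wstab R lam
  swap
  · refine hnt (hl.triv_of_trivial h hv hv0 hle hL0 hQL fun w hw => ?_)
    by_cases hw0 : w = 0
    · simp [hw0]
    · exact (hl.stabR h hnb hv hv0 hσ hw hw0 (hle hw)).2 hlamσ
  have hllam := (hl.stabR h hnb hv hv0 hσ huR hu0 hu).1
  set W₀ := LinAct.wspace ρ R lam with hW₀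
  have hW₀σ : ∀ w ∈ W₀, ρ σ w ∈ W₀ := fun w hw => LinAct.wstab_le_stab ρ R lam hlamσ w hw
  have hW₀l : ∀ w ∈ W₀, ρ l w ∈ W₀ := fun w hw => LinAct.wstab_le_stab ρ R lam hllam w hw
  have hlo : ∀ w ∈ W₀, ρ (l ^ o) w = w := by
    intro w hw
    set D := W₀.map (ρ (l ^ o) - 1) with hD
    have hDle : D ≤ W₀ := by
      rintro _ ⟨y, hy, rfl⟩
      simpa using W₀.sub_mem (LinAct.wstab_le_stab ρ R lam (pow_mem hllam o) y hy) hy
    by_contra hne'
    have hmemD : ρ (l ^ o) w - w ∈ D := ⟨w, hw, by simp⟩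
    obtain ⟨x, hx, hxN, hxσ⟩ := hnb D
      (fun h0 => hne' (sub_eq_zero.1 ((Submodule.mem_bot K).1 (h0 ▸ hmemD)))) ⟨by
        rintro y hy _ ⟨z, hz, rfl⟩
        refine ⟨ρ y z, hQL y hy z hz, ?_⟩
        have h1 := (hl.pow o).trivial_act h hnb hv hv0 htriv hy
          (hle (LinAct.wstab_le_stab ρ R lam (pow_mem hllam o) z hz))
        rw [rho_mul, rho_mul, rho_inv_apply] at h1
        simp only [LinearMap.sub_apply, Module.End.one_apply, map_sub, h1], by
        rintro _ ⟨z, hz, rfl⟩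
        refine ⟨ρ σ z, hW₀σ z hz, ?_⟩
        simp only [LinearMap.sub_apply, Module.End.one_apply, map_sub, ← rho_mul,
          ((show Commute σ l from hl.comm).pow_right o).eq]⟩
    apply hxN
    obtain ⟨z, hz, rfl⟩ := hx
    have hfi : ∀ i : ℕ, ρ (σ ^ i) ((ρ (l ^ o) - 1) z) = (ρ (l ^ o) - 1) z := by
      intro i
      induction i with
      | zero => simp
      | succ i ih => rw [pow_succ', rho_mul, ih, hxσ]
    have h2 : (r : K) • (ρ (l ^ o) - 1) z ∈ N := by
      have h3 := (hl.pow o).kills _ (LinAct.sum_pow_fixed ρ h.sigma_pow z)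
      have h4 : (r : K) • (ρ (l ^ o) - 1) z =
          ∑ i ∈ Finset.range r, ρ (σ ^ i) ((ρ (l ^ o) - 1) z) := by
        simp only [hfi, Finset.sum_const, Finset.card_range, ← Nat.cast_smul_eq_nsmul K]
      rw [h4]
      convert h3 using 1
      simp only [LinearMap.sub_apply, Module.End.one_apply, map_sub, Finset.sum_sub_distrib,
        map_sum]
      congr 1
      refine Finset.sum_congr rfl fun i _ => ?_
      rw [← rho_mul, ← rho_mul,
        (((show Commute σ l from hl.comm).pow_right o).pow_left i).eq]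
    exact (N.smul_mem_iff h.r_ne_zero).1 h2
  set g := σ * l with hg
  have hcomm : Commute σ l := hl.comm
  have hlamZ : ∀ z ∈ Z, lam z = χ z := fun z hz =>
    weight_eq (fun z hz => huR z (hZR hz) : u ∈ LinAct.wspace ρ Z lam) hu hu0 hz
  have hnd : ∀ x ∈ E, x ∉ R ⊓ E → ∃ u ∈ E, lam ⁅u, x⁆ ≠ 1 := by
    intro x hx hxR
    have hxR' : x ∉ R := fun h' => hxR ⟨h', hx⟩
    rw [hR, h.mem_radS, not_and] at hxR'
    obtain ⟨t', ht', hne⟩ : ∃ t ∈ Q, χ ⁅t, x⁆ ≠ 1 := by simpa using hxR' (hEQ hx)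
    obtain ⟨a, ha, c, hc, hcl, rfl⟩ := split h.pgroup h.prime (hl.coprime_q h) hl.norm_Q ht'
    refine ⟨a, ha, fun h1 => hne ?_⟩
    rw [hlamZ _ (h.comm a (hEQ ha) x (hEQ hx))] at h1
    rw [h.beta_left hv hv0 (hEQ hx) (hEQ ha) hc, h1,
      h.orth hv hv0 hl.norm_Q (hl.stabZ h hnb hv hv0).1 hc hcl hx, one_mul]
  have hcommE : ∀ a ∈ E, ∀ b ∈ E, ⁅a, b⁆ ∈ R ⊓ E := fun a ha b hb =>
    mem_inf.2 ⟨hZR (h.comm a (hEQ ha) b (hEQ hb)),
      mul_mem (mul_mem (mul_mem ha hb) (inv_mem ha)) (inv_mem hb)⟩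
  have hfreeg : ∀ x ∈ E, ∀ i, 0 < i → i < r * o →
      x⁻¹ * (g ^ i * x * (g ^ i)⁻¹) ∈ R ⊓ E → x ∈ R ⊓ E := fun x hx i hi hiN hm => ⟨by
    have hm' : g ^ i ∈ modFix R x := ⟨pow_mem (mul_mem hσR hlR) i, hm.1⟩
    have hlo' : l ^ o ∈ modFix R x := ⟨pow_mem hlR o, htriv x (hEQ hx)⟩
    by_cases hd : r ∣ i
    · obtain ⟨k, rfl⟩ := hd
      have hk : k < o := Nat.lt_of_mul_lt_mul_left hiN
      have hgi : g ^ (r * k) = l ^ (r * k) := by
        rw [hg, hcomm.mul_pow, pow_mul, h.sigma_pow, one_pow, one_mul]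
      rw [hgi] at hm'
      refine hfree x hx ((r * k) % o) ?_ (Nat.mod_lt _ (by omega)) ?_
      · rcases Nat.eq_zero_or_pos (r * k % o) with h0 | h0
        · have : o ∣ k := hor.dvd_of_dvd_mul_left (Nat.dvd_of_mod_eq_zero h0)
          rw [Nat.eq_zero_of_dvd_of_lt this hk] at hi
          simp at hi
        · exact h0
      · have h1 : l ^ (r * k % o) = l ^ (r * k) * ((l ^ o) ^ (r * k / o))⁻¹ := by
          rw [eq_mul_inv_iff_mul_eq, ← pow_mul, ← pow_add, Nat.mod_add_div]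
        rw [h1]
        exact mul_mem hm' (inv_mem (pow_mem hlo' _))
    · refine h.free_fpf hfpf hv hv0 hσ (hEQ hx) (pow_mem_iff_of_prime h.r_prime h.sigma_pow
        (i := i * o) (fun hd' => hd ((hor.symm.dvd_of_dvd_mul_right) hd')) ?_)
      have h1 : σ ^ (i * o) = (g ^ i) ^ o * ((l ^ o) ^ i)⁻¹ := by
        rw [eq_mul_inv_iff_mul_eq, ← pow_mul, ← pow_mul, mul_comm o i, hg, hcomm.mul_pow]
      rw [h1]
      exact mul_mem (pow_mem hm' o) (inv_mem (pow_mem hlo' i)), hx⟩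
  have hE0 := pow_card_ne_zero h.ne_zero (h.pgroup.to_le hEQ) h.prime
  have hRE' : R ⊓ E ≤ E := inf_le_right
  have hne : ¬ E ≤ R ⊓ E := fun hle' => hER (hle'.trans inf_le_left)
  have hgE : g ∈ normalizer (E : Set H) := mul_mem hσE hlE
  have hNR : ∀ a : H, a ∈ normalizer (R : Set H) → a ∈ normalizer (E : Set H) →
      a ∈ normalizer ((R ⊓ E : Subgroup H) : Set H) := fun a haR haE =>
    Coprime.le_normalizer_inf (A := zpowers a) (zpowers_le.2 haR) (zpowers_le.2 haE)
      (mem_zpowers a)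
  have hgRE := hNR g (mul_mem hσR hlR) hgE
  have hgW₀ : ∀ w ∈ W₀, ρ g w ∈ W₀ := fun w hw => by rw [hg, rho_mul]; exact hW₀σ _ (hW₀l w hw)
  have hlopow : ∀ (k : ℕ), ∀ w ∈ W₀, ρ ((l ^ o) ^ k) w = w := fun k w hw => by
    induction k with
    | zero => simp
    | succ k ih => rw [pow_succ', rho_mul, ih, hlo w hw]
  obtain ⟨M, hMW, F, hgM⟩ := exists_frame ρ W₀ hL0 E (R ⊓ E) hRE' lam
    (fun x hx => hQL x (hEQ hx)) (fun z hz w hw => hw z hz.1) hcommE hnd g
    (fun x hx => Coprime.conj_mem_of_mem_normalizer hgE hx)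
    (fun x hx => Coprime.conj_mem_of_mem_normalizer hgRE hx) hgW₀ (N := r * o)
    (Nat.mul_pos h.r_prime.pos (by omega))
    (fun h1 => h.r_prime.ne_one (Nat.eq_one_of_mul_eq_one_right h1)) hE0
    (fun w hw => by
      rw [hg, hcomm.mul_pow, pow_mul, h.sigma_pow, one_pow, one_mul, mul_comm r o, pow_mul]
      exact hlopow r w hw) hfreeg
  have hσM : ∀ w ∈ M, ρ σ w ∈ M := by
    have hst : σ ^ o ∈ LinAct.stab ρ M := by
      intro w hw
      have h1 : g ^ o ∈ LinAct.stab ρ M :=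
        pow_mem (show g ∈ LinAct.stab ρ M from hgM) o
      have h2 := h1 w hw
      rw [hg, hcomm.mul_pow, rho_mul, hlo w (hMW hw)] at h2
      exact h2
    obtain ⟨j, hj⟩ := exists_pow_eq_self_of_coprime (x := σ) (n := o)
      (Nat.Coprime.coprime_dvd_right (orderOf_dvd_of_pow_eq_one h.sigma_pow) hor)
    exact hj ▸ pow_mem hst j
  have hlM : ∀ w ∈ M, ρ l w ∈ M := fun w hw => by
    have := inv_apply_mem hσM _ (hgM w hw)
    rwa [hg, ← rho_mul, inv_mul_cancel_left] at this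
  have hσfree : ∀ x ∈ E, σ ∈ modFix (R ⊓ E) x → x ∈ R ⊓ E := fun x hx hm =>
    ⟨h.free_fpf hfpf hv hv0 hσ (hEQ hx) ⟨hσR, hm.2.1⟩, hx⟩
  -- the operator fixes the fixed vectors exactly
  have hfix : ∀ w ∈ M, ρ σ w = w → ρ l w = w := by
    intro w hw hwσ
    have hd := F.dead (h.pgroup.to_le hEQ) h.prime hl.kill hne hσE (hNR σ hσR hσE) hσM h.coprime
      hσfree (Finset.range r ×ˢ (Finset.univ : Finset Bool))
      (fun p => σ ^ p.1 * l ^ p.2.toNat) (fun p => if p.2 then (1 : K) else -1)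
      (fun i _ j _ => (((Commute.refl σ).pow_pow _ _).mul_left
        ((hcomm.pow_pow _ _).symm)).mul_right ((hcomm.pow_pow _ _).mul_left
          ((Commute.refl l).pow_pow _ _)) |>.eq)
      (fun p _ => mul_mem (pow_mem hσE _) (pow_mem hlE _))
      (fun p _ => mul_mem (pow_mem (hNR σ hσR hσE) _) (pow_mem (hNR l hlR hlE) _))
      (fun p _ => fun w hw => by
        have hσs : σ ∈ LinAct.stab ρ M := hσM
        have hls : l ∈ LinAct.stab ρ M := hlM
        exact (mul_mem (pow_mem hσs _) (pow_mem hls _) : _ ∈ LinAct.stab ρ M) w hw)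
      (j₀ := (0, false)) (by simp [h.r_prime.pos]) (by simp)
      (fun p hp hp0 => by
        simp only [pow_zero, Bool.toNat_false, one_mul, inv_one]
        obtain ⟨i, b⟩ := p
        simp only [Finset.mem_product, Finset.mem_range, Finset.mem_univ, and_true] at hp
        constructor
        · refine Nat.Coprime.coprime_dvd_left (orderOf_dvd_of_pow_eq_one (n := r * s ^ t) ?_)
            (Nat.Coprime.mul_left ((Nat.coprime_primes h.r_prime h.prime).2 h.q_ne_r.symm)
              (((Nat.coprime_primes hl.s_prime h.prime).2 hl.s_ne_q).pow_left t))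
          rw [(hcomm.pow_pow _ _).mul_pow, ← pow_mul, ← pow_mul, mul_left_comm i r, pow_mul,
            h.sigma_pow, one_pow, one_mul, mul_left_comm b.toNat, mul_comm r, mul_comm b.toNat,
            mul_assoc, pow_mul l, hl.pow_eq, one_pow]
        · intro x hx hm
          refine ⟨?_, hx⟩
          have hm' : σ ^ i * l ^ b.toNat ∈ modFix R x :=
            ⟨mul_mem (pow_mem hσR _) (pow_mem hlR _), hm.2.1⟩
          rcases Nat.eq_zero_or_pos i with h0 | hi
          · subst h0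
            cases b with
            | false => exact absurd rfl hp0
            | true =>
              exact hfree x hx 1 one_pos (by omega) (by simpa using hm')
          · refine h.free_fpf hfpf hv hv0 hσ (hEQ hx) (pow_mem_iff_of_prime h.r_prime h.sigma_pow
              (i := i * o) (fun hd => absurd (Nat.eq_zero_of_dvd_of_lt
                ((hor.symm.dvd_of_dvd_mul_right) hd) hp) hi.ne') ?_)
            have h1 : σ ^ (i * o) = (σ ^ i * l ^ b.toNat) ^ o * ((l ^ o) ^ b.toNat)⁻¹ := by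
              rw [eq_mul_inv_iff_mul_eq, (hcomm.pow_pow _ _).mul_pow, ← pow_mul, ← pow_mul,
                ← pow_mul, mul_comm o b.toNat]
            rw [h1]
            exact mul_mem (pow_mem hm' o)
              (inv_mem (pow_mem (⟨pow_mem hlR o, htriv x (hEQ hx)⟩ : l ^ o ∈ modFix R x) _)))
      (fun w hw => by
        have := hl.kills _ (LinAct.sum_pow_fixed ρ h.sigma_pow w)
        convert this using 1
        rw [Finset.sum_product, map_sum, ← Finset.sum_sub_distrib]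
        refine Finset.sum_congr rfl fun i _ => ?_
        rw [Fintype.sum_bool, ← rho_mul ρ l, ← (hcomm.pow_left i).eq]
        simp [sub_eq_add_neg])
      w hw
    rw [Finset.sum_product] at hd
    have hfi : ∀ i : ℕ, ρ (σ ^ i) w = w := fun i => by
      induction i with
      | zero => simp
      | succ i ih => rw [pow_succ', rho_mul, ih, hwσ]
    have hterm : ∀ i ∈ Finset.range r, (∑ b : Bool, (if b then (1 : K) else -1) •
        ρ (σ ^ i * l ^ b.toNat) w) = ρ l w - w := fun i _ => by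
      rw [Fintype.sum_bool]
      simp only [Bool.toNat_true, Bool.toNat_false, pow_one, pow_zero, mul_one, if_true,
        Bool.false_eq_true, if_false, (hcomm.pow_left i).eq, rho_mul, hfi, one_smul, neg_one_smul,
        sub_eq_add_neg]
    rw [Finset.sum_congr rfl hterm, Finset.sum_const, Finset.card_range,
      ← Nat.cast_smul_eq_nsmul K] at hd
    exact sub_eq_zero.1 ((smul_eq_zero.1 hd).resolve_left h.r_ne_zero)
  by_cases ho0 : (o : K) = 0
  · -- the order vanishes in the field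
    have hs0 : (s : K) = 0 ∧ ((o = s ∧ s ≠ 2) ∨ (o = 4 ∧ s = 2)) := by
      rcases hocase with h1 | h1 | h1
      · exact absurd ho0 h1
      · exact ⟨h1.1 ▸ ho0, Or.inl h1⟩
      · refine ⟨?_, Or.inr h1⟩
        rw [h1.1, show (4 : ℕ) = 2 * 2 from rfl, Nat.cast_mul, mul_self_eq_zero] at ho0
        rw [h1.2]; exact ho0
    exact F.char_false hne h.r_prime h.sigma_pow h.r_ne_zero hor hl.comm hl.s_prime hs0.1 hs0.2
      hσE hlE (hNR σ hσR hσE) (hNR l hlR hlE) hσM hlM (fun w hw => hlo w (hMW hw))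
      (fun x hx => ⟨pow_mem (hNR l hlR hlE) o,
        mem_inf.2 ⟨htriv x (hEQ hx), mul_mem (inv_mem hx)
          (Coprime.conj_mem_of_mem_normalizer (pow_mem hlE o) hx)⟩⟩)
      hl.pow_eq (fun x hx i hi hiN hm => hfreeg x hx i hi hiN hm.2) hfix
  obtain ⟨ζ, hζ⟩ : ∃ ζ : K, IsPrimitiveRoot ζ o := by
    haveI : NeZero (o : K) := ⟨ho0⟩
    exact HasEnoughRootsOfUnity.exists_primitiveRoot K o
  have hroot : ∀ c : K, c ^ o = 1 → c ≠ 1 → ∀ w ∈ M, ρ g w = c • w → w = 0 := by
    intro c hc hc1 w hw he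
    have h1 : ρ (g ^ o) w = w := by rw [rho_pow_eigen he, hc, one_smul]
    rw [hg, hcomm.mul_pow, rho_mul, hlo w (hMW hw)] at h1
    have h2 : ρ σ w = w := fix_of_coprime (Nat.Coprime.coprime_dvd_right
      (orderOf_dvd_of_pow_eq_one h.sigma_pow) hor) h1
    rw [hg, rho_mul, hfix w hw h2, h2] at he
    by_contra hw0
    exact hc1 (smul_left_injective K hw0 (he.symm.trans (one_smul K w).symm))
  have ho : o ≠ 0 := by omega
  have hζ1 : ζ ≠ 1 := hζ.ne_one (by omega)
  have hζ2 : ζ ^ 2 ≠ 1 := hζ.pow_ne_one_of_pos_of_lt two_ne_zero (by omega)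
  have hexp : ∀ c : K, c ^ o = 1 → c ^ (r * o) = 1 := fun c hc => by
    rw [mul_comm, pow_mul, hc, one_pow]
  have hζ2o : (ζ ^ 2) ^ o = 1 := by rw [← pow_mul, mul_comm, pow_mul, hζ.pow_eq_one, one_pow]
  obtain ⟨-, -, hall⟩ := hh_wrap ρ M F.ne E (R ⊓ E) hRE' lam F.inv F.scal hcommE hnd
    g (fun x hx => Coprime.conj_mem_of_mem_normalizer hgE hx)
    (fun x hx => Coprime.conj_mem_of_mem_normalizer hgRE hx)
    hgM (N := r * o) (by rw [Nat.cast_mul]; exact mul_ne_zero h.r_ne_zero ho0) hE0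
    (fun w hw => by
      rw [hg, hcomm.mul_pow, pow_mul, h.sigma_pow, one_pow, one_mul, mul_comm r o, pow_mul]
      exact hlopow r w (hMW hw)) hfreeg
    (c₀ := ζ) (hexp ζ hζ.pow_eq_one) (hroot ζ hζ.pow_eq_one hζ1)
    (by rw [Subgroup.inf_relIndex_right, Ne, Subgroup.relIndex_eq_one]; exact hER)
  obtain ⟨w, hw, hw0, hwe⟩ := hall (ζ ^ 2) (hexp _ hζ2o) (fun he => hζ1 (by
    rw [sq] at he
    exact (mul_eq_left₀ (hζ.ne_zero ho)).1 he))
  exact hw0 (hroot (ζ ^ 2) hζ2o hζ2 w hw hwe)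

include h hnb hfpf hl in
/-- Involutions modulo the radical. -/
theorem Op.two (hσ : σ ∈ LinAct.wstab Z χ) (hs : s = 2)
    (htriv : Triv Q (h.radS hv hv0) (l ^ 2)) :
    Triv Q (h.radS hv hv0) l ∨ Invert Q (h.radS hv hv0) l := by
  classical
  have hq2 : q ≠ 2 := fun e => hl.s_ne_q (by omega)
  set R := h.radS hv hv0 with hR
  have hRQ : R ≤ Q := h.radS_le hv hv0
  have hZR : Z ≤ R := h.Z_le_radS hv hv0
  have hlR : l ∈ normalizer (R : Set H) := hl.rad_normalizer h hnb hv hv0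
  have hσR : σ ∈ normalizer (R : Set H) := h.sigma_rad_normalizer hv hv0 hσ
  set C := Q ⊓ centralizer ({l} : Set H) with hC
  have hCmem : ∀ x, x ∈ C ↔ x ∈ Q ∧ l * x = x * l := fun x => by
    simp [hC, mem_centralizer_iff]
  by_cases hCR : C ≤ R
  · refine Or.inr fun x hx => ?_
    set y := l * x * l⁻¹ with hy
    have hyQ : y ∈ Q := Coprime.conj_mem_of_mem_normalizer hl.norm_Q hx
    have h2 : x⁻¹ * (l ^ 2 * x * (l ^ 2)⁻¹) ∈ R := htriv x hx
    have hm : l ∈ modFix R (x * y) := ⟨hlR, by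
      have := mul_mem (hZR (h.comm y⁻¹ (inv_mem hyQ) x⁻¹ (inv_mem hx))) h2
      convert this using 1
      rw [hy]
      simp [commutatorElement_def, sq, mul_assoc]⟩
    obtain ⟨n, hn, hfix⟩ := lift_fixed h.pgroup h.prime (hl.coprime_q h) hRQ hm
    have := R.mul_mem (hCR ((hCmem _).2 ⟨mul_mem (mul_mem hx hyQ) (hRQ hn), hfix⟩)) (inv_mem hn)
    rwa [mul_inv_cancel_right] at this
  refine Or.inl (by_contra fun hnt => ?_)
  have hlC : ∀ c ∈ C, ρ (l * c) = ρ (c * l) := fun c hc => by rw [((hCmem c).1 hc).2]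
  obtain ⟨lam, u, hu, hu0, huR⟩ := exists_weight ρ R (LinAct.wspace ρ Z χ)
    ((Submodule.ne_bot_iff _).2 ⟨v, hv, hv0⟩) (fun a ha w hw => h.wspace_inv (hRQ ha) hw)
    (fun a ha b hb w hw => h.rad_comm hw (x := b) hb (hRQ ha))
  have hle := wspace_le_of_le hZR hu huR hu0
  have hQL : ∀ x ∈ Q, ∀ w ∈ LinAct.wspace ρ R lam, ρ x w ∈ LinAct.wspace ρ R lam :=
    fun x hx w hw a ha => by rw [← h.rad_comm (hle hw) (x := a) ha hx, hw a ha, map_smul]
  have hL0 : LinAct.wspace ρ R lam ≠ ⊥ := (Submodule.ne_bot_iff _).2 ⟨u, huR, hu0⟩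
  by_cases hlamσ : σ ∈ LinAct.wstab R lam
  swap
  · refine hnt (hl.triv_of_trivial h hv hv0 hle hL0 hQL fun w hw => ?_)
    by_cases hw0 : w = 0
    · simp [hw0]
    · exact (hl.stabR h hnb hv hv0 hσ hw hw0 (hle hw)).2 hlamσ
  have hllam := (hl.stabR h hnb hv hv0 hσ huR hu0 hu).1
  set W := (LinAct.wspace ρ R lam).map (ρ l - 1) with hW
  have hW0 : W ≠ ⊥ := fun h0 => hnt (hl.triv_of_trivial h hv hv0 hle hL0 hQL fun w hw => by
    have h1 : (ρ l - 1) w ∈ W := Submodule.mem_map_of_mem hw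
    rw [h0, Submodule.mem_bot] at h1
    simpa [sub_eq_zero] using h1)
  have hWle : W ≤ LinAct.wspace ρ R lam := by
    rintro _ ⟨w, hw, rfl⟩
    simpa using Submodule.sub_mem _ (LinAct.wstab_le_stab ρ R lam hllam w hw) hw
  have hCQ : C ≤ Q := inf_le_left
  have hWC : ∀ x ∈ C, ∀ w ∈ W, ρ x w ∈ W := by
    rintro x hx _ ⟨w, hw, rfl⟩
    refine ⟨ρ x w, hQL x (hCQ hx) w hw, ?_⟩
    simp only [LinearMap.sub_apply, Module.End.one_apply, map_sub, ← rho_mul, hlC x hx]
  have hWσ : ∀ w ∈ W, ρ σ w ∈ W := by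
    rintro _ ⟨w, hw, rfl⟩
    refine ⟨ρ σ w, LinAct.wstab_le_stab ρ R lam hlamσ w hw, ?_⟩
    simp only [LinearMap.sub_apply, Module.End.one_apply, map_sub, ← rho_mul, hl.comm]
  have hexN : ∀ w ∈ W, ρ σ w = w → w ∈ N := by
    rintro _ ⟨w, hw, rfl⟩ hf
    have hfi : ∀ i : ℕ, ρ (σ ^ i) ((ρ l - 1) w) = (ρ l - 1) w := by
      intro i
      induction i with
      | zero => simp
      | succ i ih => rw [pow_succ', rho_mul, ih, hf]
    have hA : (r : K) • (ρ l - 1) w ∈ N := by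
      have h3 := hl.kills _ (LinAct.sum_pow_fixed ρ h.sigma_pow w)
      have h4 : (r : K) • (ρ l - 1) w = ∑ i ∈ Finset.range r, ρ (σ ^ i) ((ρ l - 1) w) := by
        simp only [hfi, Finset.sum_const, Finset.card_range, ← Nat.cast_smul_eq_nsmul K]
      rw [h4]
      convert h3 using 1
      simp only [LinearMap.sub_apply, Module.End.one_apply, map_sub, Finset.sum_sub_distrib,
        map_sum]
      congr 1
      refine Finset.sum_congr rfl fun i _ => ?_
      rw [← rho_mul, ((show Commute σ l from hl.comm).pow_left i).eq, rho_mul]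
    exact (N.smul_mem_iff h.r_ne_zero).1 hA
  have hlamZ : ∀ z ∈ Z, lam z = χ z := fun z hz =>
    weight_eq (fun z hz => huR z (hZR hz) : u ∈ LinAct.wspace ρ Z lam) hu hu0 hz
  have hσC : ∀ x ∈ C, σ * x * σ⁻¹ ∈ C := fun x hx => by
    rw [hCmem] at hx ⊢
    exact ⟨Coprime.conj_mem_of_mem_normalizer h.sigma_Q hx.1,
      (((show Commute σ l from hl.comm).symm.mul_right hx.2).mul_right
        (show Commute σ l from hl.comm).symm.inv_right).eq⟩
  have hnd : ∀ x ∈ C, x ∉ R ⊓ C → ∃ u ∈ C, lam ⁅u, x⁆ ≠ 1 :=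
    (fun x hx hxR => by
      have hxR' : x ∉ R := fun h' => hxR ⟨h', hx⟩
      rw [hR, h.mem_radS, not_and] at hxR'
      obtain ⟨t', ht', hne⟩ : ∃ t ∈ Q, χ ⁅t, x⁆ ≠ 1 := by simpa using hxR' (hCQ hx)
      obtain ⟨a, ha, c, hc, hcl, rfl⟩ := split h.pgroup h.prime (hl.coprime_q h) hl.norm_Q ht'
      have haQ := commutator_le_Q hl.norm_Q ha
      refine ⟨c, (hCmem c).2 ⟨hc, hcl⟩, fun h1 => hne ?_⟩
      rw [hlamZ _ (h.comm c hc x (hCQ hx))] at h1
      rw [h.beta_left hv hv0 (hCQ hx) haQ hc, h1, mul_one]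
      exact h.beta_swap hv hv0 (hCQ hx) haQ
        (h.orth hv hv0 hl.norm_Q (hl.stabZ h hnb hv hv0).1 (hCQ hx) ((hCmem x).1 hx).2 ha))
  have hσCn : σ ∈ normalizer (C : Set H) := by
    have hcl : σ ∈ normalizer ((centralizer ({l} : Set H) : Subgroup H) : Set H) := by
      refine Subgroup.le_normalizer ?_
      rw [mem_centralizer_iff]; rintro _ rfl; exact hl.comm.symm
    exact Coprime.le_normalizer_inf (A := zpowers σ) (zpowers_le.2 h.sigma_Q) (zpowers_le.2 hcl)
      (mem_zpowers σ)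
  have hex := hl.kill.no_fixed h.r_prime h.sigma_pow h.r_ne_zero (h.pgroup.to_le hCQ) h.prime
    h.q_ne_r h.ne_zero inf_le_right (fun hle' => hCR (hle'.trans inf_le_left)) hWC hWσ
    (fun z hz w hw => hWle hw z hz.1)
    (fun a ha b hb => mem_inf.2 ⟨hZR (h.comm a (hCQ ha) b (hCQ hb)),
      mul_mem (mul_mem (mul_mem ha hb) (inv_mem ha)) (inv_mem hb)⟩)
    hnd hσCn
    (Coprime.le_normalizer_inf (A := zpowers σ) (zpowers_le.2 hσR) (zpowers_le.2 hσCn)
      (mem_zpowers σ))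
    (fun x hx hm => ⟨h.free_fpf hfpf hv hv0 hσ (hCQ hx) ⟨hσR, hm.2.1⟩, hx⟩) hexN
  obtain ⟨hidx, hN, -⟩ := hh_wrap ρ W hW0 C (R ⊓ C) inf_le_right lam hWC
    (fun z hz w hw => hWle hw z hz.1)
    (fun a ha b hb => mem_inf.2 ⟨hZR (h.comm a (hCQ ha) b (hCQ hb)),
      mul_mem (mul_mem (mul_mem ha hb) (inv_mem ha)) (inv_mem hb)⟩)
    hnd
    σ hσC (fun x hx => mem_inf.2 ⟨Coprime.conj_mem_of_mem_normalizer hσR hx.1, hσC x hx.2⟩)
    hWσ h.r_ne_zero (pow_card_ne_zero h.ne_zero (h.pgroup.to_le hCQ) h.prime)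
    (fun w _ => by rw [h.sigma_pow, rho_one])
    (fun x hx i hi hir hm => ⟨h.free_fpf hfpf hv hv0 hσ (hCQ hx)
      (pow_mem_iff_of_prime h.r_prime h.sigma_pow
        (fun hd => absurd (Nat.eq_zero_of_dvd_of_lt hd hir) hi.ne')
        (S := modFix R x) ⟨pow_mem hσR i, hm.1⟩), hx⟩)
    (c₀ := 1) (one_pow r) (fun w hw hf => hex w hw (by rwa [one_smul] at hf))
    (by rw [Subgroup.inf_relIndex_right, Ne, Subgroup.relIndex_eq_one]; exact hCR)
  rw [Subgroup.inf_relIndex_right] at hidx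
  have := Fact.mk h.prime
  obtain ⟨n, hn⟩ := IsPGroup.iff_card.1 (h.pgroup.to_le hCQ)
  obtain ⟨k, -, hk⟩ := (Nat.dvd_prime_pow h.prime).1 (hn ▸ Subgroup.relIndex_dvd_card R C)
  obtain ⟨j, hj⟩ := h.r_prime.odd_of_ne_two (by omega)
  have hd : 2 ∣ q ^ k := hk ▸ hidx ▸ dvd_pow ⟨j, by omega⟩ two_ne_zero
  exact hq2 ((Nat.prime_dvd_prime_iff_eq Nat.prime_two h.prime).1
    (Nat.prime_two.dvd_of_dvd_pow hd)).symm

omit hl in
include h hnb hfpf in
/-- An operator centralises or, being a 2-element, inverts modulo the radical of a fixed weight. -/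
theorem Op.act (hσ : σ ∈ LinAct.wstab Z χ) :
    ∀ (t : ℕ) (l : H), Op ρ Q Z q σ r N l s t →
      Triv Q (h.radS hv hv0) l ∨ (s = 2 ∧ Invert Q (h.radS hv hv0) l) := by
  intro t
  induction t with
  | zero =>
    intro l hl
    left
    intro x hx
    have : l = 1 := by simpa using hl.pow_eq
    simp [this]
  | succ t ih =>
    intro l hl
    set R := h.radS hv hv0 with hR
    have hlR : l ∈ normalizer (R : Set H) := hl.rad_normalizer h hnb hv hv0
    have hls : Op ρ Q Z q σ r N (l ^ s) s t :=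
      { (hl.pow s) with pow_eq := by rw [← pow_mul, ← pow_succ']; exact hl.pow_eq }
    have hsr : s.Coprime r := (Nat.coprime_primes hl.s_prime h.r_prime).2 hl.s_ne_r
    rcases ih _ hls with htr | ⟨hs, hinv⟩
    · by_cases hs : s = 2
      · subst hs
        rcases hl.two h hnb hfpf hv hv0 hσ rfl htr with h1 | h1
        · exact Or.inl h1
        · exact Or.inr ⟨rfl, h1⟩
      · refine Or.inl (hl.core h hnb hfpf hv hv0 hσ (o := s) ?_ hsr (Or.inr (Or.inl ⟨rfl, hs⟩)) htr ?_)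
        · have := hl.s_prime.two_le; omega
        · intro x hx i hi his hm
          refine h.free_rad hv hv0 (hl.coprime_q h) hl.norm_Q (hl.stabZ h hnb hv hv0).1 hx ?_
          have hcop : i.Coprime (orderOf l) :=
            Nat.Coprime.coprime_dvd_right (orderOf_dvd_of_pow_eq_one hl.pow_eq)
              (((hl.s_prime.coprime_iff_not_dvd).2 fun hd => absurd
                (Nat.eq_zero_of_dvd_of_lt hd his) hi.ne').symm.pow_right _)
          obtain ⟨j, hj⟩ := exists_pow_eq_self_of_coprime hcop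
          exact (hj ▸ pow_mem hm j : l ∈ modFix R x).2
    · subst hs
      have hQR : Q ≤ normalizer (R : Set H) := h.Q_normalizer_radS hv hv0
      have h4 : Triv Q R (l ^ 4) := by
        rw [show l ^ 4 = l ^ 2 * l ^ 2 by rw [← pow_add]]
        exact hinv.sq hQR (pow_mem hl.norm_Q 2) hinv
      refine Or.inl (hl.core h hnb hfpf hv hv0 hσ (o := 4) (by norm_num) ?_ (Or.inr (Or.inr ⟨rfl, rfl⟩)) h4 ?_)
      · exact (show (4 : ℕ) = 2 ^ 2 by norm_num) ▸ hsr.pow_left 2
      · intro x hx i hi hi4 hm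
        have hxQ := commutator_le_Q hl.norm_Q hx
        have hlo : l ^ 4 ∈ modFix R x := ⟨pow_mem hlR 4, h4 x hxQ⟩
        have h2 : l ^ 2 ∈ modFix R x := by
          interval_cases i
          · simpa using pow_mem hm 2
          · exact hm
          · have : l ^ 2 = (l ^ 3) ^ 2 * (l ^ 4)⁻¹ := by
              rw [eq_mul_inv_iff_mul_eq, ← pow_mul, ← pow_add]
            rw [this]
            exact mul_mem (pow_mem hm 2) (inv_mem hlo)
        have hxx : x * x ∈ R := by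
          have := mul_mem (hinv x hxQ) (inv_mem h2.2)
          convert this using 1
          group
        have hqodd : (2 : ℕ).Coprime (orderOf x) := by
          have := Fact.mk h.prime
          obtain ⟨n, hn⟩ := IsPGroup.iff_card.1 h.pgroup
          refine Nat.Coprime.coprime_dvd_right (orderOf_dvd_of_pow_eq_one
            (congrArg Subtype.val (pow_card_eq_one' (x := (⟨x, hxQ⟩ : Q))))) ?_
          rw [hn]
          exact ((Nat.coprime_primes Nat.prime_two h.prime).2 hl.s_ne_q).pow_right n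
        obtain ⟨j, hj⟩ := exists_pow_eq_self_of_coprime hqodd
        rw [← hj, sq]
        exact pow_mem hxx j

end Cfsg.Agent.FGS73.Turull
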