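import Cfsg.Agent.FGS73.Turull.LevelDefs

/-!
Functionals on a section which are fixed by `t` or vanish on the killed elements.
-/

set_option autoImplicit false

universe u

namespace Cfsg.Agent.FGS73.Turull

open Subgroup
open scoped commutatorElement
open Cfsg.Agent.LinAct (rho_mul rho_one rho_inv_apply)

variable {Γ : Type u} [Group Γ]

namespace MinTower

variable [Finite Γ] {G0 : Subgroup Γ} {t : Γ} {r h : ℕ} {P : ℕ → Subgroup Γ} {p : ℕ → ℕ}
  (M : MinTower G0 t r h P p)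

local notation "Kk" => towerKer P h
local notation "Rr" => towerRad P p h

include M

/-- A weight space is fixed by the moved part, or killed elements fix a part of it. -/
theorem dichotomy {j : ℕ} (hj : j + 1 < h) [Fact (p (j + 1)).Prime] {U : Type u} [AddCommGroup U]
    [Module (AlgebraicClosure (ZMod (p (j + 1)))) U]
    {ρ : secNorm (P (j + 1)) (Rr (j + 1)) →* Module.End (AlgebraicClosure (ZMod (p (j + 1)))) U}
    {e : Γ → U}
    (hv : SecVec (P (j + 1)) (Rr (j + 1)) (p (j + 1)) (AlgebraicClosure (ZMod (p (j + 1)))) U ρ e)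
    {Z : Subgroup (Nrm P h j)}
    (hc : CTwo (ρ.comp (inclusion (M.Nrm_le_secNorm hj))) ((P j).subgroupOf (Nrm P h j)) Z (p j))
    (χ : Nrm P h j → AlgebraicClosure (ZMod (p (j + 1)))) :
    (∀ s : Nrm P h j, (s : Γ) ∈ moved t P j →
        ∀ w ∈ LinAct.wspace (ρ.comp (inclusion (M.Nrm_le_secNorm hj))) Z χ,
          ρ.comp (inclusion (M.Nrm_le_secNorm hj)) s w = w) ∨
      ∃ W : Submodule (AlgebraicClosure (ZMod (p (j + 1)))) U,
        W ≤ LinAct.wspace (ρ.comp (inclusion (M.Nrm_le_secNorm hj))) Z χ ∧ W ≠ ⊥ ∧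
        (∀ x : Nrm P h j, (x : Γ) ∈ P j →
          ∀ w ∈ W, ρ.comp (inclusion (M.Nrm_le_secNorm hj)) x w ∈ W) ∧
        ∀ n : Nrm P h j, (n : Γ) ∈ P j → InN t P p h j (n : Γ) →
          ∀ w ∈ W, ρ.comp (inclusion (M.Nrm_le_secNorm hj)) n w = w := by
  classical
  set ρ' := ρ.comp (inclusion (M.Nrm_le_secNorm hj)) with hρ'
  set L := LinAct.wspace ρ' Z χ with hL
  set A := (moved t P j).subgroupOf (secNorm (P (j + 1)) (Rr (j + 1))) with hA
  cases nonempty_fintype A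
  have hSN : moved t P j ≤ secNorm (P (j + 1)) (Rr (j + 1)) :=
    (M.moved_le (by omega)).trans ((M.le_Nrm le_rfl).trans (M.Nrm_le_secNorm hj))
  have hAmap : A.map (secNorm (P (j + 1)) (Rr (j + 1))).subtype = moved t P j :=
    map_subgroupOf_eq_of_le hSN
  set D := Submodule.span (AlgebraicClosure (ZMod (p (j + 1))))
    (e '' (⁅P (j + 1), moved t P j⁆ : Subgroup Γ)) with hD
  have hSP : moved t P j ≤ normalizer (P (j + 1) : Set Γ) := hSN.trans inf_le_left
  have hTP : ⁅P (j + 1), moved t P j⁆ ≤ P (j + 1) := Coprime.commutator_le_of_le_normalizer hSP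
  by_cases hbot : L ⊓ D = ⊥
  · refine Or.inl fun s hs w hw => ?_
    have hAL : ∀ a : A, ρ (a : secNorm (P (j + 1)) (Rr (j + 1))) w ∈ L := fun a => by
      have haP : ((a : secNorm (P (j + 1)) (Rr (j + 1))) : Γ) ∈ P j := M.moved_le (by omega) a.2
      exact hc.wspace_inv (x := ⟨_, M.le_Nrm le_rfl haP⟩) haP hw
    have hdiff := hv.sub_sum_mem A w
    rw [hAmap] at hdiff
    have h0 : (Nat.card A : AlgebraicClosure (ZMod (p (j + 1)))) • w -
        ∑ a : A, ρ (a : secNorm (P (j + 1)) (Rr (j + 1))) w ∈ L ⊓ D :=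
      ⟨L.sub_mem (L.smul_mem _ hw) (L.sum_mem fun a _ => hAL a), hdiff⟩
    rw [hbot, Submodule.mem_bot, sub_eq_zero] at h0
    have hA0 : (Nat.card A : AlgebraicClosure (ZMod (p (j + 1)))) ≠ 0 :=
      pow_card_ne_zero (M.cast_ne_zero (by omega) hj (M.p_ne j hj))
        (((M.pgroup j (by omega)).to_le (M.moved_le (by omega))).of_equiv
          (subgroupOfEquivOfLe hSN).symm) (M.prime j (by omega))
    refine smul_right_injective U hA0 ?_
    show (Nat.card A : AlgebraicClosure (ZMod (p (j + 1)))) • ρ' s w = _ • w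
    rw [← map_smul, h0, map_sum]
    exact Fintype.sum_equiv (Equiv.mulLeft ⟨inclusion (M.Nrm_le_secNorm hj) s, hs⟩) _ _
      fun a => (rho_mul ρ _ _ _).symm
  · refine Or.inr ⟨L ⊓ D, inf_le_left, hbot, fun x hx w hw => ⟨hc.wspace_inv hx hw.1, ?_⟩,
      fun n hn hnN w hw => ?_⟩
    · have hxT : (x : Γ) ∈ normalizer (SetLike.coe ⁅P (j + 1), moved t P j⁆) :=
        mem_normalizer_commutator (M.norm _ hj j (Nat.le_succ j) hx)
          (Coprime.le_normalizer_commutator_left _ _ hx)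
      obtain ⟨-, hw⟩ := hw
      induction hw using Submodule.span_induction with
      | mem u hu =>
        obtain ⟨y, hy, rfl⟩ := hu
        rw [hρ', MonoidHom.comp_apply, hv.equiv _ y (hTP hy)]
        exact Submodule.subset_span ⟨_, Coprime.conj_mem_of_mem_normalizer hxT hy, rfl⟩
      | zero => simp
      | add a b _ _ ha hb => rw [map_add]; exact D.add_mem ha hb
      | smul c a _ ha => rw [map_smul]; exact D.smul_mem c ha
    · obtain ⟨-, hw⟩ := hw
      rw [InN, if_pos hj] at hnN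
      induction hw using Submodule.span_induction with
      | mem u hu =>
        obtain ⟨y, hy, rfl⟩ := hu
        have hyP := hTP hy
        have hnyP : (n : Γ) * y * (n : Γ)⁻¹ ∈ P (j + 1) :=
          Coprime.conj_mem_of_mem_normalizer (M.norm _ hj j (Nat.le_succ j) hn) hyP
        rw [hρ', MonoidHom.comp_apply, hv.equiv _ y hyP, eq_comm]
        exact (hv.e_eq_iff hyP hnyP).2 (hnN y (mem_sup_left hy))
      | zero => simp
      | add a b _ _ ha hb => rw [map_add, ha, hb]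
      | smul c a _ ha => rw [map_smul, ha]

/-- Separation of a section. -/
theorem exists_sep {i : ℕ} (hi : i + 1 + 1 < h) {x : Γ} (hx : x ∈ P (i + 1))
    (hxR : x ∉ Rr (i + 1)) [Fact (p (i + 1)).Prime] :
    ∃ ω : Γ → ZMod (p (i + 1)), (∀ y ∈ P (i + 1), ∀ z ∈ P (i + 1), ω (y * z) = ω y + ω z) ∧
      (∀ y ∈ Rr (i + 1), ω y = 0) ∧ ω x ≠ 0 ∧ ∀ g ∈ Nrm P h (i + 1),
        (∀ y ∈ P (i + 1), ω (g * (t * y * t⁻¹) * g⁻¹) = ω (g * y * g⁻¹)) ∨
        ∀ n ∈ P (i + 1), InN t P p h (i + 1) n → ω (g * n * g⁻¹) = 0 := by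
  classical
  set j := i + 1 with hj
  haveI := Fact.mk (M.prime (j + 1) hi)
  obtain ⟨U, _, _, _, ρ, e, hs, hv⟩ :=
    exists_secRep (P (j + 1)) (Rr (j + 1)) (M.secHyp hi (M.rad_le _) le_rfl)
  set H := Nrm P h j with hH
  set ρ' := ρ.comp (inclusion (M.Nrm_le_secNorm hi)) with hρ'
  have hPH : P j ≤ H := M.le_Nrm le_rfl
  have htH : t ∈ H := mem_Nrm.2 (M.t_norm_all j)
  have hp0 : (p j : AlgebraicClosure (ZMod (p (j + 1)))) ≠ 0 :=
    M.cast_ne_zero (by omega) hi (M.p_ne j hi)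
  by_cases hab : ∀ a ∈ P j, ∀ b ∈ P j, ⁅a, b⁆ ∈ Kk j
  · -- the abelian case
    have hRK := M.rad_le_ker (i := i) (by omega) hab
    have hc := M.ctwo_of hi le_rfl hs (M.Nrm_le_secNorm hi) hPH (Z := P j) le_rfl
      (fun a ha b hb => hab a ha b hb) (fun a ha b hb => phi_le (comm_mem_phi (p := p j) ha hb))
    obtain ⟨χ, v, hv0, hvW, hxv⟩ : ∃ (χ : H → AlgebraicClosure (ZMod (p (j + 1)))) (v : U),
        v ≠ 0 ∧ v ∈ LinAct.wspace ρ' ((P j).subgroupOf H) χ ∧ χ ⟨x, hPH hx⟩ ≠ 1 := by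
      by_contra hall
      push Not at hall
      refine hxR (mem_sup_left (M.mem_ker_of_rho hi hx hs (g := inclusion (M.Nrm_le_secNorm hi)
        ⟨x, hPH hx⟩) rfl ?_))
      have := eq_of_weights hc (a := (⟨x, hPH hx⟩ : H)) (b := 1) hx (one_mem _)
        fun χ v hv0 hv => by
          rw [hv (⟨x, hPH hx⟩ : H) hx, hall χ v hv0 hv, one_smul, map_one]
          rfl
      rwa [map_one] at this
    have hχR : ∀ z : H, (z : Γ) ∈ Rr j → χ z = 1 := fun z hz => by
      refine weight_eq_one hvW hv0 (show (z : Γ) ∈ P j from M.rad_le j hz) ?_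
      rw [hρ', MonoidHom.comp_apply, (hs.triv _).2]
      · rfl
      · exact fun y hy => mem_sup_left ((M.mem_ker hi (M.rad_le j hz)).1 (hRK hz) y hy)
    let f : Γ → AlgebraicClosure (ZMod (p (j + 1))) := fun z =>
      if hz : z ∈ H then χ ⟨z, hz⟩ else 0
    have hf : ∀ z (hz : z ∈ P j), f z = χ ⟨z, hPH hz⟩ := fun z hz => dif_pos (hPH hz)
    have hfmul : ∀ a ∈ P j, ∀ b ∈ P j, f (a * b) = f a * f b := fun a ha b hb => by
      rw [hf _ (mul_mem ha hb), hf a ha, hf b hb]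
      exact LinAct.weight_mul ρ' hvW hv0 (x := (⟨a, hPH ha⟩ : H)) (y := ⟨b, hPH hb⟩) ha hb
    have hf1 : f 1 = 1 := by
      rw [hf 1 (one_mem _)]
      exact LinAct.weight_one ρ' hvW hv0
    have hfn : ∀ a ∈ P j, ∀ n : ℕ, f (a ^ n) = f a ^ n := fun a ha n => by
      induction n with
      | zero => rw [pow_zero, hf1, pow_zero]
      | succ n ih => rw [pow_succ, hfmul _ (pow_mem ha n) _ ha, ih, pow_succ]
    obtain ⟨ω, hadd, heq, hzero⟩ := exists_log (P j) hp0 f hfmul fun a ha => by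
      rw [← hfn a ha, hf _ (pow_mem ha _)]
      exact hχR _ (mem_sup_right (pow_mem_phi ha))
    refine ⟨ω, hadd, fun y hy => ?_, fun h0 => hxv ?_, fun g hg => ?_⟩
    · rw [hzero y (M.rad_le j hy), hf y (M.rad_le j hy)]
      exact hχR _ hy
    · rw [hzero x hx, hf x hx] at h0
      exact h0
    have hgP : g ∈ normalizer (P j : Set Γ) := mem_Nrm.1 hg j le_rfl (by omega)
    set gH : H := ⟨g, hg⟩ with hgH
    have hv' := LinAct.map_mem_wspace ρ' (Z := (P j).subgroupOf H) (g := gH⁻¹)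
      (inv_mem (Coprime.mem_normalizer_of_le_iff
        (fun (z : H) (hz : (z : Γ) ∈ P j) =>
          (Coprime.conj_mem_of_mem_normalizer hgP hz : g * (z : Γ) * g⁻¹ ∈ P j))
        (fun (z : H) (hz : (z : Γ) ∈ P j) =>
          (Coprime.conj_mem_of_mem_normalizer' hgP hz : g⁻¹ * (z : Γ) * g ∈ P j)))) hvW
    set χ' : H → AlgebraicClosure (ZMod (p (j + 1))) := fun a => χ (gH⁻¹⁻¹ * a * gH⁻¹) with hχ'
    set v' := ρ' gH⁻¹ v with hv'def
    have hv'0 : v' ≠ 0 := fun h0 => hv0 (by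
      have := congrArg (ρ' gH) h0
      rwa [hv'def, ← rho_mul, mul_inv_cancel, rho_one, map_zero] at this)
    have hfg : ∀ z (hz : z ∈ P j), f (g * z * g⁻¹) = χ' ⟨z, hPH hz⟩ := fun z hz => by
      rw [hf _ (Coprime.conj_mem_of_mem_normalizer hgP hz)]
      exact congrArg χ (Subtype.ext (by simp [hgH]))
    rcases M.dichotomy hi hv hc χ' with hfix | ⟨W, hWL, hW0, -, hWn⟩
    · refine Or.inl fun y hy => ?_
      have hty : t * y * t⁻¹ ∈ P j :=
        Coprime.conj_mem_of_mem_normalizer (M.t_norm j (by omega)) hy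
      have hs' : ⁅t, y⁆ ∈ moved t P j := by
        rw [moved, Subgroup.commutator_comm]
        exact commutator_mem_commutator (mem_zpowers t) hy
      have hsP : ⁅t, y⁆ ∈ P j := M.moved_le (by omega) hs'
      rw [heq _ (Coprime.conj_mem_of_mem_normalizer hgP hty) _
          (Coprime.conj_mem_of_mem_normalizer hgP hy),
        show g * (t * y * t⁻¹) * g⁻¹ = g * ⁅t, y⁆ * g⁻¹ * (g * y * g⁻¹) by
          simp [commutatorElement_def, mul_assoc],
        hfmul _ (Coprime.conj_mem_of_mem_normalizer hgP hsP) _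
          (Coprime.conj_mem_of_mem_normalizer hgP hy), hfg _ hsP,
        weight_eq_one hv' hv'0 (show ((⟨⁅t, y⁆, hPH hsP⟩ : H) : Γ) ∈ P j from hsP)
          (hfix ⟨⁅t, y⁆, hPH hsP⟩ hs' _ hv'), one_mul]
    · refine Or.inr fun n hn hnN => ?_
      rw [hzero _ (Coprime.conj_mem_of_mem_normalizer hgP hn), hfg n hn]
      obtain ⟨w, hw, hw0⟩ := (Submodule.ne_bot_iff W).1 hW0
      exact weight_eq_one (hWL hw) hw0 (show ((⟨n, hPH hn⟩ : H) : Γ) ∈ P j from hn)
        (hWn ⟨n, hPH hn⟩ hn hnN w hw)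
  · -- the nonabelian case
    have hc := (M.setting_of hi le_rfl hs (M.Nrm_le_secNorm hi) hPH htH).toCTwo
    obtain ⟨y₀, hy₀, hy₀x⟩ : ∃ y ∈ P j, ⁅y, x⁆ ∉ Kk j := by
      by_contra hall
      push Not at hall
      refine hxR (M.centre_le_rad (i := i) (by omega) hab hx fun y hy => ?_)
      have := hall y⁻¹ (inv_mem hy)
      simpa [commutatorElement_def, mul_assoc] using this
    set yH : H := ⟨y₀, hPH hy₀⟩ with hyH
    set xH : H := ⟨x, hPH hx⟩ with hxH
    obtain ⟨χ, v, hv0, hvW, hxv⟩ : ∃ (χ : H → AlgebraicClosure (ZMod (p (j + 1)))) (v : U),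
        v ≠ 0 ∧ v ∈ LinAct.wspace ρ' ((Rr j).subgroupOf H) χ ∧ χ ⁅yH, xH⁆ ≠ 1 := by
      by_contra hall
      push Not at hall
      have hmem : ⁅yH, xH⁆ ∈ (Rr j).subgroupOf H := mem_sup_right (comm_mem_phi hy₀ hx)
      refine hy₀x (M.mem_ker_of_rho hi (M.rad_le j hmem) hs
        (g := inclusion (M.Nrm_le_secNorm hi) ⁅yH, xH⁆) rfl ?_)
      have := eq_of_weights hc (a := ⁅yH, xH⁆) (b := 1) (hc.le hmem) (one_mem _)
        fun χ v hv0 hv => by
          rw [hv _ hmem, hall χ v hv0 hv, one_smul, map_one]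
          rfl
      rwa [map_one] at this
    let f : Γ → AlgebraicClosure (ZMod (p (j + 1))) := fun z =>
      if hz : z ∈ H then χ ⁅yH, ⟨z, hz⟩⁆ else 0
    have hf : ∀ z (hz : z ∈ P j), f z = χ ⁅yH, ⟨z, hPH hz⟩⁆ := fun z hz => dif_pos (hPH hz)
    have hfmul : ∀ a ∈ P j, ∀ b ∈ P j, f (a * b) = f a * f b := fun a ha b hb => by
      rw [hf _ (mul_mem ha hb), hf a ha, hf b hb]
      exact hc.beta_right hvW hv0 (a := yH) (b := ⟨a, hPH ha⟩) (c := ⟨b, hPH hb⟩) hy₀ ha hb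
    have hfR : ∀ z (hz : z ∈ Rr j), f z = 1 := fun z hz => by
      rw [hf z (M.rad_le j hz)]
      exact (hc.Z_le_radS hvW hv0 (show (⟨z, hPH (M.rad_le j hz)⟩ : H) ∈ (Rr j).subgroupOf H
        from hz)).2 yH hy₀
    have hfn : ∀ a ∈ P j, ∀ n : ℕ, f (a ^ n) = f a ^ n := fun a ha n => by
      induction n with
      | zero => rw [pow_zero, hfR 1 (one_mem _), pow_zero]
      | succ n ih => rw [pow_succ, hfmul _ (pow_mem ha n) _ ha, ih, pow_succ]
    obtain ⟨ω, hadd, heq, hzero⟩ := exists_log (P j) hp0 f hfmul fun a ha => by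
      rw [← hfn a ha]
      exact hfR _ (mem_sup_right (pow_mem_phi ha))
    refine ⟨ω, hadd, fun y hy => ?_, fun h0 => hxv ?_, fun g hg => ?_⟩
    · rw [hzero y (M.rad_le j hy)]
      exact hfR y hy
    · rw [hzero x hx, hf x hx] at h0
      exact h0
    have hgP : g ∈ normalizer (P j : Set Γ) := mem_Nrm.1 hg j le_rfl (by omega)
    have hgR : g ∈ normalizer (SetLike.coe (Rr j)) := mem_normalizer_rad' hg le_rfl (by omega)
    set gH : H := ⟨g, hg⟩ with hgH
    have hv' := LinAct.map_mem_wspace ρ' (Z := (Rr j).subgroupOf H) (g := gH⁻¹)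
      (inv_mem (Coprime.mem_normalizer_of_le_iff
        (fun (z : H) (hz : (z : Γ) ∈ Rr j) =>
          (Coprime.conj_mem_of_mem_normalizer hgR hz : g * (z : Γ) * g⁻¹ ∈ Rr j))
        (fun (z : H) (hz : (z : Γ) ∈ Rr j) =>
          (Coprime.conj_mem_of_mem_normalizer' hgR hz : g⁻¹ * (z : Γ) * g ∈ Rr j)))) hvW
    set χ' : H → AlgebraicClosure (ZMod (p (j + 1))) := fun a => χ (gH⁻¹⁻¹ * a * gH⁻¹) with hχ'
    set v' := ρ' gH⁻¹ v with hv'def
    have hv'0 : v' ≠ 0 := fun h0 => hv0 (by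
      have := congrArg (ρ' gH) h0
      rwa [hv'def, ← rho_mul, mul_inv_cancel, rho_one, map_zero] at this)
    set y' : H := gH⁻¹ * yH * gH with hy'
    have hy'P : (y' : Γ) ∈ P j := Coprime.conj_mem_of_mem_normalizer' hgP hy₀
    have hfg : ∀ z (hz : z ∈ P j), f (g * z * g⁻¹) = χ' ⁅y', ⟨z, hPH hz⟩⁆ := fun z hz => by
      rw [hf _ (Coprime.conj_mem_of_mem_normalizer hgP hz)]
      exact congrArg χ (Subtype.ext (by simp [hgH, hy', commutatorElement_def, mul_assoc]))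
    rcases M.dichotomy hi hv hc χ' with hfix | ⟨W, hWL, hW0, hWQ, hWn⟩
    · refine Or.inl fun y hy => ?_
      have hty : t * y * t⁻¹ ∈ P j :=
        Coprime.conj_mem_of_mem_normalizer (M.t_norm j (by omega)) hy
      have hs' : ⁅t, y⁆ ∈ moved t P j := by
        rw [moved, Subgroup.commutator_comm]
        exact commutator_mem_commutator (mem_zpowers t) hy
      have hsP : ⁅t, y⁆ ∈ P j := M.moved_le (by omega) hs'
      rw [heq _ (Coprime.conj_mem_of_mem_normalizer hgP hty) _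
          (Coprime.conj_mem_of_mem_normalizer hgP hy),
        show g * (t * y * t⁻¹) * g⁻¹ = g * ⁅t, y⁆ * g⁻¹ * (g * y * g⁻¹) by
          simp [commutatorElement_def, mul_assoc],
        hfmul _ (Coprime.conj_mem_of_mem_normalizer hgP hsP) _
          (Coprime.conj_mem_of_mem_normalizer hgP hy), hfg _ hsP,
        show χ' ⁅y', (⟨⁅t, y⁆, hPH hsP⟩ : H)⁆ = 1 from (hc.mem_radS_of_trivial hv' hv'0 le_rfl ((Submodule.ne_bot_iff _).2 ⟨v', hv', hv'0⟩)
          (fun a ha w hw => hc.wspace_inv ha hw) (x := (⟨⁅t, y⁆, hPH hsP⟩ : H)) hsP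
          (hfix _ hs')).2 y' hy'P, one_mul]
    · refine Or.inr fun n hn hnN => ?_
      rw [hzero _ (Coprime.conj_mem_of_mem_normalizer hgP hn), hfg n hn]
      exact (hc.mem_radS_of_trivial hv' hv'0 hWL hW0 hWQ (x := (⟨n, hPH hn⟩ : H)) hn
        (hWn _ hn hnN)).2 y' hy'P

end MinTower

end Cfsg.Agent.FGS73.Turull
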