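import Cfsg.Agent.FGS73.Turull.Operators

/-!
A group of odd order moved by `σ` leaves no room for a small commutator space.
-/

set_option autoImplicit false

namespace Cfsg.Agent.FGS73.Turull

open Subgroup Module
open scoped commutatorElement
open Cfsg.Agent.LinAct (rho_mul rho_one rho_inv_apply)

variable {K : Type*} [Field K] {U : Type*} [AddCommGroup U] [Module K U]

/-- Fixed vectors and displaced vectors contribute separately to the commutant. -/
theorem commutant_lower [FiniteDimensional K U] (S : Module.End K U) {N : ℕ} (hN : (N : K) ≠ 0)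
    (hS : S ^ N = 1) :
    finrank K (LinearMap.range (S - 1)) + finrank K (LinearMap.ker (S - 1)) = finrank K U ∧
    finrank K (LinearMap.ker (S - 1)) ^ 2 +
      min 1 (finrank K (LinearMap.range (S - 1))) ≤ finrank K (commutant S) := by
  classical
  set C := LinearMap.ker (S - 1) with hC
  set D := LinearMap.range (S - 1) with hD
  have hrk := LinearMap.finrank_range_add_finrank_ker (S - 1)
  refine ⟨hrk, ?_⟩
  have hfixC : ∀ v, v ∈ C ↔ S v = v := fun v => by simp [hC, sub_eq_zero]
  have hdisj : Disjoint C D := by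
    rw [Submodule.disjoint_def]
    rintro v hv ⟨u, hu⟩
    rw [hfixC] at hv
    have hpow : ∀ i : ℕ, (S ^ i) u = u + (i : K) • v := by
      intro i
      induction i with
      | zero => simp
      | succ i ih =>
        have h1 : S u = u + v := by
          rw [← hu, LinearMap.sub_apply, Module.End.one_apply, add_sub_cancel]
        rw [pow_succ', Module.End.mul_apply, ih, map_add, map_smul, hv, h1, Nat.cast_succ, add_smul,
          one_smul]
        abel
    have h2 := hpow N
    rw [hS, Module.End.one_apply, left_eq_add] at h2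
    exact (smul_eq_zero.1 h2).resolve_left hN
  have hcompl : IsCompl C D := by
    refine ⟨hdisj, codisjoint_iff.2 (Submodule.eq_top_of_finrank_eq ?_)⟩
    have := Submodule.finrank_sup_add_finrank_inf_eq C D
    rw [hdisj.eq_bot, finrank_bot] at this
    rw [hC, hD] at this ⊢
    omega
  let π : U →ₗ[K] C := C.projectionOnto D hcompl
  let e : Module.End K U := C.subtype.comp π
  have hπS : ∀ v, π (S v) = π v := fun v => by
    rw [← sub_eq_zero, ← map_sub]
    exact Submodule.projectionOnto_apply_right hcompl ⟨S v - v, v, by simp⟩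
  have hSC : ∀ v : C, S (v : U) = (v : U) := fun v => (hfixC _).1 v.2
  by_cases hD0 : finrank K D = 0
  · rw [hD0, Nat.min_zero, add_zero, sq, ← finrank_linearMap (R := K) (S := K) (M := C) (N := C)]
    let Φ : (C →ₗ[K] C) →ₗ[K] commutant S :=
      { toFun := fun A => ⟨C.subtype.comp (A.comp π), by
          refine LinearMap.ext fun v => ?_
          show S ((A (π v) : C) : U) = ((A (π (S v)) : C) : U)
          rw [hSC, hπS]⟩
        map_add' := fun A B => Subtype.ext (by
          refine LinearMap.ext fun v => ?_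
          simp)
        map_smul' := fun c A => Subtype.ext (by
          refine LinearMap.ext fun v => ?_
          simp) }
    refine LinearMap.finrank_le_finrank_of_injective (f := Φ) fun A B h => LinearMap.ext fun v => ?_
    have := congrArg (fun X : commutant S => (X : Module.End K U) (v : U)) h
    simp only [Φ, LinearMap.coe_mk, AddHom.coe_mk, LinearMap.comp_apply, Submodule.coe_subtype] at this
    rw [Submodule.projectionOnto_apply_left hcompl v] at this
    exact Subtype.ext this
  · obtain ⟨d, hd, hd0⟩ := (Submodule.ne_bot_iff D).1 fun h => hD0 (by rw [h]; exact finrank_bot K U)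
    rw [Nat.min_eq_left (Nat.pos_of_ne_zero hD0), sq,
      ← finrank_linearMap (R := K) (S := K) (M := C) (N := C),
      show (Nat.succ 0 : ℕ) = finrank K K from (Module.finrank_self K).symm,
      ← Module.finrank_prod]
    let Φ : ((C →ₗ[K] C) × K) →ₗ[K] commutant S :=
      { toFun := fun A => ⟨C.subtype.comp (A.1.comp π) + A.2 • (1 - e), by
          refine LinearMap.ext fun v => ?_
          show S (((A.1 (π v) : C) : U) + A.2 • (v - ((π v : C) : U))) =
            ((A.1 (π (S v)) : C) : U) + A.2 • (S v - ((π (S v) : C) : U))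
          rw [map_add, map_smul, map_sub, hSC, hSC, hπS]⟩
        map_add' := fun A B => Subtype.ext (by
          refine LinearMap.ext fun v => ?_
          simp only [Submodule.coe_add, LinearMap.add_apply, Prod.fst_add, Prod.snd_add,
            LinearMap.comp_apply, LinearMap.smul_apply, LinearMap.sub_apply, map_add]
          module)
        map_smul' := fun c A => Subtype.ext (by
          refine LinearMap.ext fun v => ?_
          simp only [RingHom.id_apply, Submodule.coe_smul, LinearMap.add_apply, Prod.smul_fst,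
            Prod.smul_snd, LinearMap.comp_apply, LinearMap.smul_apply, LinearMap.sub_apply,
            map_smul, smul_eq_mul]
          module) }
    refine LinearMap.finrank_le_finrank_of_injective (f := Φ) fun A B h => ?_
    have hv : ∀ v, ((A.1 (π v) : C) : U) + A.2 • (v - ((π v : C) : U)) =
        ((B.1 (π v) : C) : U) + B.2 • (v - ((π v : C) : U)) := fun v =>
      congrArg (fun X : commutant S => (X : Module.End K U) v) h
    refine Prod.ext (LinearMap.ext fun v => Subtype.ext ?_) (smul_left_injective K hd0 ?_)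
    · have := hv (v : U)
      rwa [Submodule.projectionOnto_apply_left hcompl v, sub_self, smul_zero, smul_zero, add_zero,
        add_zero] at this
    · have := hv d
      rw [show π d = 0 from Submodule.projectionOnto_apply_right hcompl ⟨d, hd⟩] at this
      simpa using this

theorem no_small_count {r d k m : ℕ} (hr : r.Prime) (hm : r = 2 ^ m + 1) (hd : Odd d) (hd1 : 1 < d)
    (hdvd : r ∣ d ^ 2 - 1) (hk : k ≤ 2 * m) (hkd : k ≤ d)
    (hc : (d - k) ^ 2 + min 1 k ≤ 1 + (d ^ 2 - 1) / r) : False := by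
  obtain ⟨f, hf⟩ := hdvd
  rw [hf, Nat.mul_div_cancel_left _ hr.pos] at hc
  have hm0 : m ≠ 0 := fun h0 => by
    subst h0
    have : r = 2 := by simpa using hm
    subst this
    rw [Nat.min_eq_right (by omega), Nat.sub_eq_of_eq_add (a := d) (b := k) (by omega : d = d + k)] at hc
    have := Nat.pow_le_pow_left (by omega : 2 ≤ d) 2
    generalize d ^ 2 = D at *
    omega
  have h2m : 2 * m ≤ 2 ^ m := by
    obtain ⟨j, rfl⟩ := Nat.exists_eq_succ_of_ne_zero hm0
    rw [pow_succ, Nat.succ_eq_add_one]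
    have := Nat.lt_two_pow_self (n := j)
    omega
  have hrodd : Odd r := ⟨2 ^ (m - 1), by rw [hm, ← pow_succ']; congr 2; omega⟩
  have h1 : r ∣ (d + 1) * (d - 1) := ⟨f, by rw [← hf, ← Nat.sq_sub_sq, one_pow]⟩
  have hdr : 2 * r ≤ d + 1 := by
    obtain ⟨a, ha⟩ := hrodd
    obtain ⟨b, hb⟩ := hd
    rcases (Nat.Prime.dvd_mul hr).1 h1 with h2 | h2
    · obtain ⟨j, hj⟩ := h2
      rcases j with _ | _ | j
      · simp at hj
      · omega
      · rw [hj, show j + 1 + 1 = 2 + j by ring, mul_add]; omega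
    · obtain ⟨j, hj⟩ := h2
      rcases j with _ | _ | j
      · omega
      · omega
      · rw [show d + 1 = d - 1 + 2 by omega, hj, show j + 1 + 1 = 2 + j by ring, mul_add]; omega
  rcases Nat.eq_zero_or_pos k with hk0 | hk0
  · subst hk0
    rw [Nat.sub_zero, Nat.min_eq_right (by omega), add_zero] at hc
    have hd2 : 4 ≤ d ^ 2 := by nlinarith
    have h3 := Nat.mul_le_mul_left r hc
    have h4 : r * (1 + f) = d ^ 2 - 1 + r := by rw [hf, mul_add]; omega
    have h5 := Nat.mul_le_mul_right (d ^ 2) hr.two_le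
    have : 2 ≤ r := hr.two_le
    have hrd : r < d ^ 2 := by nlinarith
    generalize r * d ^ 2 = P at *
    generalize r * (1 + f) = P' at *
    generalize d ^ 2 = D at *
    omega
  · rw [Nat.min_eq_left hk0] at hc
    obtain ⟨e, he⟩ : ∃ e, d - k = e := ⟨_, rfl⟩
    rw [he] at hc
    have hle : d ≤ e + (r - 1) := by omega
    have her : r ≤ e := by omega
    have hr3 : 3 ≤ r := by have := Nat.le_self_pow hm0 2; omega
    have hf' : r * e ^ 2 + 1 ≤ d ^ 2 := by
      have := Nat.mul_le_mul_left r (show e ^ 2 ≤ f by omega)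
      rw [← hf] at this
      have : 1 ≤ d ^ 2 := Nat.one_le_pow _ _ (by omega)
      omega
    obtain ⟨r', rfl⟩ : ∃ r', r = r' + 1 := ⟨r - 1, by omega⟩
    simp only [Nat.add_sub_cancel] at hle
    nlinarith [Nat.pow_le_pow_left hle 2, Nat.mul_le_mul her her,
      Nat.mul_le_mul_right (e ^ 2) hr3]

variable {H : Type*} [Group H] [Finite H] [IsAlgClosed K] [FiniteDimensional K U]
  {ρ : H →* Module.End K U}

/-- The vectors moved by `σ` inside a block permuted regularly. -/
theorem block {A : Subgroup H} {χ : H → K} {W : Submodule K U} {v : U} (hvW : v ∈ W)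
    (hv : v ∈ LinAct.wspace ρ A χ) (hv0 : v ≠ 0) (hA : (Nat.card A : K) ≠ 0) {σ : H} {r : ℕ}
    (hr : r.Prime) (hr0 : (r : K) ≠ 0) (hσr : σ ^ r = 1) (hσA : σ ∈ normalizer (A : Set H))
    (hσ : σ ∉ LinAct.wstab A χ) (hσW : ∀ w ∈ W, ρ σ w ∈ W) {F : Subgroup H}
    (hσF : σ ∈ normalizer (F : Set H))
    (hF : ∀ x ∈ F, ∀ w ∈ W ⊓ LinAct.wspace ρ A χ, ρ x w ∈ W ⊓ LinAct.wspace ρ A χ) :
    ∃ (B : Submodule K U) (d : ℕ), 0 < d ∧ B ≤ W ∧ Inv ρ F σ B ∧ finrank K B = r * d ∧
      finrank K (B.map (ρ σ - 1)) = (r - 1) * d ∧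
      finrank K ↥(B ⊓ LinearMap.ker (ρ σ - 1)) = d := by
  classical
  cases nonempty_fintype A
  set V := W ⊓ LinAct.wspace ρ A χ with hV
  have hV0 : V ≠ ⊥ := (Submodule.ne_bot_iff _).2 ⟨v, ⟨hvW, hv⟩, hv0⟩
  let Φ : (Fin r → V) →ₗ[K] U :=
    ∑ i : Fin r, (ρ (σ ^ (i : ℕ))).comp (V.subtype.comp (LinearMap.proj i))
  have hΦ : ∀ f, Φ f = ∑ i : Fin r, ρ (σ ^ (i : ℕ)) ((f i : V) : U) := fun f => by
    simp [Φ]
  have hproj : ∀ f, LinAct.wproj ρ A χ (Φ f) = (Nat.card A : K) • ((f ⟨0, hr.pos⟩ : V) : U) := by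
    intro f
    rw [hΦ, map_sum, Finset.sum_eq_single (⟨0, hr.pos⟩ : Fin r)]
    · rw [show ((⟨0, hr.pos⟩ : Fin r) : ℕ) = 0 from rfl, pow_zero, rho_one]
      exact (LinAct.wproj_weight ρ A hv hv0 (f _).2.2).1 fun _ _ => rfl
    · intro i _ hi
      refine (LinAct.wproj_weight ρ A hv hv0
        (LinAct.map_mem_wspace ρ (pow_mem hσA i) (f i).2.2)).2 fun hall => ?_
      refine hσ (pow_mem_iff_of_prime hr hσr (fun hd => hi (Fin.ext
        (Nat.eq_zero_of_dvd_of_lt hd i.2))) ⟨pow_mem hσA i, fun z hz => (hall z hz).symm⟩)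
    · exact fun h => absurd (Finset.mem_univ _) h
  have hshift : ∀ f, ρ σ (Φ f) =
      Φ (fun i => f ⟨(i + (r - 1)) % r, Nat.mod_lt _ hr.pos⟩) := by
    intro f
    rw [hΦ, hΦ, map_sum]
    haveI : NeZero r := ⟨hr.ne_zero⟩
    refine Fintype.sum_equiv (Equiv.addRight (1 : Fin r)) _ _ fun i => ?_
    have hval : ((i + 1 : Fin r) : ℕ) = (i + 1) % r := by
      rw [Fin.val_add, Fin.val_one', Nat.add_mod_mod]
    have e : (⟨((i + 1 : Fin r) + (r - 1) : ℕ) % r, Nat.mod_lt _ hr.pos⟩ : Fin r) = i := by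
      apply Fin.ext
      show (((i + 1 : Fin r) : ℕ) + (r - 1)) % r = i
      rw [hval, Nat.mod_add_mod, show (i : ℕ) + 1 + (r - 1) = i + r by omega, Nat.add_mod_right,
        Nat.mod_eq_of_lt i.2]
    rw [Equiv.coe_addRight, e, ← rho_mul, ← pow_succ', hval]
    congr 2
    exact (pow_eq_pow_mod _ hσr).trans rfl
  have hinj : Function.Injective Φ := by
    rw [← LinearMap.ker_eq_bot, LinearMap.ker_eq_bot']
    intro f hf
    have hzero : ∀ (j : ℕ) (f : Fin r → V), Φ f = 0 → ∀ i : Fin r, (i : ℕ) = j → f i = 0 := by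
      intro j
      induction j with
      | zero =>
        intro f hf i hi
        have h1 := hproj f
        rw [hf, map_zero] at h1
        have h2 := (smul_eq_zero.1 h1.symm).resolve_left hA
        rw [show i = ⟨0, hr.pos⟩ from Fin.ext hi]
        exact Subtype.ext h2
      | succ j ih =>
        intro f hf i hi
        haveI : NeZero r := ⟨hr.ne_zero⟩
        -- shift down
        let g : Fin r → V := fun k => f ⟨(k + 1) % r, Nat.mod_lt _ hr.pos⟩
        have hg : ρ σ (Φ g) = 0 := by
          rw [hshift]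
          refine (congrArg Φ (funext fun k => ?_)).trans hf
          show f ⟨((k + (r - 1)) % r + 1) % r, _⟩ = f k
          congr 1
          apply Fin.ext
          show ((k + (r - 1)) % r + 1) % r = k
          rw [Nat.mod_add_mod, show (k : ℕ) + (r - 1) + 1 = k + r by have := hr.pos; omega,
            Nat.add_mod_right, Nat.mod_eq_of_lt k.2]
        have hg0 : Φ g = 0 := by
          have := congrArg (ρ σ⁻¹) hg
          rwa [rho_inv_apply, map_zero] at this
        have hj : j < r := by omega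
        have := ih g hg0 ⟨j, hj⟩ rfl
        show f i = 0
        rw [← this]
        show f i = f _
        congr 1
        apply Fin.ext
        show (i : ℕ) = (j + 1) % r
        rw [Nat.mod_eq_of_lt (by omega), hi]
    exact funext fun i => hzero i f hf i rfl
  set B := LinearMap.range Φ with hB
  have hσW' : ∀ i : ℕ, ∀ w ∈ W, ρ (σ ^ i) w ∈ W := by
    intro i
    induction i with
    | zero => intro w hw; simpa using hw
    | succ i ih => intro w hw; rw [pow_succ', rho_mul]; exact hσW _ (ih w hw)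
  have hBdim : finrank K B = r * finrank K V := by
    rw [hB, LinearMap.finrank_range_of_inj hinj, Module.finrank_pi_fintype]
    simp
  have hfix : finrank K ↥(B ⊓ LinearMap.ker (ρ σ - 1)) = finrank K V := by
    let Ψ : V →ₗ[K] U := Φ.comp (LinearMap.pi fun _ => LinearMap.id)
    have hΨ : Function.Injective Ψ := by
      intro a b hab
      exact congrFun (hinj hab) ⟨0, hr.pos⟩
    have hrange : LinearMap.range Ψ = B ⊓ LinearMap.ker (ρ σ - 1) := by
      refine le_antisymm ?_ ?_
      · rintro _ ⟨a, rfl⟩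
        refine ⟨⟨_, rfl⟩, ?_⟩
        simp only [SetLike.mem_coe, LinearMap.mem_ker, LinearMap.sub_apply, Module.End.one_apply,
          sub_eq_zero]
        exact hshift _
      · rintro _ ⟨⟨f, rfl⟩, hw⟩
        simp only [SetLike.mem_coe, LinearMap.mem_ker, LinearMap.sub_apply, Module.End.one_apply,
          sub_eq_zero] at hw
        rw [hshift] at hw
        have hf := hinj hw
        refine ⟨f ⟨0, hr.pos⟩, congrArg Φ (funext fun i => ?_)⟩
        show f ⟨0, hr.pos⟩ = f i
        obtain ⟨j, hj⟩ := i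
        induction j with
        | zero => rfl
        | succ j ih =>
          rw [ih (by omega)]
          have := congrFun hf ⟨j + 1, hj⟩
          refine Eq.trans (congrArg f (Fin.ext ?_)) this
          show j = (j + 1 + (r - 1)) % r
          rw [show j + 1 + (r - 1) = j + r by omega, Nat.add_mod_right, Nat.mod_eq_of_lt (by omega)]
    rw [← hrange, LinearMap.finrank_range_of_inj hΨ]
  refine ⟨B, finrank K V, ?_, ?_, ⟨?_, ?_⟩, hBdim, ?_, hfix⟩
  · exact Nat.pos_of_ne_zero fun h => hV0 (Submodule.finrank_eq_zero.1 h)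
  · rintro _ ⟨f, rfl⟩
    rw [hΦ]
    exact W.sum_mem fun i _ => hσW' _ _ (f i).2.1
  · rintro x hx _ ⟨f, rfl⟩
    refine ⟨fun i => ⟨ρ ((σ ^ (i : ℕ))⁻¹ * x * σ ^ (i : ℕ)) (f i : U),
      hF _ (Coprime.conj_mem_of_mem_normalizer' (pow_mem hσF _) hx) _ (f i).2⟩, ?_⟩
    rw [hΦ, hΦ, map_sum]
    refine Finset.sum_congr rfl fun i _ => ?_
    rw [← rho_mul, ← rho_mul]
    congr 2
    group
  · rintro _ ⟨f, rfl⟩
    exact ⟨_, (hshift f).symm⟩
  · have h1 := LinearMap.finrank_range_add_finrank_ker ((ρ σ - 1).domRestrict B)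
    rw [LinearMap.range_domRestrict, LinearMap.ker_domRestrict,
      ← Submodule.finrank_map_subtype_eq, Submodule.map_comap_subtype, hfix, hBdim] at h1
    rw [Nat.sub_mul, one_mul]
    omega

variable {F Z : Subgroup H} {s r : ℕ} {σ : H}

theorem fixed_line (h : Setting ρ F Z s σ r) (hF : F ≤ ⁅F, zpowers σ⁆)
    (hC0 : ∀ w, (∀ f ∈ F, ρ f w = w) → w = 0) (hodd : s ≠ 2) {m : ℕ} (hm : r = 2 ^ m + 1)
    [Nontrivial U] (hrange : finrank K (LinearMap.range (ρ σ - 1)) ≤ 2 * m) :
    finrank K (LinearMap.ker (ρ σ - 1)) = 1 := by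
  classical
  have hm0 : m ≠ 0 := fun h0 => by
    subst h0
    obtain ⟨w, hw⟩ := exists_ne (0 : U)
    have hr2 : LinearMap.range (ρ σ - 1) = ⊥ :=
      Submodule.finrank_eq_zero.1 (by omega)
    rw [LinearMap.range_eq_bot, sub_eq_zero] at hr2
    refine hw (hC0 w fun f hf => ?_)
    let S : Subgroup H :=
      { carrier := {g | ρ g = 1}
        one_mem' := map_one ρ
        mul_mem' := fun {a b} ha hb => show ρ (a * b) = 1 by rw [map_mul, ha, hb, one_mul]
        inv_mem' := fun {a} ha => show ρ a⁻¹ = 1 by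
          have h1 : ρ a⁻¹ * ρ a = 1 := by rw [← map_mul, inv_mul_cancel, map_one]
          rwa [show ρ a = 1 from ha, mul_one] at h1 }
    have hle' : ⁅F, zpowers σ⁆ ≤ S := commutator_le.2 fun a _ k hk => by
      have hk1 : ρ k = 1 := (zpowers_le (H := S)).2 hr2 hk
      show ρ _ = 1
      have hki : ρ k⁻¹ = 1 := S.inv_mem hk1
      rw [commutatorElement_def, map_mul, map_mul, map_mul, hk1, hki, mul_one, mul_one, ← map_mul,
        mul_inv_cancel, map_one]
    rw [show ρ f = 1 from hle' (hF hf)]; rfl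
  have h2m : 2 * m ≤ 2 ^ m := by
    obtain ⟨j, rfl⟩ := Nat.exists_eq_succ_of_ne_zero hm0
    rw [pow_succ, Nat.succ_eq_add_one]
    have := Nat.lt_two_pow_self (n := j)
    omega
  have hZ0 : (Nat.card Z : K) ≠ 0 := pow_card_ne_zero h.ne_zero (h.pgroup.to_le h.le) h.prime
  have key : ∀ W : Submodule K U, W ≠ ⊥ → Inv ρ F σ W →
      ∃ (B : Submodule K U), B ≤ W ∧ Inv ρ F σ B ∧
        finrank K (B.map (ρ σ - 1)) = r - 1 ∧ finrank K ↥(B ⊓ LinearMap.ker (ρ σ - 1)) = 1 ∧
        finrank K B = r := by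
    intro W hW0 hinv
    have fin : ∀ (B : Submodule K U) (d : ℕ), 0 < d → B ≤ W → Inv ρ F σ B → finrank K B = r * d →
        finrank K (B.map (ρ σ - 1)) = (r - 1) * d →
        finrank K ↥(B ⊓ LinearMap.ker (ρ σ - 1)) = d →
        ∃ (B : Submodule K U), B ≤ W ∧ Inv ρ F σ B ∧
          finrank K (B.map (ρ σ - 1)) = r - 1 ∧ finrank K ↥(B ⊓ LinearMap.ker (ρ σ - 1)) = 1 ∧
          finrank K B = r := by
      intro B d hd hBW hBi hB hBm hBk
      have hle : B.map (ρ σ - 1) ≤ LinearMap.range (ρ σ - 1) := LinearMap.map_le_range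
      have := (Submodule.finrank_mono hle).trans hrange
      rw [hBm, hm, Nat.add_sub_cancel] at this
      have hd1 : d = 1 := by
        rcases Nat.lt_or_ge d 2 with h1 | h1
        · omega
        · exfalso
          have := Nat.mul_le_mul_left (2 ^ m) h1
          have : 0 < 2 ^ m := by positivity
          omega
      subst hd1
      exact ⟨B, hBW, hBi, by rw [hBm, mul_one], hBk, by rw [hB, mul_one]⟩
    obtain ⟨χ, v, hvW, hv0, hv⟩ := exists_weight ρ Z W hW0 (fun a ha => hinv.1 a (h.le ha))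
      fun a ha b hb w _ => h.swap (h.le ha) hb w
    by_cases hχ : σ ∈ LinAct.wstab Z χ
    swap
    · obtain ⟨B, d, hd, hBW, hBi, hB, hBm, hBk⟩ := block hvW hv hv0 hZ0 h.r_prime h.r_ne_zero
        h.sigma_pow h.sigma_Z hχ hinv.2 h.sigma_Q
        (fun x hx w hw => ⟨hinv.1 x hx w hw.1, h.wspace_inv hx hw.2⟩)
      exact fin B d hd hBW hBi hB hBm hBk
    set R := h.radS hv hv0 with hR
    have hRQ : R ≤ F := h.radS_le hv hv0
    have hZR : Z ≤ R := h.Z_le_radS hv hv0
    have hσR := h.sigma_rad_normalizer hv hv0 hχ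
    obtain ⟨lam, u, hu, hu0, huR⟩ := exists_weight ρ R (W ⊓ LinAct.wspace ρ Z χ)
      ((Submodule.ne_bot_iff _).2 ⟨v, ⟨hvW, hv⟩, hv0⟩)
      (fun a ha w hw => ⟨hinv.1 a (hRQ ha) w hw.1, h.wspace_inv (hRQ ha) hw.2⟩)
      (fun a ha b hb w hw => h.rad_comm hw.2 (x := b) hb (hRQ ha))
    have hle := wspace_le_of_le hZR hu.2 huR hu0
    have hQL : ∀ x ∈ F, ∀ w ∈ LinAct.wspace ρ R lam, ρ x w ∈ LinAct.wspace ρ R lam :=
      fun x hx w hw a ha => by rw [← h.rad_comm (hle hw) (x := a) ha hx, hw a ha, map_smul]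
    by_cases hlam : σ ∈ LinAct.wstab R lam
    swap
    · obtain ⟨B, d, hd, hBW, hBi, hB, hBm, hBk⟩ := block hu.1 huR hu0
        (pow_card_ne_zero h.ne_zero (h.pgroup.to_le hRQ) h.prime) h.r_prime h.r_ne_zero
        h.sigma_pow hσR hlam hinv.2 h.sigma_Q
        (fun x hx w hw => ⟨hinv.1 x hx w hw.1, hQL x hx w hw.2⟩)
      exact fin B d hd hBW hBi hB hBm hBk
    -- a fixed weight forces a large commutator space
    exfalso
    set W₂ := W ⊓ LinAct.wspace ρ R lam with hW₂
    have hW₂0 : W₂ ≠ ⊥ := (Submodule.ne_bot_iff _).2 ⟨u, ⟨hu.1, huR⟩, hu0⟩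
    have hσW₂ : ∀ w ∈ W₂, ρ σ w ∈ W₂ := fun w hw =>
      ⟨hinv.2 w hw.1, LinAct.wstab_le_stab ρ R lam hlam w hw.2⟩
    have hlamZ : ∀ z ∈ Z, lam z = χ z := fun z hz =>
      weight_eq (fun z hz => huR z (hZR hz) : u ∈ LinAct.wspace ρ Z lam) hu.2 hu0 hz
    have hσF : ∀ x ∈ F, σ * x * σ⁻¹ ∈ F := fun x hx =>
      Coprime.conj_mem_of_mem_normalizer h.sigma_Q hx
    obtain ⟨E', Z', ψ, η, hbase, hidx, hE', -⟩ := exists_hhBase ρ W₂ hW₂0 F R hRQ lam
      (fun x hx w hw => ⟨hinv.1 x hx w hw.1, hQL x hx w hw.2⟩) (fun z hz w hw => hw.2 z hz)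
      (fun a ha b hb => hZR (h.comm a ha b hb))
      (fun x hx hxR => by
        rw [hR, h.mem_radS, not_and] at hxR
        obtain ⟨t, ht, hne⟩ : ∃ t ∈ F, χ ⁅t, x⁆ ≠ 1 := by simpa using hxR hx
        exact ⟨t, ht, fun h1 => hne (by rwa [hlamZ _ (h.comm t ht x hx)] at h1)⟩)
      σ hσF (fun x hx => Coprime.conj_mem_of_mem_normalizer hσR hx) hσW₂ h.r_prime.pos
      (pow_card_ne_zero h.ne_zero h.pgroup h.prime) (fun w _ => by rw [h.sigma_pow, rho_one])
      (fun x hx i hi hir hm => h.free_rad hv hv0 h.coprime h.sigma_Q hχ (hF hx)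
        (pow_mem_iff_of_prime h.r_prime h.sigma_pow
          (fun hd => absurd (Nat.eq_zero_of_dvd_of_lt hd hir) hi.ne')
          (S := modFix R x) ⟨pow_mem hσR i, hm⟩).2)
      (c₀ := (1 : K)) (one_pow r)
    haveI : Nontrivial W₂ := Submodule.nontrivial_iff_ne_bot.mpr hW₂0
    haveI : Finite E' := Nat.finite_of_card_ne_zero fun h0 => hE' (by simp [h0])
    cases nonempty_fintype E'
    set ρ' := (Units.coeHom _).comp E'.subtype with hρ'
    set S := (1 : K)⁻¹ • (ρ σ).restrict hσW₂ with hS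
    have hE'' : (Fintype.card E' : K) ≠ 0 := by rwa [← Nat.card_eq_fintype_card]
    obtain ⟨t, ht⟩ := Module.End.exists_eigenvalue (inter ρ' η * S)
    have hr1 : r ≠ 1 := h.r_prime.ne_one
    obtain ⟨M, hM, ρM, SM, -, hSM, -, -, hsimple, hdata⟩ :=
      hbase.exists_simple_le h.r_prime.pos hr1 hE'' (t := t)
        (Module.End.eigenspace (inter ρ' η * S) t) ht (fun e w hw => by
          rw [Module.End.mem_eigenspace_iff] at hw ⊢
          have hc : ∀ a, S * ρ' a = ρ' (η a) * S := fun a =>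
            LinearMap.ext fun w => hbase.compat a w
          have hT : inter ρ' η * S * ρ' e = ρ' e * (inter ρ' η * S) := by
            rw [mul_assoc, hc, ← mul_assoc, inter_mul, mul_assoc]
          rw [← Module.End.mul_apply, hT, Module.End.mul_apply, hw, map_smul]) le_rfl
    haveI := hM
    obtain ⟨hd, hdvd, hcomm⟩ := hdata.simple_count hsimple hE' h.r_prime.pos
    obtain ⟨hsum, hlow⟩ := commutant_lower SM h.r_ne_zero hdata.pow_eq
    have hk : finrank K (LinearMap.range (SM - 1)) ≤ 2 * m := by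
      refine le_trans ?_ hrange
      rw [← LinearMap.finrank_range_of_inj (f := (W₂.subtype.comp M.subtype).comp
        (LinearMap.range (SM - 1)).subtype) (by
          intro a b hab
          exact Subtype.ext (Subtype.ext (Subtype.ext hab)))]
      refine Submodule.finrank_mono ?_
      rintro _ ⟨⟨_, w, rfl⟩, rfl⟩
      refine ⟨((w : W₂) : U), ?_⟩
      show ρ σ ((w : W₂) : U) - ((w : W₂) : U) = ((((SM - 1) w : M) : W₂) : U)
      rw [LinearMap.sub_apply, Module.End.one_apply, Submodule.coe_sub, Submodule.coe_sub, hSM, hS]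
      simp
    have hne : R.relIndex F ≠ 1 := by
      rw [Ne, Subgroup.relIndex_eq_one]
      intro hFR
      refine hu0 (hC0 u fun x hx => ?_)
      rw [huR x (hFR hx)]
      let S : Subgroup H :=
        { carrier := {x | x ∈ R ∧ lam x = 1}
          one_mem' := ⟨one_mem _, LinAct.weight_one ρ huR hu0⟩
          mul_mem' := fun {a b} ha hb => ⟨mul_mem ha.1 hb.1, by
            rw [LinAct.weight_mul ρ huR hu0 ha.1 hb.1, ha.2, hb.2, one_mul]⟩
          inv_mem' := fun {a} ha => ⟨inv_mem ha.1, by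
            have := LinAct.weight_mul ρ huR hu0 (inv_mem ha.1) ha.1
            rw [inv_mul_cancel, LinAct.weight_one ρ huR hu0, ha.2, mul_one] at this
            exact this.symm⟩ }
      have hES : ⁅F, zpowers σ⁆ ≤ S := commutator_le.2 fun e he k hk => by
        have hkl := (zpowers_le (H := LinAct.wstab R lam)).2 hlam hk
        have e1 : ⁅e, k⁆ = e * (k * e⁻¹ * k⁻¹) := by simp [commutatorElement_def, mul_assoc]
        have h2 : k * e⁻¹ * k⁻¹ ∈ R := Coprime.conj_mem_of_mem_normalizer hkl.1 (inv_mem (hFR he))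
        refine ⟨e1 ▸ mul_mem (hFR he) h2, ?_⟩
        rw [e1, LinAct.weight_mul ρ huR hu0 (hFR he) h2, wstab_conj hkl (inv_mem (hFR he)),
          ← LinAct.weight_mul ρ huR hu0 (hFR he) (inv_mem (hFR he)), mul_inv_cancel,
          LinAct.weight_one ρ huR hu0]
      rw [(hES (hF hx)).2, one_smul]
    rw [hidx] at hd hdvd hcomm
    obtain ⟨e, he⟩ : ∃ e, R.relIndex F = s ^ e := by
      have := Fact.mk h.prime
      obtain ⟨n, hn⟩ := IsPGroup.iff_card.1 h.pgroup
      obtain ⟨k, -, hk⟩ := (Nat.dvd_prime_pow h.prime).1 (hn ▸ Subgroup.relIndex_dvd_card R F)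
      exact ⟨k, hk⟩
    rw [← hd] at hdvd hcomm
    refine no_small_count h.r_prime hm ?_ ?_ hdvd hk (Submodule.finrank_le _) (le_trans ?_ hcomm)
    · refine Nat.Odd.of_mul_left (n := finrank K M) ?_
      rw [← sq, hd, he]
      exact (h.prime.odd_of_ne_two hodd).pow
    · by_contra hd1
      push Not at hd1
      apply hne
      have h0 : 0 < finrank K M := Module.finrank_pos
      rw [← hd, show finrank K M = 1 by omega, one_pow]
    · rw [show finrank K M - finrank K (LinearMap.range (SM - 1)) =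
        finrank K (LinearMap.ker (SM - 1)) by omega]
      exact hlow
  -- one block only
  obtain ⟨B, -, hBi, hBm, hBk, hB⟩ := key ⊤ top_ne_bot
    ⟨fun _ _ _ _ => Submodule.mem_top, fun _ _ => Submodule.mem_top⟩
  set G := F ⊔ zpowers σ with hG
  have hG0 : (Nat.card G : K) ≠ 0 := by
    haveI : (F.subgroupOf G).Normal := (normal_subgroupOf_iff_le_normalizer le_sup_left).2
      (sup_le Subgroup.le_normalizer (zpowers_le.2 h.sigma_Q))
    have h1 : Nat.card G = Nat.card F * F.relIndex G := by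
      rw [Subgroup.relIndex, ← Nat.card_congr (Subgroup.subgroupOfEquivOfLe (le_sup_left : F ≤ G)).toEquiv]
      exact ((F.subgroupOf G).card_mul_index).symm
    have h2 : F.relIndex G ∣ Nat.card (zpowers σ) := by
      have h3 : G = F ⊔ zpowers σ := rfl
      rw [Subgroup.relIndex]
      let f : zpowers σ →* G ⧸ F.subgroupOf G :=
        (QuotientGroup.mk' _).comp (Subgroup.inclusion le_sup_right)
      have hf : Function.Surjective f := by
        intro y
        obtain ⟨y, rfl⟩ := QuotientGroup.mk_surjective y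
        obtain ⟨a, ha, b, hb, hab⟩ := Coprime.exists_mul_of_mem_sup (N := F) (H := zpowers σ)
          (zpowers_le.2 h.sigma_Q) y.2
        refine ⟨⟨b, hb⟩, ?_⟩
        show (QuotientGroup.mk _ : G ⧸ F.subgroupOf G) = _
        rw [QuotientGroup.eq, Subgroup.mem_subgroupOf]
        have hmem : b⁻¹ * a * b ∈ F :=
          Coprime.conj_mem_of_mem_normalizer' ((zpowers_le (H := normalizer (F : Set H))).2 h.sigma_Q hb) ha
        convert hmem using 1
        show b⁻¹ * (y : H) = _
        rw [hab, mul_assoc]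
      exact Subgroup.card_dvd_of_surjective f hf
    rw [h1, Nat.cast_mul]
    refine mul_ne_zero (pow_card_ne_zero h.ne_zero h.pgroup h.prime) fun h0 => ?_
    rw [Nat.card_zpowers] at h2
    rcases (Nat.dvd_prime h.r_prime).1 (h2.trans (orderOf_dvd_of_pow_eq_one h.sigma_pow)) with h3 | h3
    · rw [h3, Nat.cast_one] at h0; exact one_ne_zero h0
    · rw [h3] at h0; exact h.r_ne_zero h0
  have hGB : ∀ g : G, ∀ w ∈ B, (ρ.comp G.subtype) g w ∈ B := by
    have hle : G ≤ LinAct.stab ρ B := sup_le (fun x hx u hu => hBi.1 x hx u hu)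
      (zpowers_le.2 fun u hu => hBi.2 u hu)
    exact fun g w hw => hle g.2 w hw
  obtain ⟨B', hcompl, hB'⟩ := exists_compl (ρ.comp G.subtype) hG0 B hGB
  by_cases hB'0 : B' = ⊥
  · have hBtop : B = ⊤ := by
      have := hcompl.sup_eq_top
      rwa [hB'0, sup_bot_eq] at this
    rw [hBtop, top_inf_eq] at hBk
    exact hBk
  exfalso
  obtain ⟨B₁, hB₁B, -, hB₁m, -, -⟩ := key B' hB'0
    ⟨fun x hx w hw => hB' ⟨x, mem_sup_left hx⟩ w hw,
      fun w hw => hB' ⟨σ, mem_sup_right (mem_zpowers σ)⟩ w hw⟩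
  have hd : Disjoint (B.map (ρ σ - 1)) (B₁.map (ρ σ - 1)) := by
    refine hcompl.disjoint.mono ?_ ?_
    · rintro _ ⟨w, hw, rfl⟩
      simpa using B.sub_mem (hBi.2 w hw) hw
    · rintro _ ⟨w, hw, rfl⟩
      simpa using B'.sub_mem (hB' ⟨σ, mem_sup_right (mem_zpowers σ)⟩ w (hB₁B hw)) (hB₁B hw)
  have h1 := Submodule.finrank_sup_add_finrank_inf_eq (B.map (ρ σ - 1)) (B₁.map (ρ σ - 1))
  rw [hd.eq_bot, finrank_bot, add_zero, hBm, hB₁m] at h1
  have h2 := (Submodule.finrank_mono (sup_le (LinearMap.map_le_range (f := ρ σ - 1) (p := B))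
    (LinearMap.map_le_range (f := ρ σ - 1) (p := B₁)))).trans hrange
  rw [h1, hm, Nat.add_sub_cancel] at h2
  have : 0 < 2 ^ m := by positivity
  omega

end Cfsg.Agent.FGS73.Turull
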