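import Mathlib.GroupTheory.Nilpotent
import Mathlib.GroupTheory.PGroup
import Cfsg.Agent.Lib.Coprime.Action

/-!
Nilpotent chains, sequences bounded by them, and towers.
-/

set_option autoImplicit false

universe u

namespace Cfsg.Agent.FGS73.Turull

open Subgroup
open scoped commutatorElement

/-- `G` has a chain of `n` nilpotent sections. -/
def HasNilChain (n : ℕ) (G : Type u) [Group G] : Prop :=
  ∃ F : ℕ → Subgroup G, F 0 = ⊥ ∧ F n = ⊤ ∧ (∀ i, (F i).Normal) ∧
    ∀ i < n, F i ≤ F (i + 1) ∧ ∃ k, (F (i + 1)).lowerCentralSeries k ≤ F i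

theorem HasNilChain.of_fin {n : ℕ} {G : Type u} [Group G]
    (h : ∃ F : Fin (n + 1) → Subgroup G, F 0 = ⊥ ∧ F (Fin.last n) = ⊤ ∧ Monotone F ∧
      (∀ i, (F i).Normal) ∧ ∀ i : Fin n, ∃ k : ℕ, (F i.succ).lowerCentralSeries k ≤ F i.castSucc) :
    HasNilChain n G := by
  obtain ⟨F, h0, hl, hm, hn, hk⟩ := h
  refine ⟨fun i => F ⟨min i n, by omega⟩, ?_, ?_, fun i => hn _, fun i hi => ?_⟩
  · exact (congrArg F (Fin.ext (Nat.zero_min n))).trans h0
  · exact (congrArg F (Fin.ext (min_self n))).trans hl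
  · obtain ⟨k, hk⟩ := hk ⟨i, hi⟩
    refine ⟨hm (Fin.mk_le_mk.2 (by omega)), k, ?_⟩
    have e1 : (⟨min (i + 1) n, by omega⟩ : Fin (n + 1)) = (⟨i, hi⟩ : Fin n).succ :=
      Fin.ext (by simp; omega)
    have e2 : (⟨min i n, by omega⟩ : Fin (n + 1)) = (⟨i, hi⟩ : Fin n).castSucc :=
      Fin.ext (by simp; omega)
    show (F ⟨min (i + 1) n, _⟩).lowerCentralSeries k ≤ F ⟨min i n, _⟩
    rw [e1, e2]
    exact hk

theorem HasNilChain.to_fin {n : ℕ} {G : Type u} [Group G] (h : HasNilChain n G) :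
    ∃ F : Fin (n + 1) → Subgroup G, F 0 = ⊥ ∧ F (Fin.last n) = ⊤ ∧ Monotone F ∧
      (∀ i, (F i).Normal) ∧ ∀ i : Fin n, ∃ k : ℕ, (F i.succ).lowerCentralSeries k ≤ F i.castSucc := by
  obtain ⟨F, h0, hl, hn, hk⟩ := h
  exact ⟨fun i => F i, h0, hl, Fin.monotone_iff_le_succ.2 fun i => (hk i i.isLt).1, fun i => hn _,
    fun i => (hk i i.isLt).2⟩

variable {Γ : Type u} [Group Γ]

/-- A sequence in `C` of length `L` ending at `X`, each member reproduced by its predecessor. -/
inductive Seq (C : Subgroup Γ) : ℕ → Subgroup Γ → Prop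
  | base {X : Subgroup Γ} : X ≤ C → Seq C 1 X
  | step {L : ℕ} {X Y : Subgroup Γ} : Seq C L X → Y ≤ C → Y ≤ ⁅Y, X⁆ → Seq C (L + 1) Y

theorem Seq.le {C : Subgroup Γ} {L : ℕ} {X : Subgroup Γ} (h : Seq C L X) : X ≤ C := by
  cases h <;> assumption

theorem Seq.pos {C : Subgroup Γ} {L : ℕ} {X : Subgroup Γ} (h : Seq C L X) : 0 < L := by
  cases h <;> omega

theorem Seq.bound {C : Subgroup Γ} {n : ℕ} (hC : HasNilChain n C) {L : ℕ} {X : Subgroup Γ}
    (h : Seq C L X) (hne : X ≠ ⊥) : L ≤ n := by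
  obtain ⟨F, h0, hl, hn, hk⟩ := hC
  have key : X ≤ (F (n + 1 - L)).map C.subtype := by
    induction h with
    | base hX =>
      rw [Nat.add_sub_cancel, hl, ← MonoidHom.range_eq_map, range_subtype]
      exact hX
    | @step L X Y hprev hY hstep ih =>
      have := hprev.pos
      rcases eq_or_ne X ⊥ with rfl | hX0
      · exact hstep.trans (by rw [commutator_bot_right]; exact bot_le)
      have hX := ih hX0
      have h1 : Y ≤ (F (n + 1 - L)).map C.subtype := by
        refine hstep.trans ((commutator_mono hY hX).trans ?_)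
        calc ⁅C, (F (n + 1 - L)).map C.subtype⁆
            = ⁅(⊤ : Subgroup C), F (n + 1 - L)⁆.map C.subtype := by
              rw [Subgroup.map_commutator, ← MonoidHom.range_eq_map, range_subtype]
          _ ≤ _ := map_mono (by
              haveI := hn (n + 1 - L)
              exact commutator_le_right _ _)
      have h2 : ∀ k, Y ≤ ((F (n + 1 - L)).lowerCentralSeries k).map C.subtype := by
        intro k
        induction k with
        | zero => exact h1
        | succ k ihk =>
          refine hstep.trans ((commutator_mono ihk hX).trans ?_)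
          rw [← Subgroup.map_commutator, Subgroup.lowerCentralSeries_succ]
      rcases Nat.eq_zero_or_pos (n + 1 - L) with he | he
      · have h3 := h1
        rw [he, h0, Subgroup.map_bot] at h3
        exact h3.trans bot_le
      · obtain ⟨-, k, hk⟩ := hk (n - L) (by omega)
        rw [show n - L + 1 = n + 1 - L by omega] at hk
        rw [show n + 1 - (L + 1) = n - L by omega]
        exact (h2 k).trans (map_mono hk)
  by_contra hlt
  rw [show n + 1 - L = 0 by omega, h0, Subgroup.map_bot] at key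
  exact hne (le_bot_iff.1 key)

/-- A tower of length `h` in `G0`, invariant under `t`. -/
structure IsTower (G0 : Subgroup Γ) (t : Γ) (h : ℕ) (P : ℕ → Subgroup Γ) (p : ℕ → ℕ) : Prop where
  le : ∀ i < h, P i ≤ G0
  prime : ∀ i < h, (p i).Prime
  pgroup : ∀ i < h, IsPGroup (p i) (P i)
  t_norm : ∀ i < h, t ∈ normalizer (P i : Set Γ)
  norm : ∀ i < h, ∀ j ≤ i, P j ≤ normalizer (P i : Set Γ)
  p_ne : ∀ i, i + 1 < h → p i ≠ p (i + 1)
  step : ∀ i, i + 1 < h → P (i + 1) ≤ ⁅P (i + 1), P i⁆
  last : P (h - 1) ≠ ⊥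

theorem IsTower.coprime {G0 : Subgroup Γ} {t : Γ} {h : ℕ} {P : ℕ → Subgroup Γ} {p : ℕ → ℕ}
    [Finite Γ] (hT : IsTower G0 t h P p) {i j : ℕ} (hi : i < h) (hj : j < h) (hne : p i ≠ p j)
    {X Y : Subgroup Γ} (hX : X ≤ P i) (hY : Y ≤ P j) : (Nat.card X).Coprime (Nat.card Y) := by
  haveI := Fact.mk (hT.prime i hi)
  haveI := Fact.mk (hT.prime j hj)
  exact IsPGroup.coprime_card_of_ne (p i) (p j) hne X Y ((hT.pgroup i hi).to_le hX)
    ((hT.pgroup j hj).to_le hY)

/-- Append one term. -/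
theorem IsTower.append {G0 : Subgroup Γ} {t : Γ} {h : ℕ} {P : ℕ → Subgroup Γ} {p : ℕ → ℕ}
    (hT : IsTower G0 t h P p) (hh : 0 < h) {X : Subgroup Γ} {q : ℕ} (hX : X ≤ G0) (hq : q.Prime)
    (hXp : IsPGroup q X) (ht : t ∈ normalizer (X : Set Γ))
    (hn : ∀ j < h, P j ≤ normalizer (X : Set Γ)) (hne : p (h - 1) ≠ q)
    (hs : X ≤ ⁅X, P (h - 1)⁆) (hX0 : X ≠ ⊥) :
    IsTower G0 t (h + 1) (Function.update P h X) (Function.update p h q) := by
  have hu : ∀ i < h, Function.update P h X i = P i := fun i hi => Function.update_of_ne hi.ne _ _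
  have hup : ∀ i < h, Function.update p h q i = p i := fun i hi => Function.update_of_ne hi.ne _ _
  constructor
  · intro i hi
    rcases Nat.lt_succ_iff_lt_or_eq.1 hi with hi | rfl
    · rw [hu i hi]; exact hT.le i hi
    · rwa [Function.update_self]
  · intro i hi
    rcases Nat.lt_succ_iff_lt_or_eq.1 hi with hi | rfl
    · rw [hup i hi]; exact hT.prime i hi
    · rwa [Function.update_self]
  · intro i hi
    rcases Nat.lt_succ_iff_lt_or_eq.1 hi with hi | rfl
    · rw [hu i hi, hup i hi]; exact hT.pgroup i hi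
    · rwa [Function.update_self, Function.update_self]
  · intro i hi
    rcases Nat.lt_succ_iff_lt_or_eq.1 hi with hi | rfl
    · rw [hu i hi]; exact hT.t_norm i hi
    · rwa [Function.update_self]
  · intro i hi j hj
    rcases Nat.lt_succ_iff_lt_or_eq.1 hi with hi | rfl
    · rw [hu i hi, hu j (by omega)]; exact hT.norm i hi j hj
    · rw [Function.update_self]
      rcases hj.lt_or_eq with hj | rfl
      · rw [hu j hj]; exact hn j hj
      · rw [Function.update_self]; exact Subgroup.le_normalizer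
  · intro i hi
    rw [hup i (by omega)]
    rcases (Nat.lt_succ_iff.1 hi).lt_or_eq with hi' | hi'
    · rw [hup _ hi']; exact hT.p_ne i hi'
    · rw [hi', Function.update_self]
      rwa [show i = h - 1 by omega]
  · intro i hi
    rw [hu i (by omega)]
    rcases (Nat.lt_succ_iff.1 hi).lt_or_eq with hi' | hi'
    · rw [hu _ hi']; exact hT.step i hi'
    · rw [hi', Function.update_self]
      rwa [show i = h - 1 by omega]
  · rwa [Nat.add_sub_cancel, Function.update_self]

/-- Drop the first term. -/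
theorem IsTower.tail {G0 : Subgroup Γ} {t : Γ} {h : ℕ} {P : ℕ → Subgroup Γ} {p : ℕ → ℕ}
    (hT : IsTower G0 t (h + 1) P p) (hh : 0 < h) :
    IsTower G0 t h (fun i => P (i + 1)) (fun i => p (i + 1)) where
  le i hi := hT.le _ (by omega)
  prime i hi := hT.prime _ (by omega)
  pgroup i hi := hT.pgroup _ (by omega)
  t_norm i hi := hT.t_norm _ (by omega)
  norm i hi j hj := hT.norm _ (by omega) _ (by omega)
  p_ne i hi := hT.p_ne _ (by omega)
  step i hi := hT.step _ (by omega)
  last := by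
    rw [show h - 1 + 1 = h + 1 - 1 by omega]
    exact hT.last

end Cfsg.Agent.FGS73.Turull
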