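import Cfsg.Agent.FGS73.Turull.Tower
import Cfsg.Agent.Lib.Fitting
import Cfsg.Agent.Lib.Fitting.Minimal
import Mathlib.GroupTheory.SpecificGroups.Cyclic

/-!
Invariant towers exist in soluble groups without short nilpotent chains.
-/

set_option autoImplicit false

universe u

namespace Cfsg.Agent.FGS73.Turull

open Subgroup
open scoped commutatorElement

section Chains

variable {G : Type u} [Group G]

theorem HasNilChain.of_subsingleton [Subsingleton G] (n : ℕ) : HasNilChain n G :=
  ⟨fun _ => ⊥, rfl, Subsingleton.elim _ _, fun _ => inferInstance,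
    fun _ _ => ⟨le_rfl, 0, le_rfl⟩⟩

/-- A chain of the image, preceded by a nilpotent kernel. -/
theorem HasNilChain.prepend {G' : Type u} [Group G'] (g : G →* G') (hg : Function.Surjective g)
    (hk : Group.IsNilpotent g.ker) {n : ℕ} (h : HasNilChain n G') : HasNilChain (n + 1) G := by
  obtain ⟨F, h0, hl, hn, hF⟩ := h
  refine ⟨fun i => if i = 0 then ⊥ else (F (i - 1)).comap g, by simp, by simp [hl], fun i => ?_,
    fun i hi => ?_⟩
  · by_cases hi : i = 0
    · simp only [if_pos hi]; infer_instance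
    · simp only [if_neg hi]; exact (hn _).comap g
  · rcases Nat.eq_zero_or_pos i with rfl | hi0
    · obtain ⟨k, hk⟩ := (Subgroup.isNilpotent_iff_lowerCentralSeries g.ker).1 hk
      refine ⟨bot_le, k, ?_⟩
      simp only [zero_add, one_ne_zero, if_false, Nat.sub_self, h0, MonoidHom.comap_bot, if_true]
      exact hk.le
    · obtain ⟨hle, k, hk⟩ := hF (i - 1) (by omega)
      simp only [if_neg hi0.ne', show i + 1 ≠ 0 by omega, if_false]
      rw [show i + 1 - 1 = i - 1 + 1 by omega]
      refine ⟨comap_mono hle, k, ?_⟩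
      rw [← map_le_iff_le_comap, map_lowerCentralSeries, map_comap_eq_self_of_surjective hg]
      exact hk

/-- Chains of two images with trivially meeting kernels. -/
theorem HasNilChain.of_two {A B : Type u} [Group A] [Group B] (a : G →* A) (b : G →* B)
    (ha : Function.Surjective a) (hb : Function.Surjective b) (hab : a.ker ⊓ b.ker = ⊥) {n : ℕ}
    (hA : HasNilChain n A) (hB : HasNilChain n B) : HasNilChain n G := by
  obtain ⟨E, e0, el, en, eF⟩ := hA
  obtain ⟨D, d0, dl, dn, dF⟩ := hB
  refine ⟨fun i => (E i).comap a ⊓ (D i).comap b, by simp [e0, d0, hab], by simp [el, dl],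
    fun i => ?_, fun i hi => ?_⟩
  · haveI := (en i).comap a
    haveI := (dn i).comap b
    infer_instance
  · obtain ⟨e1, k, hk⟩ := eF i hi
    obtain ⟨d1, l, hl⟩ := dF i hi
    refine ⟨inf_le_inf (comap_mono e1) (comap_mono d1), max k l, le_inf ?_ ?_⟩
    · rw [← map_le_iff_le_comap, map_lowerCentralSeries]
      refine le_trans ?_ ((Subgroup.lowerCentralSeries_antitone _ (le_max_left k l)).trans hk)
      have hm : ((E (i + 1)).comap a ⊓ (D (i + 1)).comap b).map a ≤ E (i + 1) :=
        (map_mono inf_le_left).trans (map_comap_le a _)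
      induction max k l with
      | zero => exact hm
      | succ j ih => exact commutator_mono ih hm
    · rw [← map_le_iff_le_comap, map_lowerCentralSeries]
      refine le_trans ?_ ((Subgroup.lowerCentralSeries_antitone _ (le_max_right k l)).trans hl)
      have hm : ((E (i + 1)).comap a ⊓ (D (i + 1)).comap b).map b ≤ D (i + 1) :=
        (map_mono inf_le_right).trans (map_comap_le b _)
      induction max k l with
      | zero => exact hm
      | succ j ih => exact commutator_mono ih hm

end Chains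

variable {Γ : Type u} [Group Γ]

/-- An element normalising `K` is adjusted into the normaliser of a Sylow subgroup of `K`. -/
theorem frattini_elem [Finite Γ] (K : Subgroup Γ) {p : ℕ} [Fact p.Prime] (P : Sylow p K) {a : Γ}
    (ha : a ∈ normalizer (K : Set Γ)) :
    ∃ k ∈ K, k * a ∈ normalizer ((P : Subgroup K).map K.subtype : Set Γ) := by
  let e : MulAut K :=
    { toFun := fun x => ⟨a * x * a⁻¹, Coprime.conj_mem_of_mem_normalizer ha x.2⟩
      invFun := fun x => ⟨a⁻¹ * x * a, Coprime.conj_mem_of_mem_normalizer' ha x.2⟩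
      left_inv := fun x => by ext; simp [mul_assoc]
      right_inv := fun x => by ext; simp [mul_assoc]
      map_mul' := fun x y => by ext; simp [mul_assoc] }
  have hconj : ∀ x : K, ((e x : K) : Γ) = a * x * a⁻¹ := fun _ => rfl
  let P₂ : Sylow p K := P.comapOfInjective e.symm.toMonoidHom e.symm.injective
    (fun y _ => ⟨e y, e.symm_apply_apply y⟩)
  obtain ⟨k, hk⟩ := MulAction.exists_smul_eq K P₂ P
  refine ⟨k, k.2, ?_⟩
  have h1 : ∀ x ∈ (P : Subgroup K).map K.subtype,
      (k : Γ) * a * x * ((k : Γ) * a)⁻¹ ∈ (P : Subgroup K).map K.subtype := by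
    rintro _ ⟨x, hx, rfl⟩
    have h2 : k * e x * k⁻¹ ∈ (P : Subgroup K) := by
      rw [← hk]
      refine Subgroup.mem_map.mpr ⟨e x, ?_, rfl⟩
      show e.symm (e x) ∈ (P : Subgroup K)
      rwa [MulEquiv.symm_apply_apply]
    exact ⟨_, h2, by simp [hconj, mul_assoc]⟩
  rw [Coprime.mem_normalizer_map_iff_smul]
  refine Subgroup.eq_of_le_of_card_ge ?_ (Nat.card_congr
    (Subgroup.equivMapOfInjective _ _ (MulAut.conj _).injective).toEquiv).le
  rintro _ ⟨x, hx, rfl⟩
  exact h1 x hx

theorem coprime_prime [Finite Γ] {G0 : Subgroup Γ} {t : Γ} {r : ℕ} (hr : r.Prime) (ht : t ^ r = 1)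
    (hcop : ¬ r ∣ Nat.card G0) {K : Subgroup Γ} (hK : K ≤ G0) :
    (Nat.card (zpowers t)).Coprime (Nat.card K) := by
  rw [Nat.card_zpowers]
  refine Nat.Coprime.coprime_dvd_left (orderOf_dvd_of_pow_eq_one ht) ?_
  exact hr.coprime_iff_not_dvd.2 fun hd => hcop (hd.trans (card_dvd_of_le hK))

theorem mem_normalizer_commutator {A B : Subgroup Γ} {g : Γ} (hA : g ∈ normalizer (A : Set Γ))
    (hB : g ∈ normalizer (B : Set Γ)) : g ∈ normalizer (SetLike.coe ⁅A, B⁆) := by
  rw [Subgroup.mem_normalizer_iff_map_conj_eq] at *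
  rw [Subgroup.map_commutator, hA, hB]

theorem zpowers_solvable (t : Γ) : Group.IsSolvable (zpowers t) :=
  Group.isSolvable_of_comm fun a b => IsMulCommutative.is_comm.comm a b

theorem conj_mem_normalizer {A : Subgroup Γ} [A.Normal] (g : Γ) : g ∈ normalizer (A : Set Γ) := by
  rw [normalizer_eq_top]; trivial

/-- Invariant Sylow subgroups over the terms of a tower of an image. -/
theorem exists_sylow_over [Finite Γ] {G0 : Subgroup Γ} {t : Γ} {r : ℕ} (hr : r.Prime)
    (ht : t ^ r = 1) (hcop : ¬ r ∣ Nat.card G0) {Γ' : Type u} [Group Γ'] (f : Γ →* Γ') {h : ℕ}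
    {P' : ℕ → Subgroup Γ'} {p : ℕ → ℕ} (hT : IsTower (G0.map f) (f t) h P' p) :
    ∀ m ≤ h, ∀ X ≤ G0, t ∈ normalizer (X : Set Γ) → (∀ i < m, P' i ≤ X.map f) →
      ∃ Q : ℕ → Subgroup Γ, ∀ i < m, Q i ≤ X ∧ IsPGroup (p i) (Q i) ∧
        t ∈ normalizer (Q i : Set Γ) ∧ (Q i).map f = P' i ∧
        ∀ j < i, Q j ≤ normalizer (Q i : Set Γ) := by
  classical
  intro m
  induction m with
  | zero => exact fun _ _ _ _ _ => ⟨fun _ => ⊥, fun i hi => absurd hi (Nat.not_lt_zero i)⟩
  | succ m ih =>
    intro hm X hX htX hle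
    haveI := Fact.mk (hT.prime m hm)
    set K := X ⊓ (P' m).comap f with hK
    have htK : zpowers t ≤ normalizer (K : Set Γ) :=
      Coprime.le_normalizer_inf (zpowers_le.2 htX) (Coprime.le_normalizer_of_conj_mem fun a ha x hx => by
        have hfa : f a ∈ normalizer (P' m : Set Γ') :=
          (zpowers_le (H := (normalizer (P' m : Set Γ')).comap f)).2 (hT.t_norm m hm) ha
        show f (a * x * a⁻¹) ∈ P' m
        rw [map_mul, map_mul, map_inv]
        exact Coprime.conj_mem_of_mem_normalizer hfa hx)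
    obtain ⟨S, hS⟩ := Coprime.exists_invariant_sylow (zpowers t) K htK
      (coprime_prime hr ht hcop (inf_le_left.trans hX)) (Or.inl (zpowers_solvable t)) (p m)
    set Q := (S : Subgroup K).map K.subtype with hQ
    have hQK : Q ≤ K := map_subtype_le _
    have hQmap : Q.map f = P' m := by
      let g : K →* P' m := (f.comp K.subtype).codRestrict (P' m) fun x => x.2.2
      have hg : Function.Surjective g := fun y => by
        obtain ⟨x, hx, hxy⟩ := hle m (Nat.lt_succ_self m) y.2
        exact ⟨⟨x, hx, by show f x ∈ P' m; rw [hxy]; exact y.2⟩, Subtype.ext hxy⟩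
      have htop : (S : Subgroup K).map g = ⊤ := by
        rw [← Sylow.coe_mapSurjective hg]
        exact (S.mapSurjective hg).is_maximal' ((hT.pgroup m hm).to_subgroup ⊤) le_top |>.symm
      refine le_antisymm ?_ fun y hy => ?_
      · rintro _ ⟨x, hx, rfl⟩
        exact (hQK hx).2
      · obtain ⟨x, hx, hxy⟩ := (htop.ge (Subgroup.mem_top (⟨y, hy⟩ : P' m)) :)
        exact ⟨x, ⟨x, hx, rfl⟩, congrArg Subtype.val hxy⟩
    set X' := X ⊓ normalizer (Q : Set Γ) with hX'
    have htQ : t ∈ normalizer (Q : Set Γ) := hS (mem_zpowers t)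
    have htX' : t ∈ normalizer (X' : Set Γ) :=
      Coprime.le_normalizer_inf (A := zpowers t) (zpowers_le.2 htX)
        (Coprime.le_normalizer_normalizer hS) (mem_zpowers t)
    have hle' : ∀ i < m, P' i ≤ X'.map f := by
      intro i hi y hy
      obtain ⟨x, hx, rfl⟩ := hle i (by omega) hy
      have hxK : x ∈ normalizer (K : Set Γ) := by
        refine Coprime.mem_normalizer_of_le_iff (fun z hz => ⟨X.mul_mem (X.mul_mem hx hz.1) (X.inv_mem hx),
          ?_⟩) (fun z hz => ⟨X.mul_mem (X.mul_mem (X.inv_mem hx) hz.1) hx, ?_⟩)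
        · show f (x * z * x⁻¹) ∈ P' m
          rw [map_mul, map_mul, map_inv]
          exact Coprime.conj_mem_of_mem_normalizer (hT.norm m hm i hi.le hy) hz.2
        · show f (x⁻¹ * z * x) ∈ P' m
          rw [map_mul, map_mul, map_inv]
          exact Coprime.conj_mem_of_mem_normalizer' (hT.norm m hm i hi.le hy) hz.2
      obtain ⟨k, hk, hkx⟩ := frattini_elem K S hxK
      obtain ⟨u, hu, hfu⟩ := (hQmap.ge hk.2 : _)
      refine ⟨u⁻¹ * (k * x), ⟨X.mul_mem (X.inv_mem (hQK hu).1) (X.mul_mem hk.1 hx),
        (normalizer (Q : Set Γ)).mul_mem ((normalizer (Q : Set Γ)).inv_mem (Subgroup.le_normalizer hu)) hkx⟩, ?_⟩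
      rw [map_mul, map_mul, map_inv, hfu, inv_mul_cancel_left]
    obtain ⟨Q', hQ'⟩ := ih (by omega) X' (inf_le_left.trans hX) htX' hle'
    refine ⟨Function.update Q' m Q, fun i hi => ?_⟩
    rcases Nat.lt_succ_iff_lt_or_eq.1 hi with hi | rfl
    · obtain ⟨h1, h2, h3, h4, h5⟩ := hQ' i hi
      rw [Function.update_of_ne hi.ne]
      refine ⟨h1.trans inf_le_left, h2, h3, h4, fun j hj => ?_⟩
      rw [Function.update_of_ne (by omega)]
      exact h5 j hj
    · rw [Function.update_self]
      refine ⟨hQK.trans inf_le_left, S.2.map K.subtype, htQ, hQmap, fun j hj => ?_⟩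
      rw [Function.update_of_ne hj.ne]
      exact (hQ' j hj).1.trans inf_le_right

/-- Towers of images lift. -/
theorem IsTower.lift [Finite Γ] {G0 : Subgroup Γ} {t : Γ} {r : ℕ} (hr : r.Prime) (ht : t ^ r = 1)
    (htG : t ∈ normalizer (G0 : Set Γ)) (hcop : ¬ r ∣ Nat.card G0) {Γ' : Type u} [Group Γ']
    (f : Γ →* Γ') {h : ℕ} {P' : ℕ → Subgroup Γ'} {p : ℕ → ℕ}
    (hh : 0 < h) (hT : IsTower (G0.map f) (f t) h P' p) :
    ∃ P : ℕ → Subgroup Γ, IsTower G0 t h P p ∧ ∀ i < h, (P i).map f = P' i := by
  obtain ⟨Q, hQ⟩ := exists_sylow_over hr ht hcop f hT h le_rfl G0 le_rfl htG hT.le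
  obtain ⟨P, hP0, hPs⟩ : ∃ P : ℕ → Subgroup Γ, P 0 = Q 0 ∧
      ∀ i, P (i + 1) = ⁅Q (i + 1), P i⁆ :=
    ⟨fun i => Nat.rec (motive := fun _ => Subgroup Γ) (Q 0) (fun j Pj => ⁅Q (j + 1), Pj⁆) i,
      rfl, fun _ => rfl⟩
  have hPQ : ∀ i < h, P i ≤ Q i := by
    intro i
    induction i with
    | zero => exact fun _ => hP0.le
    | succ i ih =>
      intro hi
      rw [hPs]
      exact Coprime.commutator_le_of_le_normalizer
        ((ih (by omega)).trans ((hQ _ hi).2.2.2.2 i (Nat.lt_succ_self i)))
  have hmap : ∀ i < h, (P i).map f = P' i := by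
    intro i
    induction i with
    | zero => exact fun hi => hP0 ▸ (hQ 0 hi).2.2.2.1
    | succ i ih =>
      intro hi
      rw [hPs, Subgroup.map_commutator, (hQ _ hi).2.2.2.1, ih (by omega)]
      exact le_antisymm (Coprime.commutator_le_of_le_normalizer (hT.norm _ hi i (by omega)))
        (hT.step i hi)
  have key : ∀ i < h, ∀ g : Γ, (∀ j ≤ i, g ∈ normalizer (Q j : Set Γ)) →
      g ∈ normalizer (SetLike.coe (P i)) := by
    intro i
    induction i with
    | zero => exact fun _ g hg => hP0 ▸ hg 0 le_rfl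
    | succ i ih =>
      intro hi g hg
      have h1 := ih (by omega) g fun j hj => hg j (by omega)
      rw [hPs]
      exact mem_normalizer_commutator (hg _ le_rfl) h1
  have hnorm : ∀ i < h, ∀ j < i, P j ≤ normalizer (SetLike.coe (P i)) := by
    intro i
    induction i with
    | zero => exact fun _ j hj => absurd hj (Nat.not_lt_zero j)
    | succ i ih =>
      intro hi j hj
      rcases (Nat.lt_succ_iff.1 hj).lt_or_eq with hj' | rfl
      · intro g hg
        have hgi := ih (by omega) j hj' hg
        have hgQ : g ∈ normalizer (Q (i + 1) : Set Γ) :=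
          (hQ _ hi).2.2.2.2 j hj (hPQ j (by omega) hg)
        rw [hPs]
        exact mem_normalizer_commutator hgQ hgi
      · rw [hPs]
        exact Coprime.le_normalizer_commutator_right _ _
  refine ⟨P, ⟨fun i hi => (hPQ i hi).trans (hQ i hi).1, hT.prime,
    fun i hi => (hQ i hi).2.1.to_le (hPQ i hi),
    fun i hi => key i hi t fun j hj => (hQ j (by omega)).2.2.1, fun i hi j hj => ?_, hT.p_ne,
    fun i hi => ?_, fun h0 => ?_⟩, hmap⟩
  · rcases hj.lt_or_eq with hj | rfl
    · exact hnorm i hi j hj
    · exact Subgroup.le_normalizer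
  · rw [hPs]
    haveI := Fact.mk (hT.prime i (by omega))
    haveI := Fact.mk (hT.prime (i + 1) hi)
    refine (Coprime.commutator_commutator_eq (P i) (Q (i + 1))
      ((hPQ i (by omega)).trans ((hQ _ hi).2.2.2.2 i (Nat.lt_succ_self i))) ?_ (Or.inl ?_)).ge
    · obtain ⟨a, ha⟩ := IsPGroup.iff_card.1 ((hQ i (by omega)).2.1.to_le (hPQ i (by omega)))
      obtain ⟨b, hb⟩ := IsPGroup.iff_card.1 (hQ _ hi).2.1
      rw [ha, hb]
      exact Nat.coprime_pow_primes _ _ (hT.prime i (by omega)) (hT.prime _ hi) (hT.p_ne i hi)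
    · haveI := ((hQ i (by omega)).2.1.to_le (hPQ i (by omega))).isNilpotent
      infer_instance
  · apply hT.last
    rw [← hmap (h - 1) (by omega), h0, Subgroup.map_bot]

/-- Primes of the Fitting subgroup give cores. -/
theorem pCore_ne_bot {G : Type u} [Group G] [Finite G] {p : ℕ} [Fact p.Prime]
    (hd : p ∣ Nat.card (Cfsg.fittingSubgroup G)) : Cfsg.pCore p G ≠ ⊥ := by
  haveI : Group.IsNilpotent (Cfsg.fittingSubgroup G) := Fitting.fitting_isNilpotent
  obtain ⟨x, hx⟩ := exists_prime_orderOf_dvd_card' p hd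
  obtain ⟨P, hP⟩ := (IsPGroup.of_card (n := 1)
    (by rw [Nat.card_zpowers, hx, pow_one]) : IsPGroup p (zpowers x)).exists_le_sylow
  haveI hPn : (P : Subgroup (Cfsg.fittingSubgroup G)).Normal :=
    P.normal_of_normalizerCondition Group.normalizerCondition_of_isNilpotent
  haveI : (P : Subgroup (Cfsg.fittingSubgroup G)).Characteristic := P.characteristic_of_normal hPn
  intro hbot
  have hP' : (P : Subgroup (Cfsg.fittingSubgroup G)).map (Subgroup.subtype _) ≤ Cfsg.pCore p G :=
    le_sSup ⟨Fitting.normal_map_subtype_of_characteristic _, P.2.map _⟩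
  have h1 : ((x : G)) ∈ Cfsg.pCore p G := hP' ⟨x, hP (mem_zpowers x), rfl⟩
  rw [hbot, mem_bot] at h1
  rw [← orderOf_coe, h1, orderOf_one] at hx
  exact (Fact.out : p.Prime).ne_one hx.symm

theorem fitting_ne_bot {G : Type u} [Group G] [Finite G] [Nontrivial G] [Group.IsSolvable G] :
    Cfsg.fittingSubgroup G ≠ ⊥ := fun h => by
  obtain ⟨g, hg⟩ := exists_ne (1 : G)
  apply hg
  rw [← mem_bot, ← h]
  refine Fitting.centralizer_fitting_le (mem_centralizer_iff.2 fun x hx => ?_)
  rw [h] at hx
  obtain rfl : x = 1 := mem_bot.1 hx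
  simp

/-- A soluble group without a chain of `n` nilpotent sections has a tower of length `n + 1`. -/
theorem exists_tower_aux (N : ℕ) : ∀ (Γ : Type u) [Group Γ] [Finite Γ] (G0 : Subgroup Γ)
    [G0.Normal] (t : Γ) (r n : ℕ), Nat.card G0 ≤ N → r.Prime → t ^ r = 1 → ¬ r ∣ Nat.card G0 →
    Group.IsSolvable G0 → ¬ HasNilChain n G0 →
    ∃ (P : ℕ → Subgroup Γ) (p : ℕ → ℕ), IsTower G0 t (n + 1) P p := by
  induction N with
  | zero => exact fun Γ _ _ G0 _ t r n hN => absurd hN (by have := Nat.card_pos (α := G0); omega)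
  | succ N ih =>
    intro Γ _ _ G0 _ t r n hN hr ht hcop hsol hno
    haveI := hsol
    haveI hnt : Nontrivial G0 := by
      by_contra hnt
      rw [not_nontrivial_iff_subsingleton] at hnt
      exact hno (HasNilChain.of_subsingleton n)
    have htG : t ∈ normalizer (G0 : Set Γ) := conj_mem_normalizer t
    cases n with
    | zero =>
      set p := (Nat.card G0).minFac with hp
      have hp' : p.Prime := Nat.minFac_prime Finite.one_lt_card.ne'
      haveI := Fact.mk hp'
      obtain ⟨S, hS⟩ := Coprime.exists_invariant_sylow (zpowers t) G0 (zpowers_le.2 htG)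
        (coprime_prime hr ht hcop le_rfl) (Or.inl (zpowers_solvable t)) p
      refine ⟨fun _ => (S : Subgroup G0).map G0.subtype, fun _ => p,
        fun _ _ => map_subtype_le _, fun _ _ => hp', fun _ _ => S.2.map _,
        fun _ _ => hS (mem_zpowers t), fun _ _ _ _ => Subgroup.le_normalizer,
        fun i hi => by omega, fun i hi => by omega, ?_⟩
      rw [Ne, map_eq_bot_iff_of_injective _ G0.subtype_injective]
      exact S.ne_bot_of_dvd_card (Nat.minFac_dvd _)
    | succ n =>
      set F := Cfsg.fittingSubgroup G0 with hF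
      have hF0 : F ≠ ⊥ := fitting_ne_bot
      have step : ∀ (M : Subgroup G0) [M.Characteristic], M ≠ ⊥ → ∀ (k : ℕ),
          ¬ HasNilChain k (G0.map (QuotientGroup.mk' (M.map G0.subtype))) →
          ∃ (P : ℕ → Subgroup (Γ ⧸ M.map G0.subtype)) (p : ℕ → ℕ),
            IsTower (G0.map (QuotientGroup.mk' (M.map G0.subtype)))
              (QuotientGroup.mk' (M.map G0.subtype) t) (k + 1) P p := by
        intro M _ hM k hk
        set V := M.map G0.subtype with hV
        set f := QuotientGroup.mk' V with hf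
        haveI : (G0.map f).Normal := Normal.map inferInstance f (QuotientGroup.mk'_surjective V)
        refine ih _ (G0.map f) (f t) r k ?_ hr (by rw [← map_pow, ht, map_one])
          (fun hd => hcop (hd.trans (Subgroup.card_map_dvd G0 f)))
          (Group.isSolvable_of_surjective (f.subgroupMap_surjective G0)) hk
        have hlt : Nat.card (G0.map f) < Nat.card G0 := by
          refine lt_of_le_of_ne (Nat.le_of_dvd Nat.card_pos (Subgroup.card_map_dvd G0 f)) fun he => hM ?_
          have hinj : Function.Injective (f.subgroupMap G0) :=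
            ((Nat.bijective_iff_surjective_and_card _).2
              ⟨f.subgroupMap_surjective G0, he.symm⟩).1
          rw [eq_bot_iff]
          intro x hx
          refine mem_bot.2 (hinj (Subtype.ext ?_))
          rw [map_one]
          exact (QuotientGroup.eq_one_iff _).2 ⟨x, hx, rfl⟩
        omega
      have kerM : ∀ (M : Subgroup G0) [M.Characteristic],
          ((QuotientGroup.mk' (M.map G0.subtype)).subgroupMap G0).ker = M := by
        intro M _
        ext x
        rw [MonoidHom.mem_ker, Subtype.ext_iff]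
        show (QuotientGroup.mk' (M.map G0.subtype)) (x : Γ) = 1 ↔ x ∈ M
        rw [QuotientGroup.mk'_apply, QuotientGroup.eq_one_iff]
        exact ⟨fun ⟨y, hy, hyx⟩ => Subtype.ext hyx ▸ hy, fun hx => ⟨x, hx, rfl⟩⟩
      obtain ⟨p, hp, hpF⟩ : ∃ p : ℕ, p.Prime ∧ p ∣ Nat.card F :=
        Nat.exists_prime_and_dvd fun h => hF0 (Subgroup.eq_bot_of_card_eq _ h)
      haveI := Fact.mk hp
      by_cases htwo : ∃ q : ℕ, q.Prime ∧ q ∣ Nat.card F ∧ q ≠ p
      · obtain ⟨q, hq, hqF, hqp⟩ := htwo
        haveI := Fact.mk hq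
        have hM1 := pCore_ne_bot (G := G0) hpF
        have hM2 := pCore_ne_bot (G := G0) hqF
        have hdis : Cfsg.pCore p G0 ⊓ Cfsg.pCore q G0 = ⊥ := disjoint_iff.1
          (IsPGroup.disjoint_of_ne p q hqp.symm _ _ (Fitting.pCore_isPGroup p)
            (Fitting.pCore_isPGroup q))
        by_cases h1 : HasNilChain (n + 1)
            (G0.map (QuotientGroup.mk' ((Cfsg.pCore p G0).map G0.subtype)))
        · have h2 : ¬ HasNilChain (n + 1)
              (G0.map (QuotientGroup.mk' ((Cfsg.pCore q G0).map G0.subtype))) := fun h2 =>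
            hno (HasNilChain.of_two _ _ (MonoidHom.subgroupMap_surjective _ G0)
              (MonoidHom.subgroupMap_surjective _ G0) (by rw [kerM, kerM, hdis]) h1 h2)
          obtain ⟨P', p', hT⟩ := step _ hM2 (n + 1) h2
          obtain ⟨P, hP, -⟩ := IsTower.lift hr ht htG hcop _ (Nat.succ_pos _) hT
          exact ⟨P, p', hP⟩
        · obtain ⟨P', p', hT⟩ := step _ hM1 (n + 1) h1
          obtain ⟨P, hP, -⟩ := IsTower.lift hr ht htG hcop _ (Nat.succ_pos _) hT
          exact ⟨P, p', hP⟩
      push Not at htwo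
      have hFp : IsPGroup p F := IsPGroup.of_card
        (Nat.eq_prime_pow_of_unique_prime_dvd Nat.card_pos.ne' fun {d} hd hdF => htwo d hd hdF)
      set V := F.map G0.subtype with hV
      set f := QuotientGroup.mk' V with hf
      set G1 := G0.map f with hG1
      have hker := kerM F
      have hsurj := f.subgroupMap_surjective G0
      have hno1 : ¬ HasNilChain n G1 := fun h1 => hno (h1.prepend _ hsurj
        (by rw [hker]; exact Fitting.fitting_isNilpotent))
      obtain ⟨P', p', hT⟩ := step F hF0 n hno1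
      haveI : G1.Normal := Normal.map inferInstance f (QuotientGroup.mk'_surjective V)
      haveI : Group.IsSolvable G1 := Group.isSolvable_of_surjective hsurj
      have ht1 : f t ^ r = 1 := by rw [← map_pow, ht, map_one]
      have hcop1 : ¬ r ∣ Nat.card G1 := fun hd => hcop (hd.trans (Subgroup.card_map_dvd G0 f))
      obtain ⟨P₁, p₁, hT₁, hlast⟩ : ∃ (P₁ : ℕ → Subgroup (Γ ⧸ V)) (p₁ : ℕ → ℕ),
          IsTower G1 (f t) (n + 1) P₁ p₁ ∧ p₁ n ≠ p := by
        by_cases hpl : p' n = p
        swap
        · exact ⟨P', p', hT, hpl⟩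
        set L := P' n with hL
        have hLp : IsPGroup p L := hpl ▸ hT.pgroup n (by omega)
        have hL0 : L ≠ ⊥ := by simpa using hT.last
        have hcore : Cfsg.pCore p G1 = ⊥ := by
          have h1 : IsPGroup p ((Cfsg.pCore p G1).comap (f.subgroupMap G0)) :=
            (Fitting.pCore_isPGroup p).comap_of_ker_isPGroup _ (by rw [hker]; exact hFp)
          have h2 : (Cfsg.pCore p G1).comap (f.subgroupMap G0) ≤ (f.subgroupMap G0).ker := by
            rw [hker]
            exact (Fitting.le_pCore ((Fitting.pCore_normal p).comap _) h1).trans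
              (Fitting.pCore_le_fitting p)
          rw [eq_bot_iff]
          intro y hy
          obtain ⟨x, rfl⟩ := hsurj y
          exact mem_bot.2 (MonoidHom.mem_ker.1 (h2 (show x ∈ Subgroup.comap _ _ from hy)))
        obtain ⟨l, hl, hlne⟩ : ∃ l : ℕ, l.Prime ∧ ⁅(Cfsg.pCore l G1).map G1.subtype, L⁆ ≠ ⊥ := by
          by_contra hall
          push Not at hall
          have hLF : L.subgroupOf G1 ≤ Cfsg.fittingSubgroup G1 := by
            refine le_trans ?_ Fitting.centralizer_fitting_le
            rw [Fitting.fitting_eq_iSup_pCore, le_centralizer_iff]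
            refine iSup_le fun l x hx => mem_centralizer_iff.2 fun y hy => Subtype.ext ?_
            have := commutator_eq_bot_iff_le_centralizer.1 (hall l l.2)
              (Subgroup.mem_map_of_mem G1.subtype hx)
            exact mem_centralizer_iff.1 this (y : Γ ⧸ V) hy
          have hLG : L ≤ G1 := hT.le n (by omega)
          have hd : p ∣ Nat.card (Cfsg.fittingSubgroup G1) := by
            refine Dvd.dvd.trans ?_ (card_dvd_of_le hLF)
            rw [Nat.card_congr (subgroupOfEquivOfLe hLG).toEquiv]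
            haveI := Fact.mk hp
            obtain ⟨j, hj⟩ := IsPGroup.iff_card.1 hLp
            rw [hj]
            refine dvd_pow_self p fun hj0 => hL0 (Subgroup.eq_bot_of_card_eq _ ?_)
            rw [hj, hj0, pow_zero]
          exact pCore_ne_bot hd hcore
        haveI := Fact.mk hl
        have hlp : l ≠ p := fun hl' => hlne (by
          rw [hl', hcore, Subgroup.map_bot, commutator_bot_left])
        set O := (Cfsg.pCore l G1).map G1.subtype with hO
        haveI hOn : O.Normal := Fitting.normal_map_subtype_of_characteristic _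
        have hLO : L ≤ normalizer (O : Set (Γ ⧸ V)) := fun g _ => conj_mem_normalizer g
        have hOp : IsPGroup l O := (Fitting.pCore_isPGroup l).map _
        have hnorm : ∀ g : Γ ⧸ V, g ∈ normalizer (L : Set (Γ ⧸ V)) →
            g ∈ normalizer (SetLike.coe ⁅O, L⁆) := fun g hg =>
          mem_normalizer_commutator (conj_mem_normalizer g) hg
        have hne' : p' (n + 1 - 1) ≠ l := by rw [Nat.add_sub_cancel, hpl]; exact hlp.symm
        refine ⟨_, _, ((hT.append (Nat.succ_pos n) (X := ⁅O, L⁆) (q := l)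
          ((Coprime.commutator_le_of_le_normalizer hLO).trans (map_subtype_le _)) hl
          (hOp.to_le (Coprime.commutator_le_of_le_normalizer hLO))
          (hnorm _ (hT.t_norm n (by omega)))
          (fun j hj g hg => hnorm g (hT.norm n (by omega) j (by omega) hg))
          hne' ?_ hlne).tail (Nat.succ_pos n)), ?_⟩
        · rw [Nat.add_sub_cancel]
          exact (Coprime.commutator_commutator_eq L O hLO
            (IsPGroup.coprime_card_of_ne p l hlp.symm _ _ hLp hOp)
            (Or.inl (haveI := hLp.isNilpotent; inferInstance))).ge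
        · show Function.update p' (n + 1) l (n + 1) ≠ p
          rwa [Function.update_self]
      obtain ⟨P, hP, hmap⟩ := IsTower.lift hr ht htG hcop _ (Nat.succ_pos _) hT₁
      set L := P n with hL
      have hVn : ∀ g : Γ, g ∈ normalizer (V : Set Γ) := fun g => conj_mem_normalizer g
      have hLV : L ≤ normalizer (V : Set Γ) := fun g _ => hVn g
      have hconj : ∀ g : Γ, g ∈ normalizer (L : Set Γ) → g ∈ normalizer (SetLike.coe ⁅V, L⁆) :=
        fun g hg => mem_normalizer_commutator (hVn g) hg
      haveI := Fact.mk (hP.prime n (by omega))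
      have hL0 : ⁅V, L⁆ ≠ ⊥ := by
        intro h0
        apply hT₁.last
        rw [Nat.add_sub_cancel, ← hmap n (by omega), eq_bot_iff]
        rintro _ ⟨x, hx, rfl⟩
        have hxG : x ∈ G0 := hP.le n (by omega) hx
        have hxc : (⟨x, hxG⟩ : G0) ∈ centralizer (F : Set G0) :=
          mem_centralizer_iff.2 fun y hy => Subtype.ext (mem_centralizer_iff.1
            (commutator_eq_bot_iff_le_centralizer.1 h0 ⟨y, hy, rfl⟩) x hx).symm
        exact mem_bot.2 ((QuotientGroup.eq_one_iff _).2
          ⟨⟨x, hxG⟩, Fitting.centralizer_fitting_le hxc, rfl⟩)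
      refine ⟨_, _, hP.append (Nat.succ_pos n) (X := ⁅V, L⁆) (q := p)
        ((Coprime.commutator_le_of_le_normalizer hLV).trans (map_subtype_le _)) hp
        ((hFp.map _).to_le (Coprime.commutator_le_of_le_normalizer hLV))
        (hconj t (hP.t_norm n (by omega)))
        (fun j hj g hg => hconj g (hP.norm n (by omega) j (by omega) hg))
        (by simpa using hlast) ?_ hL0⟩
      show ⁅V, L⁆ ≤ ⁅⁅V, L⁆, L⁆
      exact (Coprime.commutator_commutator_eq L V hLV
        (IsPGroup.coprime_card_of_ne (p₁ n) p hlast _ _ (hP.pgroup n (by omega)) (hFp.map _))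
        (Or.inl (haveI := (hP.pgroup n (by omega)).isNilpotent; inferInstance))).ge

theorem exists_tower [Finite Γ] (G0 : Subgroup Γ) [G0.Normal] {t : Γ} {r n : ℕ} (hr : r.Prime)
    (ht : t ^ r = 1) (hcop : ¬ r ∣ Nat.card G0) (hsol : Group.IsSolvable G0)
    (hno : ¬ HasNilChain n G0) : ∃ (P : ℕ → Subgroup Γ) (p : ℕ → ℕ), IsTower G0 t (n + 1) P p :=
  exists_tower_aux (Nat.card G0) Γ G0 t r n le_rfl hr ht hcop hsol hno

end Cfsg.Agent.FGS73.Turull
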