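import Cfsg.Agent.FGS73.BireflectionCore
import Cfsg.Agent.Lib.Coprime.Weights

/-!
Weights for Turull's theorem: groups of class two modulo the kernel of a representation, their
weight spaces, the radicals of weights, and invariant complements.
-/

set_option autoImplicit false

namespace Cfsg.Agent.FGS73.Turull

open Subgroup
open scoped commutatorElement
open Cfsg.Agent.LinAct (rho_mul rho_one rho_inv_apply)

variable {H : Type*} [Group H] {K : Type*} [Field K] {U : Type*} [AddCommGroup U] [Module K U]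

/-- `Q` is a `q`-group, of class two over the kernel of `ρ`, with `Z` central. -/
structure CTwo (ρ : H →* Module.End K U) (Q Z : Subgroup H) (q : ℕ) : Prop where
  prime : q.Prime
  pgroup : IsPGroup q Q
  ne_zero : (q : K) ≠ 0
  le : Z ≤ Q
  central : ∀ x ∈ Q, ∀ z ∈ Z, ρ ⁅x, z⁆ = 1
  comm : ∀ x ∈ Q, ∀ y ∈ Q, ⁅x, y⁆ ∈ Z

/-- The invariant subspaces of `Q` and `σ`. -/
def Inv (ρ : H →* Module.End K U) (Q : Subgroup H) (σ : H) (W : Submodule K U) : Prop :=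
  (∀ x ∈ Q, ∀ w ∈ W, ρ x w ∈ W) ∧ ∀ w ∈ W, ρ σ w ∈ W

/-- Every nonzero invariant subspace has a fixed vector. -/
def NoBad (ρ : H →* Module.End K U) (Q : Subgroup H) (σ : H) : Prop :=
  ∀ W : Submodule K U, W ≠ ⊥ → Inv ρ Q σ W → ∃ v ∈ W, v ≠ 0 ∧ ρ σ v = v


theorem rho_swap (ρ : H →* Module.End K U) {a b : H} (h : ρ ⁅a, b⁆ = 1) :
    ρ (a * b) = ρ (b * a) := by
  rw [show a * b = ⁅a, b⁆ * (b * a) by simp [commutatorElement_def, mul_assoc], map_mul, h, one_mul]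

theorem pow_card_ne_zero {Q : Subgroup H} [Finite Q] {q : ℕ} (hq : (q : K) ≠ 0)
    (hQ : IsPGroup q Q) (hp : q.Prime) : (Nat.card Q : K) ≠ 0 := by
  haveI := Fact.mk hp
  obtain ⟨n, hn⟩ := IsPGroup.iff_card.1 hQ
  rw [hn, Nat.cast_pow]
  exact pow_ne_zero _ hq

/-- A weight on operators commuting on an invariant subspace. -/
theorem exists_weight [IsAlgClosed K] [FiniteDimensional K U] (ρ : H →* Module.End K U)
    (A : Subgroup H) (W : Submodule K U) (hW : W ≠ ⊥) (hWA : ∀ a ∈ A, ∀ w ∈ W, ρ a w ∈ W)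
    (hcomm : ∀ a ∈ A, ∀ b ∈ A, ∀ w ∈ W, ρ a (ρ b w) = ρ b (ρ a w)) :
    ∃ (χ : H → K) (v : U), v ∈ W ∧ v ≠ 0 ∧ v ∈ LinAct.wspace ρ A χ := by
  classical
  induction hn : Module.finrank K W using Nat.strong_induction_on generalizing W with | _ n ih => ?_
  subst hn
  obtain ⟨v, hv, hv0⟩ := (Submodule.ne_bot_iff W).mp hW
  by_cases hsc : ∀ a ∈ A, ∃ c : K, ∀ w ∈ W, ρ a w = c • w
  · choose! c hc using hsc
    exact ⟨c, v, hv, hv0, fun z hz => hc z hz v hv⟩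
  push Not at hsc
  obtain ⟨a, haA, ha⟩ := hsc
  have : Nontrivial W := Submodule.nontrivial_iff_ne_bot.mpr hW
  obtain ⟨μ, hμ⟩ := Module.End.exists_eigenvalue ((ρ a).restrict (hWA a haA))
  obtain ⟨u, hu⟩ := hμ.exists_hasEigenvector
  have hu1 : ρ a (u : U) = μ • (u : U) :=
    congrArg Subtype.val (Module.End.mem_eigenspace_iff.mp hu.1)
  set W' := W ⊓ Module.End.eigenspace (ρ a) μ with hW'
  have hW'0 : W' ≠ ⊥ := (Submodule.ne_bot_iff _).mpr
    ⟨u, ⟨u.2, Module.End.mem_eigenspace_iff.mpr hu1⟩, fun h => hu.2 (Subtype.ext h)⟩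
  have hW'A : ∀ b ∈ A, ∀ w ∈ W', ρ b w ∈ W' := fun b hb w hw =>
    ⟨hWA b hb w hw.1, Module.End.mem_eigenspace_iff.mpr (by
      rw [hcomm a haA b hb w hw.1, Module.End.mem_eigenspace_iff.mp hw.2, map_smul])⟩
  have hlt : Module.finrank K W' < Module.finrank K W := by
    refine Submodule.finrank_lt_finrank_of_lt (lt_of_le_of_ne inf_le_left fun h => ?_)
    obtain ⟨w, hw, hne⟩ := ha μ
    exact hne (Module.End.mem_eigenspace_iff.mp (h.ge hw).2)
  obtain ⟨χ, w, hw, hw0, hχ⟩ :=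
    ih _ hlt W' hW'0 hW'A (fun a ha b hb w hw => hcomm a ha b hb w hw.1) rfl
  exact ⟨χ, w, hw.1, hw0, hχ⟩

variable {ρ : H →* Module.End K U} {Q Z : Subgroup H} {q : ℕ}

theorem CTwo.swap (h : CTwo ρ Q Z q) {x z : H} (hx : x ∈ Q) (hz : z ∈ Z) (w : U) :
    ρ x (ρ z w) = ρ z (ρ x w) := by
  rw [← rho_mul, ← rho_mul, rho_swap ρ (h.central x hx z hz)]

theorem CTwo.wspace_inv (h : CTwo ρ Q Z q) {χ : H → K} {x : H} (hx : x ∈ Q) {v : U}
    (hv : v ∈ LinAct.wspace ρ Z χ) : ρ x v ∈ LinAct.wspace ρ Z χ := fun z hz => by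
  rw [← h.swap hx hz, hv z hz, map_smul]

theorem CTwo.bracket (h : CTwo ρ Q Z q) {χ : H → K} {L : Submodule K U} (hL : L ≠ ⊥)
    (hLχ : L ≤ LinAct.wspace ρ Z χ) (hLQ : ∀ x ∈ Q, ∀ v ∈ L, ρ x v ∈ L) :
    Bracket ρ L Q (fun a c => χ ⁅a, c⁆) :=
  ⟨hL, hLQ, fun a ha c hc _ hv => hLχ hv _ (h.comm a ha c hc)⟩

/-- The radical of a weight. -/
def rad (Q : Subgroup H) (χ : H → K) : Set H := {x | x ∈ Q ∧ ∀ t ∈ Q, χ ⁅t, x⁆ = 1}

theorem CTwo.bracket' (h : CTwo ρ Q Z q) {χ : H → K} {v : U} (hv : v ∈ LinAct.wspace ρ Z χ)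
    (hv0 : v ≠ 0) : Bracket ρ (LinAct.wspace ρ Z χ) Q (fun a c => χ ⁅a, c⁆) :=
  h.bracket ((Submodule.ne_bot_iff _).2 ⟨v, hv, hv0⟩) le_rfl fun _ hx _ hw => h.wspace_inv hx hw

/-- The radical commutes with `Q` on the weight space. -/
theorem CTwo.rad_comm (h : CTwo ρ Q Z q) {χ : H → K} {v : U} (hv : v ∈ LinAct.wspace ρ Z χ)
    {x t : H} (hx : x ∈ rad Q χ) (ht : t ∈ Q) : ρ t (ρ x v) = ρ x (ρ t v) := by
  have h1 := h.wspace_inv hx.1 (h.wspace_inv ht hv) _ (h.comm t ht x hx.1)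
  rw [hx.2 t ht, one_smul] at h1
  rw [← rho_mul, show t * x = ⁅t, x⁆ * (x * t) by simp [commutatorElement_def, mul_assoc],
    rho_mul, rho_mul, h1]

/-- The weights of `Z` are trivial on elements acting as the identity. -/
theorem weight_eq_one {A : Subgroup H} {χ : H → K} {v : U} (hv : v ∈ LinAct.wspace ρ A χ)
    (hv0 : v ≠ 0) {z : H} (hz : z ∈ A) (h : ρ z v = v) : χ z = 1 :=
  smul_left_injective K hv0 (((hv z hz).symm.trans h).trans (one_smul K v).symm)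

theorem weight_eq_of_rho_eq {A : Subgroup H} {χ : H → K} {v : U} (hv : v ∈ LinAct.wspace ρ A χ)
    (hv0 : v ≠ 0) {y z : H} (hy : y ∈ A) (hz : z ∈ A) (h : ρ y = ρ z) : χ y = χ z :=
  smul_left_injective K hv0 (((hv y hy).symm.trans (congrArg (fun f => f v) h)).trans (hv z hz))

/-- Two weights with a common nonzero vector agree. -/
theorem weight_eq {A : Subgroup H} {χ μ : H → K} {v : U} (hv : v ∈ LinAct.wspace ρ A χ)
    (hv' : v ∈ LinAct.wspace ρ A μ) (hv0 : v ≠ 0) {z : H} (hz : z ∈ A) : χ z = μ z :=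
  smul_left_injective K hv0 ((hv z hz).symm.trans (hv' z hz))

/-- An element trivial on every weight vector of a commuting group, commuting with it, is trivial
on the subspace. -/
theorem eq_one_of_weights [IsAlgClosed K] [FiniteDimensional K U] (ρ : H →* Module.End K U)
    (A : Subgroup H) (W : Submodule K U) (hWA : ∀ a ∈ A, ∀ w ∈ W, ρ a w ∈ W)
    (hcomm : ∀ a ∈ A, ∀ b ∈ A, ∀ w ∈ W, ρ a (ρ b w) = ρ b (ρ a w)) {x : H} {n : ℕ}
    (hn : x ^ n = 1) (hn0 : (n : K) ≠ 0) (hxW : ∀ w ∈ W, ρ x w ∈ W)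
    (hxA : ∀ a ∈ A, ∀ w ∈ W, ρ a (ρ x w) = ρ x (ρ a w))
    (h : ∀ (χ : H → K) (v : U), v ∈ W → v ≠ 0 → v ∈ LinAct.wspace ρ A χ → ρ x v = v) :
    ∀ w ∈ W, ρ x w = w := by
  by_contra hne
  push Not at hne
  obtain ⟨w₀, hw₀, hne⟩ := hne
  set W' := W.map (ρ x - 1) with hW'
  have hW'0 : W' ≠ ⊥ := (Submodule.ne_bot_iff _).2
    ⟨_, ⟨w₀, hw₀, rfl⟩, fun h0 => hne (sub_eq_zero.1 (by simpa using h0))⟩
  have hle : W' ≤ W := by
    rintro _ ⟨u, hu, rfl⟩
    simpa using W.sub_mem (hxW u hu) hu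
  have hinv : ∀ a ∈ A, ∀ u ∈ W', ρ a u ∈ W' := by
    rintro a ha _ ⟨u, hu, rfl⟩
    exact ⟨ρ a u, hWA a ha u hu, by simp [hxA a ha u hu]⟩
  obtain ⟨χ, v, hv, hv0, hvχ⟩ := exists_weight ρ A W' hW'0 hinv
    fun a ha b hb u hu => hcomm a ha b hb u (hle hu)
  have hvW := hle hv
  obtain ⟨u, hu, huv⟩ := hv
  exact hv0 (LinAct.eq_zero_of_range ρ hn hn0 (h χ v hvW hv0 hvχ) (by simpa using huv))

/-- Invariant complements in coprime characteristic. -/
theorem exists_compl [Finite H] (ρ : H →* Module.End K U) (hH : (Nat.card H : K) ≠ 0)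
    (W : Submodule K U) (hW : ∀ g : H, ∀ w ∈ W, ρ g w ∈ W) :
    ∃ W' : Submodule K U, IsCompl W W' ∧ ∀ g : H, ∀ w ∈ W', ρ g w ∈ W' := by
  classical
  cases nonempty_fintype H
  obtain ⟨W₀, hW₀⟩ := W.exists_isCompl
  let P : U →ₗ[K] U := W.subtype.comp (W.projectionOnto W₀ hW₀)
  have hPW : ∀ v, P v ∈ W := fun v => (W.projectionOnto W₀ hW₀ v).2
  have hPid : ∀ w ∈ W, P w = w := fun w hw => by
    simp [P, Submodule.projectionOnto_apply_left hW₀ ⟨w, hw⟩]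
  let A : U →ₗ[K] U := ∑ g : H, ρ g * P * ρ g⁻¹
  have hAW : ∀ v, A v ∈ W := fun v => by
    simp only [A, LinearMap.sum_apply, Module.End.mul_apply]
    exact W.sum_mem fun g _ => hW g _ (hPW _)
  have hAid : ∀ w ∈ W, A w = (Nat.card H : K) • w := fun w hw => by
    simp only [A, LinearMap.sum_apply, Module.End.mul_apply]
    rw [Finset.sum_congr rfl fun g _ => by
      rw [hPid _ (hW g⁻¹ w hw), ← rho_mul, mul_inv_cancel, rho_one]]
    rw [Finset.sum_const, Finset.card_univ, Nat.card_eq_fintype_card, Nat.cast_smul_eq_nsmul]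
  have hAc : ∀ h, A * ρ h = ρ h * A := fun h => by
    simp only [A, Finset.sum_mul, Finset.mul_sum]
    rw [← Equiv.sum_comp (Equiv.mulLeft h) fun g => ρ g * P * ρ g⁻¹ * ρ h]
    refine Finset.sum_congr rfl fun g _ => ?_
    simp only [Equiv.coe_mulLeft, mul_inv_rev, map_mul, mul_assoc]
    rw [← map_mul ρ h⁻¹ h, inv_mul_cancel, map_one, mul_one]
  refine ⟨LinearMap.ker A, ⟨?_, ?_⟩, fun g w hw => ?_⟩
  · rw [Submodule.disjoint_def]
    intro w hw hk
    rw [LinearMap.mem_ker, hAid w hw] at hk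
    exact (smul_eq_zero.1 hk).resolve_left hH
  · rw [codisjoint_iff, eq_top_iff]
    intro v _
    have hk : v - (Nat.card H : K)⁻¹ • A v ∈ LinearMap.ker A := by
      rw [LinearMap.mem_ker, map_sub, map_smul, hAid _ (hAW v), smul_smul, inv_mul_cancel₀ hH,
        one_smul, sub_self]
    have := Submodule.add_mem_sup (W.smul_mem (Nat.card H : K)⁻¹ (hAW v)) hk
    rwa [add_sub_cancel] at this
  · rw [LinearMap.mem_ker] at hw ⊢
    have := congrArg (fun f => f w) (hAc g)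
    simpa [hw] using this

end Cfsg.Agent.FGS73.Turull
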